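import Cfsg.Agent.Lib.Rec3.RealMod
import Cfsg.Agent.Lib.Sp62.Cover
import Cfsg.Agent.Lib.Symp.Basic

/-! A coded copy of `Sp₆(2)` and its classes of involutions. -/

set_option autoImplicit false
set_option maxRecDepth 100000
set_option Elab.async false
set_option synthInstance.maxSize 100000

namespace CfsgLib.Rec3.P6

open Subgroup CfsgLib.W2 CfsgLib.CosetEnum CfsgLib.Tech
open CfsgLib.Sp62 (Sp tau Spin)

noncomputable section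

instance : Fact (28 ≤ 32) := ⟨by norm_num⟩

/-- codes of seven transvections, acting on the quadratic forms of minus type -/
def cS : ℕ → ℕ := nth 0 [0xdeb38bdab49c8a4188205a92839a307b9ac,
  0xdeb19bd6d494e2f839ac5a548398a320820,
  0xdeb38bdab49ca307b9ac290620816a4a0e6,
  0x56918b9eb4348702b9ac5ed39b4de488820,
  0xd6f38bca74ad9d07c5ac4292b3984419420,
  0xdd272bdabace2307b1ae5a9263a0a418022,
  0xdeb38a4e57b56307b98d5a92831ca418801]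

def sP (i : ℕ) : PG 28 := PG.pe (cS i)

theorem spin_sP : Spin sP 1 :=
  ⟨one_mul _, fun _ _ => by simp, by decide +kernel, by decide +kernel, by decide +kernel, by decide +kernel⟩

theorem inj_of {H : Type*} [Group H] {f : Sp →* H} {x : Sp} (h : f x ≠ 1) : Function.Injective f :=
  (MonoidHom.ker_eq_bot_iff f).1 (eq_bot_iff.2 (Symp.center_eq_bot_of_two_eq_zero (m := 3) (F := ZMod 2) rfl ▸
    (Symp.le_center_or_eq_top (Symp.commutator_eq_top_of_three_le le_rfl) f.ker).resolve_right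
      fun e => h (e.ge (mem_top x))))

theorem exists_psi : ∃ ψ : Sp →* PG 28, Function.Injective ψ ∧ ∀ i < 7, ψ (tau i) = sP i := by
  have h1 : ∀ i < 7, [2 * i] ∈ [[0], [2], [4], [6], [8], [10], [12]] := by decide
  have h2 : ∀ y ∈ [[0], [2], [4], [6], [8], [10], [12]], ∃ i < 7, y = [2 * i] := by decide
  obtain ⟨ψ, h3, -⟩ := exists_hom_of_bound (g := sP) (f := tau) (ys := [[0], [2], [4], [6], [8], [10], [12]])
    (N := 1451520) ⟨inferInstance, (card_le_of_le (gen_le.2 fun y hy => by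
      obtain ⟨i, hi, rfl⟩ := h2 y hy
      rw [W2.ev_single]
      exact Sp62.mem_gens _ hi)).trans (spin_sP.prod Sp62.spin_tau).card_le_one⟩ Sp62.card_Sp.ge
    (eq_top_iff.2 (Sp62.cl_tau ▸ Sp62.ev_gens.2 fun i hi => W2.ev_single tau i ▸ ev_mem_gen _ (h1 i hi)))
  have h4 := fun i hi => map_single h3 i (h1 i hi)
  exact ⟨ψ, inj_of (x := tau 0) (by rw [h4 0 (by decide)]; decide +kernel), h4⟩

theorem spok : COk (fun g => (exists_psi.choose g).1) (pcm 28) (pci 28) (Mathieu.pack 28 fun i => i) :=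
  ⟨fun _ _ e => exists_psi.choose_spec.1 (Subtype.ext e), fun a b => by rw [map_mul]; rfl,
    fun a => by rw [map_inv]; rfl, by rw [map_one]; rfl⟩

/-- the coded copy of `Sp₆(2)` -/
abbrev SP : Type := CG spok

theorem cS_eq (i : ℕ) (h : i < 7) : (exists_psi.choose (tau i)).1 = cS i := by
  rw [exists_psi.choose_spec.2 i h]
  revert i
  decide +kernel

/-- the transvections -/
def S (i : ℕ) : SP := if h : i < 7 then ⟨cS i, _, cS_eq i h⟩ else 1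

theorem S_sq (i : ℕ) : S i * S i = 1 := by
  by_cases h : i < 7
  · revert i
    decide +kernel
  · simp [S, h]

/-- the element with a given code -/
def mk (c : ℕ) (w : List ℕ) (h : (ev S w).1 = c) : SP := ⟨c, h ▸ (ev S w).2⟩

def sa : SP := mk 0xdeb38bdab49c8a4188208c1ee6b16a4a0e6 [0, 4] (by decide +kernel)
def sc : SP := mk 0xdc5658288f48dc816b3869c37b558605272 [0, 4, 0, 6, 2, 8, 6, 2, 10, 8, 6, 2, 4, 0, 12, 10, 8, 6, 2, 4, 0, 6, 4, 8] (by decide +kernel)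
def st : SP := mk 0xdc60f5a92520f59c3902bdaad38693930c0 [0, 4, 0, 6, 2, 4, 0, 6, 4, 8, 6, 2, 10, 8, 6, 2, 4, 0, 12, 10, 8, 6, 2, 4, 0, 6, 4] (by decide +kernel)
def sx : SP := mk 0xdeb38bdab49c8a4188205a92839a307b9ac [0] (by decide +kernel)
def sq : SP := mk 0xd99f9a8964a3438838764b2f23c66542b40 [4, 0, 6, 8, 6, 2, 4, 0, 10, 8, 6, 2, 4, 0, 6, 4, 8, 6, 10, 12, 10, 8, 6, 2] (by decide +kernel)
def sv : SP := mk 0x3eb385a9349ca30781a2bdaa8d98a41b02e [4, 0, 6, 2, 4, 6, 8, 10, 12, 10, 8, 6, 2, 4, 0, 6, 4] (by decide +kernel)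

/-- a polycyclic series of a Sylow 2-subgroup -/
def pcs : List SP := [mk 0x3eb385a9349ca30781a2bdaa8d98a41b02e [4, 0, 6, 2, 4, 6, 8, 10, 12, 10, 8, 6, 2, 4, 0, 6, 4] (by decide +kernel),
  mk 0x7460fbdab49cb59c6dac5a928004a4188c7 [6, 2, 4, 6, 8, 6, 2, 4, 6] (by decide +kernel),
  mk 0xde33aadaf29d1f08b9ac4a9683986428820 [8, 6, 4, 0, 10, 8, 6, 2, 4, 6, 8, 10, 12, 10, 8, 6, 2, 4, 0, 6, 4, 8, 6, 10, 8] (by decide +kernel),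
  mk 0x6b38bdaa520e3079d0c5a92d71a939083b [0, 6, 2, 4, 6, 8, 10, 8, 6, 2, 4, 0, 6] (by decide +kernel),
  mk 0xde8d84d97444a217b88caaaf33e4ad18a00 [2, 6, 8, 10, 12, 10, 8, 6, 2] (by decide +kernel),
  mk 0xdbf31bb2b46cb10d3a7658924398a81a820 [0, 2, 4, 6, 8, 6, 2, 4, 0] (by decide +kernel),
  mk 0x385f0ba92d190d8c828c5daa5dc51298b4e [12, 10, 8, 6, 2, 4, 0, 6, 4, 8, 6, 2, 10, 8, 6, 4, 0, 12, 10, 8, 6, 2, 4, 6, 8, 10, 12] (by decide +kernel),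
  mk 0x70719625459c8cf86d17156cd046841af47 [4, 6, 2, 8, 6, 2, 4, 6, 8, 10, 8, 6, 2, 4, 0, 6, 4, 8, 6, 2, 10, 8, 12, 10, 8, 6, 2, 4, 6, 8, 10] (by decide +kernel),
  mk 0xdc9145d9383686d28202baab93cde18b08e [2, 4, 0, 6, 2, 4, 0, 6, 4, 8, 6, 2, 4, 6, 10, 8, 6, 2, 4, 0, 6, 4, 12, 10, 8, 6, 2, 4, 0, 6, 4] (by decide +kernel)]

/-- the generators -/
def fS : ℕ → SP := gv [sa, sc, st, sx, sq, sv]

theorem sp_rels : ∀ r ∈ sqW [2, 3, 5] ++ pSp_rels, ev fS r = 1 := by decide +kernel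

theorem sp_gen : gen fS ys6 = ⊤ := eq_top_iff.2 fun x _ => by
  obtain ⟨x, rfl⟩ := (CG.eqv spok).surjective x
  refine (Sp62.ev_gens (K := (gen fS ys6).comap (CG.eqv spok).toMonoidHom)).2 (fun i hi => ?_)
    (Sp62.cl_tau.ge (mem_top x))
  obtain ⟨h1, h2⟩ := (by decide +kernel : ∀ i < 7, (∀ x ∈ nth [] [[6], [3, 1, 6, 2], [1, 6], [3, 10, 2], [8, 1, 10, 0, 9], [2, 6, 3], [2, 1, 6, 3]] i,
    [2 * (x / 2)] ∈ ys6) ∧ (ev fS (nth [] [[6], [3, 1, 6, 2], [1, 6], [3, 10, 2], [8, 1, 10, 0, 9], [2, 6, 3], [2, 1, 6, 3]] i)).1 = cS i) i hi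
  have h3 := ev_mem (g := fS) (H := gen fS ys6) fun x hx => W2.ev_single fS _ ▸ ev_mem_gen _ (h1 x hx)
  rwa [Subtype.ext (h2.trans (cS_eq i hi).symm : _ = (CG.eqv spok (tau i)).1)] at h3

theorem card_SP : Nat.card SP = 1451520 := (Nat.card_congr (CG.eqv spok).toEquiv).symm.trans Sp62.card_Sp

theorem sp_inj {H : Type*} [Group H] {f : SP →* H} {x : SP} (h : f x ≠ 1) : Function.Injective f :=
  Function.Injective.of_comp_right (g := CG.eqv spok) (inj_of (f := f.comp (CG.eqv spok).toMonoidHom)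
    (x := (CG.eqv spok).symm x) (by simpa using h)) (CG.eqv spok).surjective

def mE (a b : ℕ) : ℕ := Nat.xor a b

def iE (a : ℕ) : ℕ := a

theorem tokE : TOk 64 mE iE :=
  (SOk.of_light (gs := [1, 2, 4, 8, 16, 32]) (D := 1) (by decide +kernel)).tok (by decide +kernel)

def mK (a b : ℕ) : ℕ := tab2 3 7 8 0x213b3705a97e681fa54c8dec977053b3e21ade54c1fac688 a b

def iK (a : ℕ) : ℕ := tab1 3 7 0xdec688 a

theorem tokK : TOk 8 mK iK :=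
  (SOk.of_light (gs := [2, 4]) (D := 2) (by decide +kernel)).tok (by decide +kernel)

def aT (s a : ℕ) : ℕ := tab2 6 63 64 0x10530d925b2d18738f9a7bafefacf26da4d2e78c7065845051571dd35f3d59779fdb7fbfaea8e22ca0c2a68860248040411619bee9e649369bb6c964c31e393ce1c6cb3ebb34c14451571daea8e259779fa68860d35f3d2ca0c2db7fbf248040ffedf6bee9e6f7cd74b6c964efacf2aea8e2e78c70a688607de5d63ce1c675c55434c1446da4d22ca0c2658450248040821a29925b2d8a3aab9a7bafc31e39d35f3dcb3ebbdb7fbf7de5d66da4d275c5546584503ce1c62ca0c234c144248040411493c31cb361969be39ebbbeeb6c3ce34c9e69641c6144515597d35db771d79ff3dfbfaeaa682ca2488e28600c2040105187efae7830d38fcf2c709259a76da658b2dbaf4d2450515597aeaa6871d79f8e2860d35db72ca248f3dfbf0c20408218a3c31cb3a29aabe39ebb9259a7d35db7b2dbaff3dfbf7de75c3ce34c5d65541c61446da6582ca2484d24500c2040ffef7cefae78df6d74cf2c70beeb6caeaa689e69648e28607de75c6da6585d65544d24503ce34c2ca2481c61440c2040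 s a

def iT (a : ℕ) : ℕ :=
  Nat.add (aT (iK (Nat.div a 64)) (iE (Nat.mod a 64))) (Nat.mul 64 (iK (Nat.div a 64)))

theorem tokT : TOk 512 (sdm 64 mE mK aT) iT :=
  (tokE.toSOk.sd tokK.toSOk (by decide +kernel)).tok (by decide +kernel)

/-- a Sylow 2-subgroup -/
abbrev TT : Type := TG tokT

/-- its embedding -/
def th : TT →* SP := TG.homOf (gs := [TG.o 2, TG.o 4, TG.o 128, TG.o 256]) (D := 5) (by decide +kernel)
  (fun a => wd pcs a.v) (by decide +kernel) (by decide +kernel)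

theorem th_inj : Function.Injective th := (injective_iff_map_eq_one _).2 (by decide +kernel)

theorem th_vals : th (TG.o 11) = st ∧ th (TG.o 1) = sv := by decide +kernel

theorem th_cen : ∀ a : TT, a * TG.o 11 = TG.o 11 * a ∧ a * TG.o 1 = TG.o 1 * a := by decide +kernel

theorem th_sylow : IsSylowIn 2 th.range ⊤ := by
  have h1 : Nat.card th.range = 2 ^ 9 := (Nat.card_congr (th.ofInjective th_inj).toEquiv).symm.trans TG.card_eq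
  refine ⟨le_top, IsPGroup.of_card h1, ?_⟩
  have := card_mul_relIndex' (le_top (a := th.range))
  rw [h1, card_top, card_SP] at this
  omega

/-- conjugation by a product of transvections -/
def cjw (w : List ℕ) (x : SP) : SP := List.rec x (fun d _ ih => S d * ih * S d) w

theorem isConj_cjw (x : SP) : ∀ w, IsConj x (cjw w x)
  | [] => IsConj.refl x
  | d :: w => (isConj_cjw x w).trans (isConj_iff.2 ⟨S d, by rw [inv_eq_of_mul_eq_one_right (S_sq d)]; rfl⟩)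

/-- words for `1, r3, w0, i0, t0` -/
def rw5 : ℕ → List ℕ := nth [] [[], [3, 6, 2], [2, 6, 3, 6], [2, 6, 2, 6, 2, 6], [4]]

/-- representatives of the classes of involutions -/
def rep (j : ℕ) : SP := ev fS (rw5 j)

/-- the class of an involution -/
def ct (a : TT) : ℕ := tab1 3 7 0x6c000001b0000006c000001b5000000140000005000000140000000000000000000000008806c002201b6c050001b01400000000000071a0004e300000000000000000071a0004e30007130006a30000000000000000000000000007130006a300000000000000000000000089b0006d400000089b0006d42934dc4db8da4e36da71a69151b6da6e26916da891691448 a.v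

/-- conjugating elements -/
def wt : List (List ℕ) := [[],[4,3,5,4],[4,3,2,0,5,4,6,5],[2,3,1,4,3,1,2,3,5,6],[],[2,3,1,4,3,1,2,0,3,2,4,3,5,6,5,4,3,2],[2,3,1,4,3,1,2,5,4,3,6,5,4,3],[1,2,3,1,4,3,1,2,3,5,6],[4,3,2,5,4,6],[2,3,1,4,3,1,2,0,3,2,6,5],[2,3,4,3,1,2,0,3],[],[2,3,1,4,3,1,2,0,3,2,4,3,6,5,4,3],[1,2,3,1,4,3,1,2,0,3,2,6,5],[1,2,3,4,3,1,2,0,3],[2,0,3,4,3,1,2,0,3,5,4,3,2],[4,3,2,0,5,4,3,2],[2,4,3,1,2,0,3,2,4,5,4,6],[2,0,3,1,4,3,1,6],[2,0,4,3,1,6,5,4,3],[2,4,3,1,2,0,3,2,4,3,5,6,5,4],[4,3,2,5,4,6],[1,2,0,3,1,4,3,1,6],[2,4,3,1,2,5,6,5,4],[2,3,1,4,3,1,6,5],[2,3,4,3,1,6,5,4,3],[2,0,3,4,3,1,2,3,5,4,6],[1,2,3,4,3,1,2],[1,2,3,1,4,3,1,6,5],[2,4,3,1,2,0,3,5,4,3,6],[0,3],[2,3,4,3,1,2],[4,3,2,5,4,3,6,5],[2,3,1,4,3,1,2,0,5,6],[2,4,3,1,2,3,5,4],[1,2,4,3,1,2,3,5,4],[2,3,1,4,3,1,2,0,5,4,3,6,5,4],[1,2,3,1,4,3,1,2,0,5,6],[0,3,4,3,5,4],[2,0,3,4,3,1,2,5,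6,5,4],[2,0,3,1,4,3,1,2,0,3],[2,0,3,1,4,3,1,2,0,3,4,5,4],[2,4,3,1,2,3,5,4,6],[1,2,0,3,4,3,1,6,5],[1,2,0,3,1,4,3,1,2,0,3],[0,2,0,3,2,0],[2,0,3,4,3,1,6,5,4],[2,0,3,4,3,1,6,5],[2,3,4,3,1,6],[2,4,3,1,6,5,4],[2,4,3,1,2,0,3,5,4,3,2],[4,3,5,4],[1,2,3,4,3,1,6],[2,0,4,3,1,5,6,5,4,3,2],[1,2,4,3,1,2,0,3,4,5,4],[2,4,3,1,2,0,3,4,5,4],[0,3,2,6],[1,2,0,3,1,4,3,1,2],[1,2,3,1,4,3,1,2,5,6,5],[2,3,1,4,3,1,2,3,5,4,3,6,5,4],[2,0,3,1,4,3,1,2,3,5,4],[2,0,3,1,4,3,1,2],[2,3,1,4,3,1,2,5,6,5],[4,3,2,0,5,4,3,6],[0,2,0,4,5,6],[2,3,4,3,1,2,3,4,5,6,5,4],[1,2,4,3,1,5,4,3,6,5],[2,3,4,3,1,2,0,3,4,6],[],[],[],[],[1,2,0,4,3,1,2,3,5,6],[2,3,4,3,1,2,3,4,6,5],[2,0,4,3,1,2,0,3,2,4],[2,3,2,4,3,2],[],[],[],[],[],[],[],[],[0,3,1],[2,3,4,3,2],[1,2,3,1,4,3,6,5],[2,4,3,2,0,5,4,6,5,4],[],[],[],[],[1,2,0,3,1,4,3,6],[2,4,3,2,5,6,5,4],[2,4,3,1,2,0,3,2,4,3,1,5,6,5,4],[4,3,1,2,5,4,6],[]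,[],[],[],[],[],[],[],[],[],[],[],[],[],[],[],[],[],[],[],[],[],[],[],[],[],[],[],[],[],[],[],[2,3,4,3,1,2,0,3,2,4],[3,2,4,3],[2,3,1,4,3,1,2,3,4,6,5,4],[2,3,1,4,3,1,2,3,4,5,6,5],[],[],[],[],[1,2,0,4,3,1,2,0,3,2,6,5],[2,0,4,3,1,2,0,3,4,6],[0,4,6,5],[2,0,4,3,1,2,3,5],[],[],[],[],[],[],[],[],[],[],[],[],[],[],[],[],[],[],[],[],[],[],[],[],[],[],[],[],[],[],[],[],[],[],[],[],[1,2,0,3,1,4,3,2],[0,3,1,2,6],[2,3,1,4,3,1,2,3,5,4,3,1,6,5,4],[1,2,3,1,4,3,2,5,6,5],[],[],[],[],[2,4,3,6,5,4],[2,3,4,3,6],[4,3,1,5,4],[2,0,3,4,3,2,0,5,4,6,5,4],[],[],[],[],[2,0,4,3,1,2,0,3],[2,4],[2,3,1,4,3,1,2,0,3,4,5,6],[2,3,1,4,3,1,2,0,3,6,5,4],[],[],[],[],[2,0,4,3,1,2,3,4,6,5],[2,0,4,3,1,2,0,3,2,6],[3,2,0,4,3,5],[2,3,1,4,3,1,2,0,3,2,4,5],[],[],[],[],[],[],[],[],[],[],[],[],[],[],[],[],[],[],[],[],[],[],[],[],[1,2,0,3,1,4,3,2,0,5],[0,2,0,3,1,2,0],[2,0,3,4,3,6,5,4],[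2,0,3,4,3,6,5],[],[],[],[],[2,3,1,4,3,1,2,0,5,4,3,1,6,5,4],[1,2,3,1,4,3,2,0,5,6],[0,3,4,3,1,5,4],[2,0,3,4,3,2,5,6,5,4],[],[],[],[],[],[],[],[],[],[],[],[],[],[],[],[],[2,3,4,3,1,2],[2,0,4,3,1,2,0,3,2,4,3,1],[],[],[2,0,3,2,4,3,2,0,5,4,3,2],[1,2,3,1,2,4,3,1,2,5,4,3,1,2],[],[],[],[],[3],[2,3,4,3,1,2,0],[],[],[2,0,3,4,3,1,2,0,3,5,4,6],[1,2,3,4,3,1,2,0],[],[2,0,3,1,2,4,3,5,4,6],[],[],[],[0,3,1,2,3,4,3,2],[],[],[],[],[1,2,3,4,3,1,2,3],[2,0,3,4,3,1,2,3,5,4,3,6],[],[],[2,3,4,3,1,2,3],[0],[],[],[],[],[],[],[],[],[],[],[],[],[],[],[],[],[],[],[],[],[],[],[],[],[],[],[],[],[],[],[],[],[3,1],[2,3,4,3,2,0],[],[],[],[],[],[],[],[],[2,3,4,3,2],[2,0,4,3,1,2,0,3,2,4,3],[],[],[],[],[],[],[],[],[0,2,4,5,6],[2,3,4,3,1,2,0,3,4,5,6,5,4],[],[],[],[],[],[],[],[],[4,3,1,2,5,4,3,6],[2,4,3,1,2,0,3,2,4,3,1,5,6,5,4,3],[1,2,0,3,1,4,6,5],[2,4,3,2,5,4,6,5,4,3],[],[],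[],[],[],[],[],[],[2,4,3,1,2,0,3,4,6,5],[1,2,4,3,1,5,4,6],[],[],[],[],[],[],[],[],[1,2,0,4,3,1,2,5,6,5],[2,4,3,1,2,3,4,6],[],[],[],[],[],[],[],[],[2,4,3,2,0,5,6,5,4,3],[1,2,3,1,4,6],[],[],[],[],[],[],[],[],[],[],[],[],[],[],[],[],[],[],[],[],[],[],[],[],[],[],[],[],[],[],[],[],[],[],[],[],[],[],[],[],[],[],[],[],[],[],[],[],[],[],[],[],[],[],[],[],[],[],[],[],[],[],[],[],[],[],[],[],[],[],[],[],[],[],[],[],[],[],[],[],[],[],[],[],[],[],[],[],[],[],[],[],[],[],[],[],[],[],[],[],[],[],[],[],[],[],[],[],[],[],[],[],[],[],[],[],[],[],[],[],[],[],[],[],[],[],[],[]]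

theorem cls' : ∀ a : TT, a * a = 1 → ct a < 5 ∧ cjw (nth [] wt a.v) (th a) = rep (ct a) := by decide +kernel

theorem cls {a : TT} (h : a * a = 1) {j : ℕ} (e : ct a = j) : IsConj (th a) (rep j) :=
  e ▸ (cls' a h).2 ▸ isConj_cjw _ _

theorem into {K : Subgroup SP} (hK : th.range ≤ K) {u : SP} (hu : u ∈ K) (h : u * u = 1) :
    ∃ c ∈ K, ∃ a, a * a = 1 ∧ th a = c * u * c⁻¹ := by
  obtain ⟨c, hc, a, e⟩ := (th_sylow.of_le hK le_top).exists_conj_mem hu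
    (isPGroup_zpowers_of_pow (k := 1) (by rw [pow_one, pow_two, h]))
  exact ⟨c, hc, a, th_inj (by rw [map_mul, e, conj_mul, h]; simp), e⟩

theorem le_t : th.range ≤ Cx st ⊓ Cx sv := by
  rintro _ ⟨a, rfl⟩
  rw [← th_vals.1, ← th_vals.2]
  exact ⟨mem_Cx.2 (by rw [← map_mul, (th_cen a).1, map_mul]), mem_Cx.2 (by rw [← map_mul, (th_cen a).2, map_mul])⟩

theorem sp_c1 {u : SP} (h : u * u = 1) : ∃ j < 5, IsConj u (rep j) := by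
  obtain ⟨c, -, a, ha, e⟩ := into le_top (mem_top u) h
  exact ⟨_, (cls' a ha).1, (isConj_iff.2 ⟨c, e.symm⟩).trans (cls ha rfl)⟩

theorem sp_c2 {u : SP} (h : u * u = 1) (ht : u ∈ Cx st) : u = st ∨ (∃ j < 4, IsConj u (rep j)) ∨
    IsConj (st * u) (rep 4) ∨ IsConj (st * u) (rep 2) := by
  obtain ⟨c, hc, a, ha, e⟩ := into (le_t.trans inf_le_left) ht h
  have h1 : IsConj (st * u) (th (TG.o 11 * a)) :=
    isConj_iff.2 ⟨c, by rw [map_mul, e, ← conj_mul, mem_Cx'.1 hc, th_vals.1]⟩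
  obtain ⟨h2, rfl | h3 | h3 | h3⟩ := (by decide +kernel : ∀ a : TT, a * a = 1 → TG.o 11 * a * (TG.o 11 * a) = 1 ∧
    (a = TG.o 11 ∨ ct a < 4 ∨ ct (TG.o 11 * a) = 4 ∨ ct (TG.o 11 * a) = 2)) a ha
  · exact Or.inl (by simpa using e.symm.trans (th_vals.1.trans (mem_Cx'.1 hc).symm))
  · exact Or.inr (Or.inl ⟨_, h3, (isConj_iff.2 ⟨c, e.symm⟩).trans (cls ha rfl)⟩)
  · exact Or.inr (Or.inr (Or.inl (h1.trans (cls h2 h3))))
  · exact Or.inr (Or.inr (Or.inr (h1.trans (cls h2 h3))))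

theorem sp_c3 {u : SP} (h : u * u = 1) (ht : u ∈ Cx st) (hv : u ∈ Cx sv) : u = st ∨ (∃ j < 4, IsConj u (rep j)) ∨
    ∃ j < 5, j ≠ 1 ∧ IsConj (sv * st * u) (rep j) := by
  obtain ⟨c, hc, a, ha, e⟩ := into le_t ⟨ht, hv⟩ h
  obtain ⟨h2, rfl | h3 | h3⟩ := (by decide +kernel : ∀ a : TT, a * a = 1 →
    TG.o 1 * TG.o 11 * a * (TG.o 1 * TG.o 11 * a) = 1 ∧
    (a = TG.o 11 ∨ ct a < 4 ∨ ct (TG.o 1 * TG.o 11 * a) ≠ 1)) a ha
  · exact Or.inl (by simpa using e.symm.trans (th_vals.1.trans (mem_Cx'.1 hc.1).symm))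
  · exact Or.inr (Or.inl ⟨_, h3, (isConj_iff.2 ⟨c, e.symm⟩).trans (cls ha rfl)⟩)
  · refine Or.inr (Or.inr ⟨_, (cls' _ h2).1, h3, (isConj_iff.2 ⟨c, ?_⟩).trans (cls h2 rfl)⟩)
    rw [map_mul, map_mul, e, ← conj_mul, ← conj_mul, mem_Cx'.1 hc.1, mem_Cx'.1 hc.2, th_vals.1, th_vals.2]

theorem sp_c4 : IsConj (sv * st) (rep 2) ∧ ∃ u, u ≠ st ∧ u ∈ Cx st ⊓ Cx sv ∧ IsConj u (rep 4) ∧
    IsConj (st * u) (rep 4) := by
  rw [← th_vals.1, ← th_vals.2, ← map_mul]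
  refine ⟨cls (by decide +kernel) (by decide +kernel), th (TG.o 21), th_inj.ne (by decide +kernel),
    th_vals.1 ▸ th_vals.2 ▸ le_t ⟨_, rfl⟩, cls (by decide +kernel) (by decide +kernel), ?_⟩
  rw [← map_mul]
  exact cls (by decide +kernel) (by decide +kernel)

end

end CfsgLib.Rec3.P6
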