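import Mathlib
import Cfsg.Agent.Lib.W2.LocPerm

/-!
Backtrack search in `PG n` and `AG n`: all `g` with `g * x = y * g` for the pairs `(x, y)` of a list,
optionally with `g * g = 1`.
-/

set_option autoImplicit false

namespace CfsgLib.Rec3

open CfsgLib.W2 CfsgLib.CosetEnum CfsgLib.Mathieu Equiv

/-- Depth first search; `ok k c` tests the first `k` entries of `c`. -/
noncomputable def allQ (n : ℕ) (ok : ℕ → ℕ → Bool) (p : ℕ → Bool) (r : ℕ) : ℕ → ℕ → ℕ → Bool :=
  Nat.rec (fun _ _ c => p c) (fun _ ih k U c => allN (fun v => Bool.rec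
    (force (Nat.lor c (Nat.shiftLeft v (Nat.mul 5 k))) fun c' => force (Nat.succ k) fun k' =>
      Bool.rec true (force (Nat.lor U (Nat.shiftLeft 1 v)) fun U' => ih k' U' c') (ok k' c')) true
    (bit U v)) n) r

theorem allL_intro {α : Type} {p : α → Bool} : ∀ {l : List α}, (∀ a ∈ l, p a = true) → allL p l = true
  | [], _ => rfl
  | a :: l, h => by
    change Bool.rec false (allL p l) (p a) = true
    rw [h a List.mem_cons_self]
    exact allL_intro fun b hb => h b (List.mem_cons_of_mem _ hb)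

variable {n : ℕ} [hn : Fact (n ≤ 32)]

theorem allQ_sound {ok : ℕ → ℕ → Bool} {p : ℕ → Bool} (σ : Perm (Fin n))
    (hok : ∀ k ≤ n, ok k (pack k (app (pc σ))) = true) : ∀ r k U : ℕ, k + r = n →
    (∀ i : Fin n, k ≤ i.1 → U.testBit (σ i) = false) →
    allQ n ok p r k U (pack k (app (pc σ))) = true → p (pc σ) = true
  | 0, k, _, hk, _, h => by
    obtain rfl : k = n := hk
    rw [PG.pack_app_pc] at h
    exact h
  | r + 1, k, U, hk, hU, h => by
    have hkn : k < n := by omega
    have h1 := allN_iff.1 h _ (σ ⟨k, hkn⟩).2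
    rw [bit_eq, hU ⟨k, hkn⟩ le_rfl] at h1
    simp only [force_eq] at h1
    have e : Nat.lor (pack k (app (pc σ))) (Nat.shiftLeft (σ ⟨k, hkn⟩) (Nat.mul 5 k)) =
        pack (k + 1) (app (pc σ)) := by rw [pack_succ, app_pc' σ hkn]; rfl
    rw [e, Nat.succ_eq_add_one, hok (k + 1) hkn] at h1
    refine allQ_sound σ hok r (k + 1) _ (by omega) (fun i hi => ?_) h1
    rw [testBit_lor', hU i (by omega), testBit_one_shiftLeft, Bool.false_or, decide_eq_false_iff_not]
    intro e
    have := σ.injective (Fin.ext e)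
    rw [← this] at hi
    exact absurd hi (by simp)

theorem app_mul (g h : PG n) {i : ℕ} (hi : i < n) : app (g * h).1 i = app g.1 (app h.1 i) :=
  app_pack (fun _ _ => app_lt _ _) hi

theorem app_one {i : ℕ} (hi : i < n) : app (1 : PG n).1 i = i :=
  app_pack (f := fun i => i) (fun _ h => h.trans_le hn.out) hi

theorem app_lt_n (g : PG n) {i : ℕ} (hi : i < n) : app g.1 i < n := by
  obtain ⟨_, σ, rfl⟩ := g
  exact app_pc' σ hi ▸ (σ _).2

/-- Test of the relations `g * x = y * g` (and `g * g = 1` if `b`) on a partial code. -/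
noncomputable def okC (b : Bool) (L : List (ℕ × ℕ)) (k c : ℕ) : Bool :=
  allN (fun i => allL (fun xy => Bool.rec true (Nat.beq (app c (app xy.1 i)) (app xy.2 (app c i)))
    (Nat.blt (app xy.1 i) k)) L && Bool.rec true (Nat.beq (app c (app c i)) i)
      (b && Nat.blt (app c i) k)) k

/-- The search. -/
noncomputable def srch (n : ℕ) [Fact (n ≤ 32)] (b : Bool) (L : List (PG n × PG n)) (p : ℕ → Bool) :
    Bool := allQ n (okC b (L.map fun xy => (xy.1.1, xy.2.1))) p n 0 0 0

theorem of_srch {b : Bool} {L : List (PG n × PG n)} {p : ℕ → Bool} (h : srch n b L p = true)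
    {g : PG n} (hg : ∀ xy ∈ L, g * xy.1 = xy.2 * g) (hb : b = true → g * g = 1) : p g.1 = true := by
  have key : ∀ k ≤ n, okC b (L.map fun xy => (xy.1.1, xy.2.1)) k (pack k (app g.1)) = true := by
    intro k hk
    have ha : ∀ {i}, i < k → app (pack k (app g.1)) i = app g.1 i := app_pack fun _ _ => app_lt _ _
    refine allN_iff.2 fun i hi => Bool.and_eq_true_iff.2 ⟨allL_intro fun xy hxy => ?_, ?_⟩
    · obtain ⟨xy, h1, rfl⟩ := List.mem_map.1 hxy
      cases h2 : Nat.blt (app xy.1.1 i) k
      · rfl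
      · change Nat.beq _ _ = true
        rw [ha (Nat.blt_eq ▸ h2), ha hi, ← app_mul _ _ (hi.trans_le hk), hg xy h1,
          app_mul _ _ (hi.trans_le hk), Nat.beq_refl]
    · cases h2 : (b && Nat.blt (app (pack k (app g.1)) i) k)
      · rfl
      · change Nat.beq _ _ = true
        rw [Bool.and_eq_true, ha hi, Nat.blt_eq] at h2
        rw [ha hi, ha h2.2, ← app_mul _ _ (hi.trans_le hk), hb h2.1, app_one (hi.trans_le hk),
          Nat.beq_refl]
  obtain ⟨_, σ, rfl⟩ := g
  exact allQ_sound σ key n 0 0 (zero_add n) (fun _ _ => Nat.zero_testBit _) h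

/-- All `g` with `g * x = y * g` for `(x, y) ∈ L`. -/
theorem pg_conj (L : List (PG n × PG n)) {P : PG n → Prop} [DecidablePred P]
    (h : srch n false L (fun a => decide (P (PG.pe a))) = true) {g : PG n}
    (hg : ∀ xy ∈ L, g * xy.1 = xy.2 * g) : P g := by
  simpa [PG.pe_val] using of_srch h hg (by simp)

/-- The same for `g` with `g * g = 1`. -/
theorem pg_inv (L : List (PG n × PG n)) {P : PG n → Prop} [DecidablePred P]
    (h : srch n true L (fun a => decide (P (PG.pe a))) = true) {g : PG n}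
    (hg : ∀ xy ∈ L, g * xy.1 = xy.2 * g) (hb : g * g = 1) : P g := by
  simpa [PG.pe_val] using of_srch h hg fun _ => hb

/-- The even permutation with a given code (or `1`). -/
noncomputable def ae (a : ℕ) : AG n :=
  if h : (PG.pe a : PG n) ∈ PG.alt n then ⟨PG.pe a, h⟩ else 1

theorem ae_val (g : AG n) : ae g.1.1 = g := by
  unfold ae
  simp only [PG.pe_val]
  exact dif_pos g.2

theorem ag_srch (b : Bool) (L : List (AG n × AG n)) {P : AG n → Prop} [DecidablePred P]
    (h : srch n b (L.map fun xy => (xy.1.1, xy.2.1))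
      (fun a => Bool.rec (decide (P (ae a))) true (PG.oddB n a)) = true) {g : AG n}
    (hg : ∀ xy ∈ L, g * xy.1 = xy.2 * g) (hb : b = true → g * g = 1) : P g := by
  have := of_srch h (g := g.1) (fun xy hxy => by
    obtain ⟨xy, h1, rfl⟩ := List.mem_map.1 hxy
    exact congrArg Subtype.val (hg xy h1)) fun e => congrArg Subtype.val (hb e)
  rw [show PG.oddB n g.1.1 = false from g.2, ae_val] at this
  exact of_decide_eq_true this

end CfsgLib.Rec3
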