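import Cfsg.Agent.Lib.Rec3.JSet
import Cfsg.Agent.Lib.Rec3.PSearch

/-! The model as a subgroup of `S₉`; entry points for the recognition of `S₉` and `A₉`. -/

set_option autoImplicit false
set_option maxRecDepth 100000

namespace CfsgLib.Rec3

open Subgroup Cfsg CfsgLib.Tech CfsgLib.W2 Jx Mono Equiv

/-- the embedding of the model in `S₉` -/
noncomputable def toP : W3 →* PG 9 :=
  TG.homOf (gs := [TG.o 1, TG.o 27, TG.o 216, TG.o 648]) (D := 20) (by decide +kernel)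
    (fun a => PG.pe (pcm 9 (tab1 45 0x1fffffffffff 0x1cc820ca1008e641065008273208328820399032902011cc819480104e640ca410407320a4184023990520c0209cc829062080c8390650804641c8328041320e4194410190719481008c838ca40082641c6520820320e520c201190729060104c83948310408398832840241cc4194020a0e620ca20810730ca408048398652004141cc329041020e629061009073148300828398a418820 (Nat.mod a.v 27))
      (tab1 45 0x1fffffffffff 0x10025191063882028c8831c4009483418e2080a41a0c710025191073082028c88398400948341cc2080a41a0e628c8831c4009464418e2080a41a0c71002520d063882028c88398400946441cc2080a41a0e61002520d0730820418e2004a3220c71040519106388012906831c410148341cc2004a3220e610405191073080129068398410148328c8200506394641040831ca418801418e520c41020c728c82005073146410408398a41880141cc520c41020e61002831ca320820418e5190400a0c729062081063948310028398a32082041cc5190400a0e6290620810731483418e5190400a0c728c8208106394831002831ca41882041cc5190400a0e628c82081073148310028398a418820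 (Nat.div a.v 27))))
    (by decide +kernel) (by decide +kernel)

theorem toP_inj : Function.Injective toP :=
  (injective_iff_map_eq_one toP).2 (by decide +kernel)

theorem toP_vals : toP e1 = PG.pl [1, 2, 0, 3, 4, 5, 6, 7, 8] ∧
    toP e2 = PG.pl [0, 1, 2, 4, 5, 3, 6, 7, 8] ∧ toP e3 = PG.pl [0, 1, 2, 3, 4, 5, 7, 8, 6] ∧
    toP r1 = PG.pl [1, 0, 2, 3, 4, 5, 6, 7, 8] ∧ toP r2 = PG.pl [0, 1, 2, 4, 3, 5, 6, 7, 8] ∧
    toP r3 = PG.pl [0, 1, 2, 3, 4, 5, 7, 6, 8] ∧ toP σ0 = PG.pl [3, 4, 5, 6, 7, 8, 0, 1, 2] ∧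
    toP t0 = PG.pl [3, 4, 5, 0, 1, 2, 6, 7, 8] := by decide +kernel

theorem toP_mem_alt (a : W3) : toP a ∈ PG.alt 9 ↔ a ∈ Rot := by
  revert a; decide +kernel

namespace Jx

theorem range_of_act {g : PG 9} {a b c : V27} (h : Act (toP.comp vec) g a b c) : g ∈ toP.range := by
  have k : ∀ e ∈ [E1, E2, E3], ∀ a : V27, g * toP (vec e) * g⁻¹ = toP (vec a) →
      bit (Fk 0) a.v = true := fun e he a ha => by
    obtain ⟨e1, h⟩ := (by decide +kernel : ∀ e ∈ [E1, E2, E3], toP (vec e) ≠ 1 ∧ ∀ a : V27, a = 1 ∨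
      bit (Fk 0) a.v = true ∨ srch 9 false [(toP (vec e), toP (vec a))] (fun _ => false) = true) e he
    rcases h a with rfl | h | h
    · exact absurd (by simpa using ha) e1
    · exact h
    · exact absurd (of_srch h (g := g) (by simpa using mul_inv_eq_iff_eq_mul.1 ha) (by simp)) (by simp)
  rcases Mono.exists_act a (k E1 (by simp) a h.1) b (k E2 (by simp) b h.2.1) c (k E3 (by simp) c h.2.2)
    with ⟨s, rfl, rfl, rfl⟩ | ⟨v, e, v1⟩
  · have l : ∀ e, (toP (lin s))⁻¹ * g * toP (vec e) = toP (vec e) * ((toP (lin s))⁻¹ * g) := fun e => by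
      have := h.ap e
      rw [ap_act, MonoidHom.comp_apply, MonoidHom.comp_apply, ← lin_vec, map_mul, map_mul, map_inv]
        at this
      rw [mul_assoc, mul_inv_eq_iff_eq_mul.1 this]; group
    obtain ⟨v, hv⟩ := pg_conj [(toP (vec E1), toP (vec E1)), (toP (vec E2), toP (vec E2)),
      (toP (vec E3), toP (vec E3))] (P := fun g => ∃ v, toP (vec v) = g) (by decide +kernel)
      (g := (toP (lin s))⁻¹ * g) (by simp only [List.mem_cons, List.not_mem_nil, or_false,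
        forall_eq_or_imp, forall_eq, l, and_self])
    exact ⟨lin s * vec v, by rw [map_mul, hv, mul_inv_cancel_left]⟩
  · have := h.ap v
    rw [e, map_one, conj_eq_one_iff, map_eq_one_iff (toP.comp vec) (toP_inj.comp vec_inj)] at this
    exact absurd this v1

/-- the embedding in the permutation group -/
noncomputable def θ9 : W3 →* Perm (Fin 9) := (PG.E 9).symm.toMonoidHom.comp toP

theorem E_θ9 (a : W3) : PG.E 9 (θ9 a) = toP a := (PG.E 9).apply_symm_apply _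

theorem θ9_inj : Function.Injective θ9 := (PG.E 9).symm.injective.comp toP_inj

theorem θ9_eq {a : W3} {p : Perm (Fin 9)} (e : toP a = PG.E 9 p) : θ9 a = p :=
  (PG.E 9).injective ((E_θ9 a).trans e)

theorem cent9 {p : Perm (Fin 9)} (h : p * θ9 z0 = θ9 z0 * p) : ∃ a ∈ S3, θ9 a = p := by
  obtain ⟨⟨a, ha⟩, ⟨b, hb⟩, c, hc⟩ := pg_conj [(toP z0, toP z0)] (P := fun g =>
    (∃ a, g * toP (vec E1) * g⁻¹ = toP (vec a)) ∧ (∃ a, g * toP (vec E2) * g⁻¹ = toP (vec a)) ∧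
      ∃ a, g * toP (vec E3) * g⁻¹ = toP (vec a)) (by decide +kernel) (g := PG.E 9 p)
    (by simpa [E_θ9] using congrArg (PG.E 9) h)
  obtain ⟨d, hd⟩ := range_of_act ⟨ha, hb, hc⟩
  obtain rfl := θ9_eq hd
  exact ⟨d, (by decide +kernel : ∀ d : W3, d * z0 = z0 * d → d ∈ S3) d
    (θ9_inj (by rw [map_mul, map_mul, h])), rfl⟩

theorem norm9 {p : Perm (Fin 9)} (h : p ∈ normalizer (J0.map θ9 : Set (Perm (Fin 9)))) :
    p ∈ θ9.range := by
  have k : ∀ e, ∃ a, PG.E 9 p * toP (vec e) * (PG.E 9 p)⁻¹ = toP (vec a) := fun e => by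
    obtain ⟨a, ha, e1⟩ := conj_mem_of_mem_normalizer h (mem_map_of_mem θ9 (vec_mem e))
    exact ⟨vp a, by rw [← eq_vec a ha, ← E_θ9, ← E_θ9, e1, map_mul, map_mul, map_inv]⟩
  obtain ⟨a, ha⟩ := k E1
  obtain ⟨b, hb⟩ := k E2
  obtain ⟨c, hc⟩ := k E3
  obtain ⟨d, hd⟩ := range_of_act ⟨ha, hb, hc⟩
  exact ⟨d, θ9_eq hd⟩

theorem J9 : Subgroup.closure {swap (0 : Fin 9) 1 * swap 1 2, swap (3 : Fin 9) 4 * swap 4 5,
    swap (6 : Fin 9) 7 * swap 7 8} = J0.map θ9 := by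
  have e1' : θ9 e1 = swap 0 1 * swap 1 2 := θ9_eq (by decide +kernel)
  have e2' : θ9 e2 = swap 3 4 * swap 4 5 := θ9_eq (by decide +kernel)
  have e3' : θ9 e3 = swap 6 7 * swap 7 8 := θ9_eq (by decide +kernel)
  rw [← e1', ← e2', ← e3']
  refine le_antisymm ((closure_le _).2 ?_) (map_le_iff_le_comap.2 fun a ha =>
    mem_comap.2 (TG.map_mem_of_sp θ9 (gs := [e1, e2, e3]) (D := 6) ?_
      ((by decide +kernel : ∀ a ∈ J0, bit (TG.sp [e1, e2, e3] 6) a.v = true) a ha)))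
  · rintro _ (rfl | rfl | rfl)
    exacts [mem_map_of_mem _ mems.1, mem_map_of_mem _ mems.2.1, mem_map_of_mem _ mems.2.2.1]
  · simp only [List.mem_cons, List.not_mem_nil, or_false, forall_eq_or_imp, forall_eq]
    exact ⟨subset_closure (by simp), subset_closure (by simp), subset_closure (by simp)⟩

variable {G : Type*} [Group G] {A : Subgroup W3} {ι : W3 → G}

theorem emb_of_equiv {H : Subgroup G} {K : Subgroup (Perm (Fin 9))} (e : H ≃* K)
    (hK : K = A.map θ9) : ∃ ι : W3 → G, Emb A ι ∧ img ι A = H := by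
  classical
  subst hK
  let ι : W3 → G := fun a => if h : a ∈ A then e.symm ⟨θ9 a, mem_map_of_mem _ h⟩ else 1
  have k : ∀ {a} (h : a ∈ A), ι a = e.symm ⟨θ9 a, mem_map_of_mem _ h⟩ := fun h => dif_pos h
  refine ⟨ι, ⟨fun ha hb => ?_, fun ha hb h => ?_⟩, le_antisymm (im_le.2 fun a ha => ?_) fun g hg => ?_⟩
  · rw [k ha, k hb, k (mul_mem ha hb), ← coe_mul, ← map_mul]
    exact congrArg _ (congrArg _ (Subtype.ext (map_mul _ _ _)))
  · rw [k ha, k hb] at h
    exact θ9_inj (congrArg Subtype.val (e.symm.injective (Subtype.ext h)))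
  · rw [k ha]; exact Subtype.prop _
  · obtain ⟨a, ha, h⟩ := (e ⟨g, hg⟩).2
    have := mem_im_of (ι := ι) ha
    rwa [k ha, show (⟨θ9 a, _⟩ : A.map θ9) = e ⟨g, hg⟩ from Subtype.ext h, e.symm_apply_apply] at this

theorem img_id (K : Subgroup W3) : img id K = K := by simp [img]

theorem js0_id : JS0 B3 id := ⟨⟨fun _ _ => rfl, fun _ _ e => e⟩, S0_le.2.2.2.2.2, by
  rw [img_id, img_id, normalizer_eq_top]; exact (eq_top_iff.2 fun a _ => mem_B3 a).symm⟩

theorem emb_eq_J (h : Emb A ι) {E : Subgroup G} (hE : E ≤ img ι A)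
    (hc : ∀ x ∈ E, ∀ y ∈ E, x * y = y * x) (h3 : ∀ x ∈ E, x ^ 3 = 1) (h27 : Nat.card E = 27) :
    img ι J0 = E := by
  let K := (E.comap h.hom).map A.subtype
  have hK : K ≤ A := map_subtype_le _
  have m : ∀ a ∈ K, ι a ∈ E := by rintro _ ⟨a, ha, rfl⟩; exact ha
  have e : img ι K = E := le_antisymm (im_le.2 m) fun g hg => by
    obtain ⟨a, ha, rfl⟩ := (h.mem_im le_rfl).1 (hE hg)
    exact mem_im_of ⟨⟨a, ha⟩, hg, rfl⟩
  rw [← e, js0_id.eq_J (E := K) (fun a _ => mem_im_of (ι := id) (mem_B3 a))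
    (fun a ha b hb => (h.comm_iff (hK ha) (hK hb)).1 (hc _ (m a ha) _ (m b hb)))
    (fun a ha => (h.eq_one_iff (pow_mem (hK ha) 3)).1 ((h.pow (hK ha) 3).trans (h3 _ (m a ha))))
    (by rw [← h.card_im hK, e, h27]), img_id]

end Jx

variable {G : Type*} [Group G] [Finite G]

/-- the hypotheses of S3343 -/
theorem exists_JS_cent9 (x : G) (hx : orderOf x = 3)
    (eC : Subgroup.centralizer ({x} : Set G) ≃*
      Subgroup.centralizer ({Equiv.swap (0 : Fin 9) 1 * Equiv.swap 1 2 * Equiv.swap 3 4 *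
        Equiv.swap 4 5 * Equiv.swap 6 7 * Equiv.swap 7 8} : Set (Equiv.Perm (Fin 9))))
    (J : Subgroup G) (hJC : J ≤ Subgroup.centralizer ({x} : Set G)) (hJcomm : IsMulCommutative J)
    (hJexp : ∀ j ∈ J, j ^ 3 = 1) (hJcard : Nat.card J = 27)
    (hJsig : ∀ K : Subgroup G, (Nat.card K).Coprime 3 →
      (∀ j ∈ J, K.map (MulAut.conj j).toMonoidHom = K) → K = ⊥) :
    ∃ (A : Subgroup W3) (ι : W3 → G), JS A ι ∧ img ι J0 = J ∧ ι z0 = x ∧ Cx (ι z0) = img ι S3 ∧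
      (A = S3 ∨ A = S3x2 ∨ A = D3 ∨ A = B3) := by
  have cz : ∀ a ∈ S3, a * z0 = z0 * a := by decide +kernel
  obtain ⟨ι, h, hC⟩ := emb_of_equiv (A := S3) eC (by
    rw [← θ9_eq (a := z0) (p := swap 0 1 * swap 1 2 * swap 3 4 * swap 4 5 * swap 6 7 * swap 7 8)
      (by decide +kernel)]
    ext p
    rw [mem_centralizer_singleton_iff]
    exact ⟨cent9, by rintro ⟨a, ha, rfl⟩; rw [← map_mul, cz a ha, map_mul]⟩)
  change _ = Cx x at hC
  have hc : ∀ a ∈ J, ∀ b ∈ J, a * b = b * a := fun a ha b hb => setLike_mul_comm ha hb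
  obtain rfl := emb_eq_J h (hC ▸ hJC) hc hJexp hJcard
  have hS := S0_le.1
  have hJ := J0_le_S0.trans hS
  have ex : ∀ {g}, g ∈ Cx x → ∃ a ∈ S3, ι a = g := fun hg => (h.mem_im le_rfl).1 (hC ▸ hg)
  have cx : ∀ {a}, a ∈ S3 → ι a ∈ Cx x := fun ha => hC ▸ mem_im_of ha
  obtain ⟨m1, m2, m3, mz, -, -, mσ, mσ'⟩ := mems
  have mt : t0 ∈ S3 := by decide +kernel
  have hz : ι z0 ∈ zpowers x := by
    obtain ⟨a, ha, rfl⟩ := ex (mem_Cx.2 rfl)
    have k : ∀ b ∈ S3, b * a = a * b := fun b hb => (h.comm_iff hb ha).1 (mem_Cx.1 (cx hb))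
    rcases (by decide +kernel : ∀ a : W3, e1 * a = a * e1 → σ0 * a = a * σ0 → t0 * a = a * t0 →
      a = 1 ∨ a = z0 ∨ a = z0⁻¹) a (k _ (hJ m1)) (k _ (hS mσ)) (k _ mt) with rfl | rfl | rfl
    · simp [h.one] at hx
    · exact mem_zpowers _
    · rw [h.inv (hJ mz), zpowers_inv]; exact mem_zpowers _
  obtain ⟨A, κ, h1, h2, -, h3, h4⟩ := exists_JS0 (σ := ι σ0) (t := ι t0) (S := img ι S0)
    (J := img ι J0) hx (sylow_of (h.im_pgroup hS S0_pgroup) (hC ▸ im_mono hS) fun g hg _ ⟨n, e⟩ => by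
      obtain ⟨a, ha, rfl⟩ := ex hg
      exact mem_im_of ((by decide +kernel : ∀ a ∈ S3, a ^ 9 = 1 → a ∈ S0) a ha
        (pow_nine ((h.eq_one_iff (pow_mem ha _)).1 ((h.pow ha _).trans e)))))
    ((h.card_im hS).trans cards.2.1) (im_mono J0_le_S0) hc hJexp hJcard (fun g hg k => by
      obtain ⟨a, ha, rfl⟩ := ex hg
      have l : ∀ y ∈ J0, a * y = y * a := fun y hy => (h.comm_iff ha (hJ hy)).1 (k _ (mem_im_of hy))
      exact mem_im_of ((by decide +kernel : ∀ a : W3, a * e1 = e1 * a → a * e2 = e2 * a →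
        a * e3 = e3 * a → a ∈ J0) a (l _ m1) (l _ m2) (l _ m3)))
    (mem_im_of mσ) (fun e => mσ' ((h.mem_im_iff hJ (hS mσ)).1 e))
    (by rw [← h.pow (hS mσ), show σ0 ^ 3 = 1 by decide +kernel, h.one]) (fun y hy e => by
      obtain ⟨v, hv, rfl⟩ := (h.mem_im hJ).1 hy
      rcases S0_cent _ mσ mσ' v hv ((h.comm_iff (hS mσ) (hJ hv)).1 e) with rfl | rfl | rfl
      exacts [h.one ▸ one_mem _, hz, h.inv (hJ mz) ▸ inv_mem hz])
    (mem_normalizer_of_forall fun y hy => by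
      obtain ⟨v, hv, rfl⟩ := (h.mem_im hJ).1 hy
      rw [h.conj mt (hJ hv)]; exact mem_im_of (J0_conj _ hv)) (cx mt) (by
      rw [h.conj_eq mt (hS mσ) (show _ = σ0⁻¹ by decide +kernel), h.inv (hS mσ), inv_mul_cancel]
      exact one_mem _)
  have hA : A = S3 ∨ A = S3x2 ∨ A = D3 ∨ A = B3 := by tauto
  have h5 : S3 ≤ A := by
    rcases hA with rfl | rfl | rfl | rfl
    exacts [le_rfl, show ∀ a ∈ S3, a ∈ S3x2 by decide +kernel, show ∀ a ∈ S3, a ∈ D3 by decide +kernel,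
      fun a _ => mem_B3 a]
  refine ⟨A, κ, ⟨h1, fun W hW hN => hJsig W hW fun j hj => mem_normalizer_iff_cj.1 (hN (h2 ▸ hj))⟩,
    h2, h3, (eq_of_le_of_card_ge (im_le.2 fun a ha => mem_Cx.2
      ((h1.comm_iff (h5 ha) (h1.J_le mz)).2 (cz a ha))) ?_).symm, hA⟩
  rw [h3, ← hC, h.card_im le_rfl, h1.card_im h5]

/-- the hypotheses of S3339 -/
theorem exists_JS0_rot (J : Subgroup G) (hJcomm : IsMulCommutative J) (hJexp : ∀ a ∈ J, a ^ 3 = 1)
    (hJcard : Nat.card J = 27) (H : Subgroup G) (hH : H = Subgroup.normalizer (J : Set G))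
    (J₀ : Subgroup (Equiv.Perm (Fin 9)))
    (hJ₀ : J₀ = Subgroup.closure {Equiv.swap (0 : Fin 9) 1 * Equiv.swap 1 2,
      Equiv.swap (3 : Fin 9) 4 * Equiv.swap 4 5, Equiv.swap (6 : Fin 9) 7 * Equiv.swap 7 8})
    (eH : H ≃* ↥(alternatingGroup (Fin 9) ⊓
      Subgroup.normalizer (J₀ : Set (Equiv.Perm (Fin 9))))) :
    ∃ ι : W3 → G, JS0 Rot ι ∧ img ι J0 = J := by
  have k : ∀ a, θ9 a ∈ alternatingGroup (Fin 9) ↔ a ∈ Rot := fun a => by
    rw [← PG.E_mem_alt, E_θ9, toP_mem_alt]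
  obtain ⟨ι, h, hC⟩ := emb_of_equiv (A := Rot) eH (by
    rw [hJ₀, J9]
    refine le_antisymm (fun p hp => ?_) ?_
    · obtain ⟨a, rfl⟩ := norm9 hp.2
      exact mem_map_of_mem _ ((k a).1 hp.1)
    · rintro _ ⟨a, ha, rfl⟩
      exact ⟨(k a).2 ha, le_normalizer_map θ9 (mem_map_of_mem _ ((normalizer_eq_top J0).ge (mem_top a)))⟩)
  obtain rfl := emb_eq_J h (hC ▸ hH ▸ le_normalizer) (fun a ha b hb => setLike_mul_comm ha hb) hJexp
    hJcard
  exact ⟨ι, ⟨h, S0_le.2.2.2.1, hH ▸ hC.symm⟩, rfl⟩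

end CfsgLib.Rec3
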