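import Mathlib
import Cfsg.Agent.Lib.W2.Tab

/-! Certified coset enumerations (generated by tools/cosetenum/w2tc.cpp). -/

set_option maxRecDepth 100000
set_option Elab.async false

namespace CfsgLib.Rec3

open CfsgLib.CosetEnum

/-- generators z p a b v w; relators zzz ppp zpz^-1p^-1 (az)^2 apap^-1 (bp)^2 bzbz^-1 (ab)^2 vzvz^-1 (vp)^3 (bv)^3 (abv)^2 (vp^-1b)^5 wpwp^-1 (wz)^3 (aw)^3 (baw)^2 (wz^-1a)^5 (vw)^2 -/
def pA8r_rels : List (List ℕ) := [[0, 0, 0],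
  [2, 2, 2],
  [0, 2, 1, 3],
  [4, 0, 4, 0],
  [4, 2, 4, 3],
  [6, 2, 6, 2],
  [6, 0, 6, 1],
  [4, 6, 4, 6],
  [8, 0, 8, 1],
  [8, 2, 8, 2, 8, 2],
  [6, 8, 6, 8, 6, 8],
  [4, 6, 8, 4, 6, 8],
  [8, 3, 6, 8, 3, 6, 8, 3, 6, 8, 3, 6, 8, 3, 6],
  [10, 2, 10, 3],
  [10, 0, 10, 0, 10, 0],
  [4, 10, 4, 10, 4, 10],
  [6, 4, 10, 6, 4, 10],
  [10, 1, 4, 10, 1, 4, 10, 1, 4, 10, 1, 4, 10, 1, 4],
  [8, 10, 8, 10]]

def pA8r_1_nets_n0_0 : ℕ := (nat_lit 0x1)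
def pA8r_1_nets_n0_1 : ℕ := (nat_lit 0x1)
def pA8r_1_nets_n0 : Net :=
  (Net.cons pA8r_1_nets_n0_0 (nat_lit 1) (Net.cons pA8r_1_nets_n0_1 (nat_lit 2) Net.nil))
def pA8r_1_nets : List Net := [pA8r_1_nets_n0, Net.nil, Net.nil, Net.nil, Net.nil, Net.nil]
def pA8r_1_rels : List (List ℕ) := [[0, 0, 0]]
theorem pA8r_1_nets_ok : allL (Net.ok 3) pA8r_1_nets = true := by decide +kernel
theorem pA8r_1_rel_s0 : relsAt pA8r_1_nets 3 2 (List.range' 0 2) (sqW [2, 3, 4, 5] ++ pA8r_1_rels) = true := by decide +kernel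
theorem pA8r_1_rel : ∀ w ∈ (sqW [2, 3, 4, 5] ++ pA8r_1_rels), ev (netGen pA8r_1_nets) w = 1 :=
  SlicesOk.rel (K := 2) ((SlicesOk.zero _ _ _ _).step 2 pA8r_1_rel_s0)
    pA8r_1_nets_ok (by norm_num)
theorem pA8r_1_model : Model 3 pA8r_1_nets (imOf [2, 3, 4, 5]) pA8r_1_rels := Model.of_rel pA8r_1_nets_ok pA8r_1_rel
def pA8r_1_t : Tr := (Tr.node (Tr.node Tr.leaf [1] 0 0 0 Tr.leaf) [0] 0 0 0 Tr.leaf)
def pA8r_1_m0 : ℕ := (nat_lit 0x4)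
def pA8r_1_m1 : ℕ := (nat_lit 0x2)
def pA8r_1_p0 : List ℕ := [nat_lit 0x1002001003,
  nat_lit 0x1001001001001]
noncomputable def pA8r_1 : CE where
  p0 := 0
  F := (Nat.sub (Nat.shiftLeft 1 3) 1)
  masks := [pA8r_1_m0, pA8r_1_m1]
  gprog := [0, 1]
  cprog := []
  sids := []
  t0 := pA8r_1_t
  s := 12
  progs := [pA8r_1_p0]
  O := (Nat.sub (Nat.shiftLeft 1 3) 1)
  yids := [0]
theorem pA8r_1_chk : ∃ progs, CE.check { pA8r_1 with progs := progs } pA8r_1_nets (imOf [2, 3, 4, 5]) pA8r_1_rels [] [[0]] = true :=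
  ⟨pA8r_1.progs, by decide +kernel⟩
theorem pA8r_1_idx {Γ : Type*} [Group Γ] {g : ℕ → Γ} (hi : InvOk g (imOf [2, 3, 4, 5])) (hr : ∀ r ∈ pA8r_1_rels, ev g r = 1)
    {H : Subgroup Γ} (hs : ∀ u ∈ ([] : List (List ℕ)), ev g u ∈ H) :
    H.relIndex (gen g [[0]]) ≠ 0 ∧ H.relIndex (gen g [[0]]) ≤ 3 :=
  Reach.relIndex_le pA8r_1_model hi hr hs pA8r_1_chk (by decide +kernel)

def pA8r_2_nets_n1_0 : ℕ := (nat_lit 0x1)
def pA8r_2_nets_n1_1 : ℕ := (nat_lit 0x1)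
def pA8r_2_nets_n1 : Net :=
  (Net.cons pA8r_2_nets_n1_0 (nat_lit 1) (Net.cons pA8r_2_nets_n1_1 (nat_lit 2) Net.nil))
def pA8r_2_nets : List Net := [Net.nil, pA8r_2_nets_n1, Net.nil, Net.nil, Net.nil, Net.nil]
def pA8r_2_rels : List (List ℕ) := [[0, 0, 0],
  [2, 2, 2],
  [0, 2, 1, 3]]
theorem pA8r_2_nets_ok : allL (Net.ok 3) pA8r_2_nets = true := by decide +kernel
theorem pA8r_2_rel_s0 : relsAt pA8r_2_nets 3 2 (List.range' 0 2) (sqW [2, 3, 4, 5] ++ pA8r_2_rels) = true := by decide +kernel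
theorem pA8r_2_rel : ∀ w ∈ (sqW [2, 3, 4, 5] ++ pA8r_2_rels), ev (netGen pA8r_2_nets) w = 1 :=
  SlicesOk.rel (K := 2) ((SlicesOk.zero _ _ _ _).step 2 pA8r_2_rel_s0)
    pA8r_2_nets_ok (by norm_num)
theorem pA8r_2_model : Model 3 pA8r_2_nets (imOf [2, 3, 4, 5]) pA8r_2_rels := Model.of_rel pA8r_2_nets_ok pA8r_2_rel
def pA8r_2_t : Tr := (Tr.node (Tr.node (Tr.node Tr.leaf [3] 0 0 0 Tr.leaf) [2] 0 0 0 Tr.leaf) [0] 0 0 0 (Tr.node Tr.leaf [1] 0 0 0 Tr.leaf))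
def pA8r_2_m0 : ℕ := (nat_lit 0)
def pA8r_2_m1 : ℕ := (nat_lit 0x4)
def pA8r_2_m2 : ℕ := (nat_lit 0)
def pA8r_2_m3 : ℕ := (nat_lit 0x2)
def pA8r_2_p0 : List ℕ := [nat_lit 0x1004003007,
  nat_lit 0x3001002003003,
  nat_lit 0x3002006003001004,
  nat_lit 0x4002003003001003]
noncomputable def pA8r_2 : CE where
  p0 := 0
  F := (Nat.sub (Nat.shiftLeft 1 3) 1)
  masks := [pA8r_2_m0, pA8r_2_m1, pA8r_2_m2, pA8r_2_m3]
  gprog := [1, 3]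
  cprog := []
  sids := [0]
  t0 := pA8r_2_t
  s := 12
  progs := [pA8r_2_p0]
  O := (Nat.sub (Nat.shiftLeft 1 3) 1)
  yids := [0, 1]
theorem pA8r_2_chk : ∃ progs, CE.check { pA8r_2 with progs := progs } pA8r_2_nets (imOf [2, 3, 4, 5]) pA8r_2_rels [[0]] [[0], [2]] = true :=
  ⟨pA8r_2.progs, by decide +kernel⟩
theorem pA8r_2_idx {Γ : Type*} [Group Γ] {g : ℕ → Γ} (hi : InvOk g (imOf [2, 3, 4, 5])) (hr : ∀ r ∈ pA8r_2_rels, ev g r = 1)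
    {H : Subgroup Γ} (hs : ∀ u ∈ ([[0]] : List (List ℕ)), ev g u ∈ H) :
    H.relIndex (gen g [[0], [2]]) ≠ 0 ∧ H.relIndex (gen g [[0], [2]]) ≤ 3 :=
  Reach.relIndex_le pA8r_2_model hi hr hs pA8r_2_chk (by decide +kernel)

def pA8r_3_nets_n2_0 : ℕ := (nat_lit 0x5)
def pA8r_3_nets_n3_0 : ℕ := (nat_lit 0x3)
def pA8r_3_nets_n2 : Net :=
  (Net.cons pA8r_3_nets_n2_0 (nat_lit 1) Net.nil)
def pA8r_3_nets_n3 : Net :=
  (Net.cons pA8r_3_nets_n3_0 (nat_lit 2) Net.nil)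
def pA8r_3_nets : List Net := [Net.nil, Net.nil, pA8r_3_nets_n2, pA8r_3_nets_n3, Net.nil, Net.nil]
def pA8r_3_rels : List (List ℕ) := [[0, 0, 0],
  [2, 2, 2],
  [0, 2, 1, 3],
  [4, 0, 4, 0],
  [4, 2, 4, 3],
  [6, 2, 6, 2],
  [6, 0, 6, 1],
  [4, 6, 4, 6]]
theorem pA8r_3_nets_ok : allL (Net.ok 4) pA8r_3_nets = true := by decide +kernel
theorem pA8r_3_rel_s0 : relsAt pA8r_3_nets 4 2 (List.range' 0 2) (sqW [2, 3, 4, 5] ++ pA8r_3_rels) = true := by decide +kernel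
theorem pA8r_3_rel : ∀ w ∈ (sqW [2, 3, 4, 5] ++ pA8r_3_rels), ev (netGen pA8r_3_nets) w = 1 :=
  SlicesOk.rel (K := 2) ((SlicesOk.zero _ _ _ _).step 2 pA8r_3_rel_s0)
    pA8r_3_nets_ok (by norm_num)
theorem pA8r_3_model : Model 4 pA8r_3_nets (imOf [2, 3, 4, 5]) pA8r_3_rels := Model.of_rel pA8r_3_nets_ok pA8r_3_rel
def pA8r_3_t : Tr := (Tr.node (Tr.node (Tr.node Tr.leaf [6] 0 0 0 Tr.leaf) [2] 0 0 0 (Tr.node Tr.leaf [3] 0 0 0 Tr.leaf)) [0] 0 0 0 (Tr.node (Tr.node Tr.leaf [1] 0 0 0 Tr.leaf) [4] 0 0 0 Tr.leaf))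
def pA8r_3_m0 : ℕ := (nat_lit 0)
def pA8r_3_m1 : ℕ := (nat_lit 0)
def pA8r_3_m2 : ℕ := (nat_lit 0x2)
def pA8r_3_m3 : ℕ := (nat_lit 0xc)
def pA8r_3_m4 : ℕ := (nat_lit 0)
def pA8r_3_m5 : ℕ := (nat_lit 0)
def pA8r_3_p0 : List ℕ := [nat_lit 0x1009005005,
  nat_lit 0x1009007007,
  nat_lit 0x7005002008005008,
  nat_lit 0x5001001004001006,
  nat_lit 0x5004005005003006,
  nat_lit 0x7003001006003008,
  nat_lit 0x7002005007001008]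
noncomputable def pA8r_3 : CE where
  p0 := 0
  F := (Nat.sub (Nat.shiftLeft 1 4) 1)
  masks := [pA8r_3_m0, pA8r_3_m1, pA8r_3_m2, pA8r_3_m3, pA8r_3_m4, pA8r_3_m5]
  gprog := [2, 3]
  cprog := []
  sids := [0, 1]
  t0 := pA8r_3_t
  s := 12
  progs := [pA8r_3_p0]
  O := (Nat.sub (Nat.shiftLeft 1 4) 1)
  yids := [0, 1, 2, 3]
theorem pA8r_3_chk : ∃ progs, CE.check { pA8r_3 with progs := progs } pA8r_3_nets (imOf [2, 3, 4, 5]) pA8r_3_rels [[0], [2]] [[0], [2], [4], [6]] = true :=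
  ⟨pA8r_3.progs, by decide +kernel⟩
theorem pA8r_3_idx {Γ : Type*} [Group Γ] {g : ℕ → Γ} (hi : InvOk g (imOf [2, 3, 4, 5])) (hr : ∀ r ∈ pA8r_3_rels, ev g r = 1)
    {H : Subgroup Γ} (hs : ∀ u ∈ ([[0], [2]] : List (List ℕ)), ev g u ∈ H) :
    H.relIndex (gen g [[0], [2], [4], [6]]) ≠ 0 ∧ H.relIndex (gen g [[0], [2], [4], [6]]) ≤ 4 :=
  Reach.relIndex_le pA8r_3_model hi hr hs pA8r_3_chk (by decide +kernel)

def pA8r_4_nets_n1_0 : ℕ := (nat_lit 0x80)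
def pA8r_4_nets_n1_1 : ℕ := (nat_lit 0x82)
def pA8r_4_nets_n1_2 : ℕ := (nat_lit 0x6)
def pA8r_4_nets_n1_3 : ℕ := (nat_lit 0x4)
def pA8r_4_nets_n2_0 : ℕ := (nat_lit 0x2)
def pA8r_4_nets_n2_1 : ℕ := (nat_lit 0x18)
def pA8r_4_nets_n2_2 : ℕ := (nat_lit 0x28)
def pA8r_4_nets_n3_0 : ℕ := (nat_lit 0xaa)
def pA8r_4_nets_n4_0 : ℕ := (nat_lit 0xa1)
def pA8r_4_nets_n4_1 : ℕ := (nat_lit 0x8)
def pA8r_4_nets_n4_2 : ℕ := (nat_lit 0x18)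
def pA8r_4_nets_n4_3 : ℕ := (nat_lit 0x10)
def pA8r_4_nets_n4_4 : ℕ := (nat_lit 0x8)
def pA8r_4_nets_n1 : Net :=
  (Net.cons pA8r_4_nets_n1_0 (nat_lit 1) (Net.cons pA8r_4_nets_n1_1 (nat_lit 2) (Net.cons pA8r_4_nets_n1_2 (nat_lit 4) (Net.cons pA8r_4_nets_n1_3 (nat_lit 2) Net.nil))))
def pA8r_4_nets_n2 : Net :=
  (Net.cons pA8r_4_nets_n2_0 (nat_lit 1) (Net.cons pA8r_4_nets_n2_1 (nat_lit 2) (Net.cons pA8r_4_nets_n2_2 (nat_lit 1) Net.nil)))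
def pA8r_4_nets_n3 : Net :=
  (Net.cons pA8r_4_nets_n3_0 (nat_lit 1) Net.nil)
def pA8r_4_nets_n4 : Net :=
  (Net.cons pA8r_4_nets_n4_0 (nat_lit 1) (Net.cons pA8r_4_nets_n4_1 (nat_lit 2) (Net.cons pA8r_4_nets_n4_2 (nat_lit 4) (Net.cons pA8r_4_nets_n4_3 (nat_lit 2) (Net.cons pA8r_4_nets_n4_4 (nat_lit 1) Net.nil)))))
def pA8r_4_nets : List Net := [Net.nil, pA8r_4_nets_n1, pA8r_4_nets_n2, pA8r_4_nets_n3, pA8r_4_nets_n4, Net.nil]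
def pA8r_4_rels : List (List ℕ) := [[0, 0, 0],
  [2, 2, 2],
  [0, 2, 1, 3],
  [4, 0, 4, 0],
  [4, 2, 4, 3],
  [6, 2, 6, 2],
  [6, 0, 6, 1],
  [4, 6, 4, 6],
  [8, 0, 8, 1],
  [8, 2, 8, 2, 8, 2],
  [6, 8, 6, 8, 6, 8],
  [4, 6, 8, 4, 6, 8],
  [8, 3, 6, 8, 3, 6, 8, 3, 6, 8, 3, 6, 8, 3, 6]]
theorem pA8r_4_nets_ok : allL (Net.ok 10) pA8r_4_nets = true := by decide +kernel
theorem pA8r_4_rel_s0 : relsAt pA8r_4_nets 10 4 (List.range' 0 4) (sqW [2, 3, 4, 5] ++ pA8r_4_rels) = true := by decide +kernel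
theorem pA8r_4_rel : ∀ w ∈ (sqW [2, 3, 4, 5] ++ pA8r_4_rels), ev (netGen pA8r_4_nets) w = 1 :=
  SlicesOk.rel (K := 4) ((SlicesOk.zero _ _ _ _).step 4 pA8r_4_rel_s0)
    pA8r_4_nets_ok (by norm_num)
theorem pA8r_4_model : Model 10 pA8r_4_nets (imOf [2, 3, 4, 5]) pA8r_4_rels := Model.of_rel pA8r_4_nets_ok pA8r_4_rel
def pA8r_4_t : Tr := (Tr.node (Tr.node (Tr.node Tr.leaf [6] 0 0 0 Tr.leaf) [2] 0 0 0 (Tr.node Tr.leaf [1] 0 0 0 Tr.leaf)) [0] 0 0 0 (Tr.node (Tr.node Tr.leaf [8] 0 0 0 Tr.leaf) [4] 0 0 0 (Tr.node Tr.leaf [3] 0 0 0 Tr.leaf)))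
def pA8r_4_m0 : ℕ := (nat_lit 0)
def pA8r_4_m1 : ℕ := (nat_lit 0x220)
def pA8r_4_m2 : ℕ := (nat_lit 0x44)
def pA8r_4_m3 : ℕ := (nat_lit 0x10)
def pA8r_4_m4 : ℕ := (nat_lit 0x182)
def pA8r_4_m5 : ℕ := (nat_lit 0)
def pA8r_4_m6 : ℕ := (nat_lit 0x8)
def pA8r_4_p0 : List ℕ := [nat_lit 0x100e00300d,
  nat_lit 0x100e005005,
  nat_lit 0x100e007007,
  nat_lit 0x100e009009,
  nat_lit 0x900200500900100a,
  nat_lit 0x3001002003003,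
  nat_lit 0x5004005005003006,
  nat_lit 0x500900700500500c00700a,
  nat_lit 0x100e007007,
  nat_lit 0x400a00400a00200a009004,
  nat_lit 0x100e009009,
  nat_lit 0x7002005007001008,
  nat_lit 0x3002006003001004,
  nat_lit 0x7003001006003008,
  nat_lit 0x4008002006007004,
  nat_lit 0x100e007007,
  nat_lit 0x4002003003001003,
  nat_lit 0x700900700900100b009008,
  nat_lit 0x7005002008005008,
  nat_lit 0x900200500900100a,
  nat_lit 0x900700900700200b00700a,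
  nat_lit 0x7003001006003008,
  nat_lit 0x800a00600800200c00500a,
  nat_lit 0x4002003003001003,
  nat_lit 0x900300900300100a00300a,
  nat_lit 0x3001002003003,
  nat_lit 0x4005002005005003,
  nat_lit 0x4008002006007004,
  nat_lit 0x400a00400a00200a009004]
noncomputable def pA8r_4 : CE where
  p0 := 0
  F := (Nat.sub (Nat.shiftLeft 1 10) 1)
  masks := [pA8r_4_m0, pA8r_4_m1, pA8r_4_m2, pA8r_4_m3, pA8r_4_m4, pA8r_4_m5, pA8r_4_m6]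
  gprog := [4, 6, 1, 2, 3, 4, 1]
  cprog := []
  sids := [0, 1, 2, 3]
  t0 := pA8r_4_t
  s := 12
  progs := [pA8r_4_p0]
  O := (Nat.sub (Nat.shiftLeft 1 10) 1)
  yids := [0, 1, 2, 3, 4]
theorem pA8r_4_chk : ∃ progs, CE.check { pA8r_4 with progs := progs } pA8r_4_nets (imOf [2, 3, 4, 5]) pA8r_4_rels [[0], [2], [4], [6]] [[0], [2], [4], [6], [8]] = true :=
  ⟨pA8r_4.progs, by decide +kernel⟩
theorem pA8r_4_idx {Γ : Type*} [Group Γ] {g : ℕ → Γ} (hi : InvOk g (imOf [2, 3, 4, 5])) (hr : ∀ r ∈ pA8r_4_rels, ev g r = 1)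
    {H : Subgroup Γ} (hs : ∀ u ∈ ([[0], [2], [4], [6]] : List (List ℕ)), ev g u ∈ H) :
    H.relIndex (gen g [[0], [2], [4], [6], [8]]) ≠ 0 ∧ H.relIndex (gen g [[0], [2], [4], [6], [8]]) ≤ 10 :=
  Reach.relIndex_le pA8r_4_model hi hr hs pA8r_4_chk (by decide +kernel)

def pA8r_5_nets_n0_0 : ℕ := (nat_lit 0x4040001005000)
def pA8r_5_nets_n0_1 : ℕ := (nat_lit 0x40004c0008002)
def pA8r_5_nets_n0_2 : ℕ := (nat_lit 0x2004203414)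
def pA8r_5_nets_n0_3 : ℕ := (nat_lit 0x1ec000402)
def pA8r_5_nets_n0_4 : ℕ := (nat_lit 0xc000000)
def pA8r_5_nets_n0_5 : ℕ := (nat_lit 0xc000000)
def pA8r_5_nets_n0_6 : ℕ := (nat_lit 0x2038000002)
def pA8r_5_nets_n0_7 : ℕ := (nat_lit 0x4c0104460)
def pA8r_5_nets_n0_8 : ℕ := (nat_lit 0x4140040548a)
def pA8r_5_nets_n1_0 : ℕ := (nat_lit 0x822a000080000)
def pA8r_5_nets_n1_1 : ℕ := (nat_lit 0x9088181000)
def pA8r_5_nets_n1_2 : ℕ := (nat_lit 0x300828404000)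
def pA8r_5_nets_n1_3 : ℕ := (nat_lit 0x63800000000)
def pA8r_5_nets_n1_4 : ℕ := (nat_lit 0x40400)
def pA8r_5_nets_n1_5 : ℕ := (nat_lit 0x64400)
def pA8r_5_nets_n1_6 : ℕ := (nat_lit 0x780000f708)
def pA8r_5_nets_n1_7 : ℕ := (nat_lit 0x66004400000)
def pA8r_5_nets_n1_8 : ℕ := (nat_lit 0x506810100000)
def pA8r_5_nets_n1_9 : ℕ := (nat_lit 0x11918088901000)
def pA8r_5_nets_n1_10 : ℕ := (nat_lit 0x28a2a800080000)
def pA8r_5_nets_n2_0 : ℕ := (nat_lit 0x25415555425552)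
def pA8r_5_nets_n3_0 : ℕ := (nat_lit 0x20140000120002)
def pA8r_5_nets_n3_1 : ℕ := (nat_lit 0xc0ccccc03030)
def pA8r_5_nets_n3_2 : ℕ := (nat_lit 0x1415554005050)
def pA8r_5_nets_n4_0 : ℕ := (nat_lit 0x40410140111424)
def pA8r_5_nets_n4_1 : ℕ := (nat_lit 0x104000c00860)
def pA8r_5_nets_n4_2 : ℕ := (nat_lit 0x30c014000420)
def pA8r_5_nets_n4_3 : ℕ := (nat_lit 0x3c000000)
def pA8r_5_nets_n4_4 : ℕ := (nat_lit 0x28000000)
def pA8r_5_nets_n4_5 : ℕ := (nat_lit 0x208480000020)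
def pA8r_5_nets_n4_6 : ℕ := (nat_lit 0x1145414001420)
def pA8r_5_nets_n5_0 : ℕ := (nat_lit 0x14081444041041)
def pA8r_5_nets_n5_1 : ℕ := (nat_lit 0xc0003200)
def pA8r_5_nets_n5_2 : ℕ := (nat_lit 0x70002400090)
def pA8r_5_nets_n5_3 : ℕ := (nat_lit 0x10003c00090)
def pA8r_5_nets_n5_4 : ℕ := (nat_lit 0x180018000f0)
def pA8r_5_nets_n5_5 : ℕ := (nat_lit 0xc0000230)
def pA8r_5_nets_n5_6 : ℕ := (nat_lit 0x80111404510)
def pA8r_5_nets_n0 : Net :=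
  (Net.cons pA8r_5_nets_n0_0 (nat_lit 1) (Net.cons pA8r_5_nets_n0_1 (nat_lit 2) (Net.cons pA8r_5_nets_n0_2 (nat_lit 4) (Net.cons pA8r_5_nets_n0_3 (nat_lit 8) (Net.cons pA8r_5_nets_n0_4 (nat_lit 16) (Net.cons pA8r_5_nets_n0_5 (nat_lit 8) (Net.cons pA8r_5_nets_n0_6 (nat_lit 4) (Net.cons pA8r_5_nets_n0_7 (nat_lit 2) (Net.cons pA8r_5_nets_n0_8 (nat_lit 1) Net.nil)))))))))
def pA8r_5_nets_n1 : Net :=
  (Net.cons pA8r_5_nets_n1_0 (nat_lit 1) (Net.cons pA8r_5_nets_n1_1 (nat_lit 2) (Net.cons pA8r_5_nets_n1_2 (nat_lit 4) (Net.cons pA8r_5_nets_n1_3 (nat_lit 8) (Net.cons pA8r_5_nets_n1_4 (nat_lit 16) (Net.cons pA8r_5_nets_n1_5 (nat_lit 32) (Net.cons pA8r_5_nets_n1_6 (nat_lit 16) (Net.cons pA8r_5_nets_n1_7 (nat_lit 8) (Net.cons pA8r_5_nets_n1_8 (nat_lit 4) (Net.cons pA8r_5_nets_n1_9 (nat_lit 2) (Net.cons pA8r_5_nets_n1_10 (nat_lit 1) Net.nil)))))))))))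
def pA8r_5_nets_n2 : Net :=
  (Net.cons pA8r_5_nets_n2_0 (nat_lit 1) Net.nil)
def pA8r_5_nets_n3 : Net :=
  (Net.cons pA8r_5_nets_n3_0 (nat_lit 1) (Net.cons pA8r_5_nets_n3_1 (nat_lit 2) (Net.cons pA8r_5_nets_n3_2 (nat_lit 1) Net.nil)))
def pA8r_5_nets_n4 : Net :=
  (Net.cons pA8r_5_nets_n4_0 (nat_lit 1) (Net.cons pA8r_5_nets_n4_1 (nat_lit 2) (Net.cons pA8r_5_nets_n4_2 (nat_lit 4) (Net.cons pA8r_5_nets_n4_3 (nat_lit 8) (Net.cons pA8r_5_nets_n4_4 (nat_lit 4) (Net.cons pA8r_5_nets_n4_5 (nat_lit 2) (Net.cons pA8r_5_nets_n4_6 (nat_lit 1) Net.nil)))))))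
def pA8r_5_nets_n5 : Net :=
  (Net.cons pA8r_5_nets_n5_0 (nat_lit 1) (Net.cons pA8r_5_nets_n5_1 (nat_lit 2) (Net.cons pA8r_5_nets_n5_2 (nat_lit 4) (Net.cons pA8r_5_nets_n5_3 (nat_lit 8) (Net.cons pA8r_5_nets_n5_4 (nat_lit 4) (Net.cons pA8r_5_nets_n5_5 (nat_lit 2) (Net.cons pA8r_5_nets_n5_6 (nat_lit 1) Net.nil)))))))
def pA8r_5_nets : List Net := [pA8r_5_nets_n0, pA8r_5_nets_n1, pA8r_5_nets_n2, pA8r_5_nets_n3, pA8r_5_nets_n4, pA8r_5_nets_n5]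
def pA8r_5_rels : List (List ℕ) := [[0, 0, 0],
  [2, 2, 2],
  [0, 2, 1, 3],
  [4, 0, 4, 0],
  [4, 2, 4, 3],
  [6, 2, 6, 2],
  [6, 0, 6, 1],
  [4, 6, 4, 6],
  [8, 0, 8, 1],
  [8, 2, 8, 2, 8, 2],
  [6, 8, 6, 8, 6, 8],
  [4, 6, 8, 4, 6, 8],
  [8, 3, 6, 8, 3, 6, 8, 3, 6, 8, 3, 6, 8, 3, 6],
  [10, 2, 10, 3],
  [10, 0, 10, 0, 10, 0],
  [4, 10, 4, 10, 4, 10],
  [6, 4, 10, 6, 4, 10],
  [10, 1, 4, 10, 1, 4, 10, 1, 4, 10, 1, 4, 10, 1, 4],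
  [8, 10, 8, 10]]
theorem pA8r_5_nets_ok : allL (Net.ok 56) pA8r_5_nets = true := by decide +kernel
theorem pA8r_5_rel_s0 : relsAt pA8r_5_nets 56 6 (List.range' 0 6) (sqW [2, 3, 4, 5] ++ pA8r_5_rels) = true := by decide +kernel
theorem pA8r_5_rel : ∀ w ∈ (sqW [2, 3, 4, 5] ++ pA8r_5_rels), ev (netGen pA8r_5_nets) w = 1 :=
  SlicesOk.rel (K := 6) ((SlicesOk.zero _ _ _ _).step 6 pA8r_5_rel_s0)
    pA8r_5_nets_ok (by norm_num)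
theorem pA8r_5_model : Model 56 pA8r_5_nets (imOf [2, 3, 4, 5]) pA8r_5_rels := Model.of_rel pA8r_5_nets_ok pA8r_5_rel
def pA8r_5_t : Tr := (Tr.node (Tr.node (Tr.node (Tr.node Tr.leaf [3] 0 0 0 Tr.leaf) [6] 0 0 0 Tr.leaf) [2] 0 0 0 (Tr.node Tr.leaf [10] 0 0 0 Tr.leaf)) [0] 0 0 0 (Tr.node (Tr.node Tr.leaf [8] 0 0 0 Tr.leaf) [4] 0 0 0 (Tr.node Tr.leaf [1] 0 0 0 Tr.leaf)))
def pA8r_5_m0 : ℕ := (nat_lit 0x40)
def pA8r_5_m1 : ℕ := (nat_lit 0x14000003200000)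
def pA8r_5_m2 : ℕ := (nat_lit 0x40808088042024)
def pA8r_5_m3 : ℕ := (nat_lit 0x2020220008080)
def pA8r_5_m4 : ℕ := (nat_lit 0x800c3c00000308)
def pA8r_5_m5 : ℕ := (nat_lit 0x21700154085c02)
def pA8r_5_m6 : ℕ := (nat_lit 0x14000030010)
def pA8r_5_m7 : ℕ := (nat_lit 0x8000000d00000)
def pA8r_5_p0 : List ℕ := [nat_lit 0x101400100d,
  nat_lit 0x101400300f,
  nat_lit 0x1014005005,
  nat_lit 0x1014007007,
  nat_lit 0x1014009009,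
  nat_lit 0x101400b00b,
  nat_lit 0xb00900201300900c,
  nat_lit 0xb00400500e00300c,
  nat_lit 0x5001001004001006,
  nat_lit 0x3001002003003,
  nat_lit 0x5004005005003006,
  nat_lit 0x1004005003003002,
  nat_lit 0x7003001006003008,
  nat_lit 0x1009006009009002,
  nat_lit 0x900200500900100a,
  nat_lit 0x5004005005003006,
  nat_lit 0x2004008003003001,
  nat_lit 0x4002003003001003,
  nat_lit 0x7002005007001008,
  nat_lit 0x1001001001001,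
  nat_lit 0x400a00400a00200a009004,
  nat_lit 0x1014009009,
  nat_lit 0xb00400500e00300c,
  nat_lit 0x500b00700500201100700c,
  nat_lit 0x1014007007,
  nat_lit 0x3002006003001004,
  nat_lit 0x500b00500b00101000b006,
  nat_lit 0x2009002009009001,
  nat_lit 0x900700900700200b00700a,
  nat_lit 0xb00900201300900c,
  nat_lit 0x2007002007007001,
  nat_lit 0x4008002006007004,
  nat_lit 0x1014007007,
  nat_lit 0x7002005007001008,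
  nat_lit 0x900b00101300b00a,
  nat_lit 0x7005002008005008,
  nat_lit 0x900200500900100a,
  nat_lit 0x800a00600800200c00500a,
  nat_lit 0x1009006009009002,
  nat_lit 0x900700900700200b00700a,
  nat_lit 0x300b00600e00b004,
  nat_lit 0x1004005003003002,
  nat_lit 0x3005006005005004,
  nat_lit 0x4005002005005003,
  nat_lit 0x3002006003001004,
  nat_lit 0x4002003003001003,
  nat_lit 0xb00100b00100100f00100c,
  nat_lit 0x900b00101300b00a,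
  nat_lit 0x500b00700500201100700c,
  nat_lit 0x1014007007,
  nat_lit 0x7005002008005008,
  nat_lit 0x1001001001001,
  nat_lit 0x5001001004001006,
  nat_lit 0x500b00500b00101000b006,
  nat_lit 0x7002005007001008,
  nat_lit 0x200c00200c00200f00b002,
  nat_lit 0x101400b00b,
  nat_lit 0x900200500900100a,
  nat_lit 0x800a00600800200c00500a,
  nat_lit 0x1014005005,
  nat_lit 0x2007002007007001,
  nat_lit 0x900700900700200b00700a,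
  nat_lit 0x900b00101300b00a,
  nat_lit 0x2006002004005002,
  nat_lit 0xb00500b00500201000500c,
  nat_lit 0x7003001006003008,
  nat_lit 0xb00100b00100100f00100c,
  nat_lit 0x500b00700500201100700c,
  nat_lit 0x1014007007,
  nat_lit 0xb00400500e00300c,
  nat_lit 0x7005002008005008,
  nat_lit 0x700900700900100b009008,
  nat_lit 0x7002005007001008,
  nat_lit 0x2006002004005002,
  nat_lit 0x1007006007007002,
  nat_lit 0x500b00500b00101000b006,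
  nat_lit 0x4002003003001003,
  nat_lit 0x900300900300100a00300a,
  nat_lit 0x1009006009009002,
  nat_lit 0x4005002005005003,
  nat_lit 0x3001002003003,
  nat_lit 0xb00900201300900c,
  nat_lit 0x900200500900100a,
  nat_lit 0x1004005003003002,
  nat_lit 0x500b00500b00101000b006,
  nat_lit 0x2004008003003001,
  nat_lit 0x400b00200e00b003,
  nat_lit 0x900300900300100a00300a,
  nat_lit 0x4008002006007004,
  nat_lit 0x3005006005005004,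
  nat_lit 0x3002006003001004,
  nat_lit 0x400a00400a00200a009004,
  nat_lit 0x5004005005003006,
  nat_lit 0x900b00101300b00a,
  nat_lit 0xb00400500e00300c,
  nat_lit 0x3001002003003,
  nat_lit 0x4008002006007004,
  nat_lit 0xb00900201300900c,
  nat_lit 0x900700900700200b00700a,
  nat_lit 0x900300900300100a00300a,
  nat_lit 0x800a00600800200c00500a]
noncomputable def pA8r_5 : CE where
  p0 := 0
  F := (Nat.sub (Nat.shiftLeft 1 56) 1)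
  masks := [pA8r_5_m0, pA8r_5_m1, pA8r_5_m2, pA8r_5_m3, pA8r_5_m4, pA8r_5_m5, pA8r_5_m6, pA8r_5_m7]
  gprog := [5, 6, 0, 2, 3, 4, 5, 6, 7, 1, 2, 3, 5, 6, 2, 3, 4, 5, 7, 1, 2, 3, 5, 2, 4]
  cprog := []
  sids := [0, 1, 2, 3, 4]
  t0 := pA8r_5_t
  s := 12
  progs := [pA8r_5_p0]
  O := (Nat.sub (Nat.shiftLeft 1 56) 1)
  yids := [0, 1, 2, 3, 4, 5]
theorem pA8r_5_chk : ∃ progs, CE.check { pA8r_5 with progs := progs } pA8r_5_nets (imOf [2, 3, 4, 5]) pA8r_5_rels [[0], [2], [4], [6], [8]] [[0], [2], [4], [6], [8], [10]] = true :=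
  ⟨pA8r_5.progs, by decide +kernel⟩
theorem pA8r_5_idx {Γ : Type*} [Group Γ] {g : ℕ → Γ} (hi : InvOk g (imOf [2, 3, 4, 5])) (hr : ∀ r ∈ pA8r_5_rels, ev g r = 1)
    {H : Subgroup Γ} (hs : ∀ u ∈ ([[0], [2], [4], [6], [8]] : List (List ℕ)), ev g u ∈ H) :
    H.relIndex (gen g [[0], [2], [4], [6], [8], [10]]) ≠ 0 ∧ H.relIndex (gen g [[0], [2], [4], [6], [8], [10]]) ≤ 56 :=
  Reach.relIndex_le pA8r_5_model hi hr hs pA8r_5_chk (by decide +kernel)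

theorem pA8r_pres : CfsgLib.W2.Pres [2, 3, 4, 5] pA8r_rels [[0], [2], [4], [6], [8], [10]] 20160 := fun {_} _ {g} hi hr =>
  (Bound.of_idx (n := 56) (m := 360) (Bound.of_idx (n := 10) (m := 36) (Bound.of_idx (n := 4) (m := 9) (Bound.of_idx (n := 3) (m := 3) (Bound.of_idx (n := 3) (m := 1) (bound_nil g)
    (pA8r_1_idx hi (conseq_sound hi hr (hs := [1]) (by decide +kernel))))
    (pA8r_2_idx hi (conseq_sound hi hr (hs := [1, 1025, 2049]) (by decide +kernel))))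
    (pA8r_3_idx hi (conseq_sound hi hr (hs := [1, 1025, 2049, 3073, 4097, 5121, 6145, 7169]) (by decide +kernel))))
    (pA8r_4_idx hi (conseq_sound hi hr (hs := [1, 1025, 2049, 3073, 4097, 5121, 6145, 7169, 8193, 9217, 10241, 11265, 12289]) (by decide +kernel))))
    (pA8r_5_idx hi (conseq_sound hi hr (hs := [1, 1025, 2049, 3073, 4097, 5121, 6145, 7169, 8193, 9217, 10241, 11265, 12289, 13313, 14337, 15361, 16385, 17409, 18433]) (by decide +kernel))))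


end CfsgLib.Rec3
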