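import Mathlib
import Cfsg.Agent.Lib.Rec3.Tools
import Cfsg.Agent.Lib.Rec3.PSearch
import Cfsg.Agent.Lib.W2.LocA8b
import Cfsg.Agent.Lib.Frob.FPF

/-!
A subgroup `A₈` or `A₉` which contains enough centralisers is the whole group (or `G = A₉`).
Points are `0, …, 7 (, 8)`; `V = ⟨v₁, v₂⟩` acts on `4567`, `V' = ⟨w₁, w₂⟩` on `0123`.
-/

set_option autoImplicit false
set_option synthInstance.maxSize 4096

namespace CfsgLib.Rec3

open Subgroup Cfsg CfsgLib.Tech CfsgLib.PComp CfsgLib.W2 CfsgLib.CosetEnum AG TG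

variable {G : Type*} [Group G]

theorem g8_map {M : Type*} [Group M] {κ : HA →* M} {y w : M} (h : G8 κ y w) (φ : M →* G) :
    G8 (φ.comp κ) (φ y) (φ w) := by
  have r : ∀ {κ : HA →* M} {g p q}, W2.Rel κ g p q → W2.Rel (φ.comp κ) (φ g) p q := fun e =>
    map_rel φ e
  have a : ∀ {κ : HA →* M} {y β γ θ}, YA κ y β γ θ → YA (φ.comp κ) (φ y) β γ θ := fun e =>
    ⟨map_cube φ e.y3, (map_rel φ e.dy).trans (map_inv ..), r e.z, r e.a, r e.b, r e.c, r e.t⟩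
  exact ⟨a h.hy, a h.hw, by rw [← map_mul, h.yw, map_mul]⟩

theorem isPGroup_two_of_odd [Finite G] {O : Subgroup G}
    (h : ∀ w ∈ O, (orderOf w).Coprime 2 → w = 1) : IsPGroup 2 O := isPGroup_iff_mem.2 fun g hg => by
  obtain ⟨k, m, hm, e⟩ := Nat.exists_eq_two_pow_mul_odd (orderOf_pos g).ne'
  exact ⟨k, h _ (pow_mem hg _) (Nat.Coprime.coprime_dvd_left (orderOf_dvd_of_pow_eq_one (by
    rw [← pow_mul, ← e, pow_orderOf_eq_one])) (Nat.coprime_two_right.2 hm))⟩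

/-- the elements of odd order which centralise a Sylow 2-subgroup lie in a subgroup of odd order -/
theorem exists_odd_cent [Finite G] {S O : Subgroup G} (hS : IsSylowIn 2 S O) :
    ∃ W : Subgroup G, W ≤ O ⊓ centralizer (S : Set G) ∧ (Nat.card W).Coprime 2 ∧
      normalizer (O : Set G) ⊓ normalizer (S : Set G) ≤ normalizer (W : Set G) ∧
      ∀ w ∈ O, w ∈ centralizer (S : Set G) → (orderOf w).Coprime 2 → w ∈ W := by
  have h1 : normalizer (S : Set G) ≤ normalizer (centralizer (S : Set G) : Set G) := fun g hg => by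
    rw [mem_normalizer_iff_cj, cj_centralizer, mem_normalizer_iff_cj.1 hg]
  have h2 := (hS.of_le (le_inf hS.le le_normalizer) inf_le_left).inf_of_le_normalizer
    (inf_le_right.trans h1)
  rw [inf_assoc, inf_eq_right.2 (centralizer_le_normalizer _)] at h2
  refine ⟨opOf 2 _, opOf_le _, coprime_card_opOf _, fun g hg => normalizer_le_normalizer_opOf _ ?_,
    fun w h3 h4 => mem_opOf_of_npc (npc_of_burnside h2 fun n hn _ x hx => (hn.2 x hx.1).symm) ⟨h3, h4⟩⟩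
  rw [mem_normalizer_iff_cj, cj_inf, mem_normalizer_iff_cj.1 hg.1, mem_normalizer_iff_cj.1 (h1 hg.2)]

section
variable [Finite G] {κ : HA →* G} {y w : G} (hi : Function.Injective κ) (h : G8 κ y w)
  (h1 : ¬ IsConj (κ (o 10)) (κ (o 1)))
  (h2 : Cx (κ (o 64)) ⊓ Cx (κ (o 1)) ≤ κ.range)
  (h3 : Cx (κ (o 10)) ⊓ Cx (κ (o 35)) ⊓ Cx (κ (o 11)) ≤ κ.range)
include hi h h1 h3

theorem f8_syl : IsSylowIn 2 (TT hfA κ) (Cx (κ (o 1))) := by
  have nzu : ∀ {g p q}, W2.Rel κ g p q → zt p → ut q → False := fun r hp hq => by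
    obtain ⟨k, -, e⟩ := h.clsZ (M := ⊤) (fun _ => trivial) trivial trivial hp
    obtain ⟨l, -, e'⟩ := h.clsU (M := ⊤) (fun _ => trivial) trivial hq
    obtain ⟨m, -, e''⟩ := h.clsU (M := ⊤) (fun _ => trivial) trivial (p := o 10) (by decide +kernel)
    exact h1 (((isConj_iff.2 ⟨m, e''⟩).symm.trans (isConj_iff.2 ⟨l, e'⟩)).trans
      ((isConj_iff.2 ⟨k, e⟩).trans r.isConj).symm)
  have tri : ∀ {g p q}, W2.Rel κ g p q → p * p = 1 → p ≠ 1 → zt q ∨ ut q := fun {g p q} r a b =>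
    (by decide +kernel : ∀ p : HA, p * p = 1 → p ≠ 1 → zt p ∨ ut p) q
      ((r.mul r).uniq hi W2.Rel.one a) fun e => b (r.uniq' hi W2.Rel.one e)
  have u : ∀ {g p q}, W2.Rel κ g p q → p * p = 1 ∧ p ≠ 1 ∧ ut p → ut q := fun r a =>
    (tri r a.1 a.2.1).resolve_left fun e => nzu r.symm e a.2.2
  have z : ∀ {g p q}, W2.Rel κ g p q → p * p = 1 ∧ p ≠ 1 ∧ zt p → zt q := fun r a =>
    (tri r a.1 a.2.1).resolve_right (nzu r a.2.2)
  have cm : ∀ p, κ p ∈ Cx (κ (o 1)) := fun p => mem_Cx.2 (by rw [← map_mul, hfA.zc, map_mul])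
  by_contra hn
  obtain ⟨R, -, hlt, hR, hN⟩ := exists_lt_pgroup_normalizer (IsPGroup.of_card (n := 6)
    (card_TT hfA hi)) (by rintro _ ⟨p, -, rfl⟩; exact cm p) hn
  obtain ⟨g, hg, hg'⟩ := SetLike.exists_of_lt hlt
  have im : ∀ p : HA, p.v < 64 → ∃ q : HA, q.v < 64 ∧ W2.Rel κ g p q := fun p hp =>
    let ⟨q, a, b⟩ := conj_mem_of_mem_normalizer (hN hg) (x := κ p) ⟨p, hp, rfl⟩; ⟨q, a, b.symm⟩
  obtain ⟨q, -, r1⟩ := im (o 10) (by decide +kernel)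
  obtain ⟨r, -, r2⟩ := im (o 35) (by decide +kernel)
  obtain ⟨s, hs, r3⟩ := im (o 32) (by decide +kernel)
  have r0 : W2.Rel κ g (o 1) (o 1) := mem_Cx'.1 (hR hg)
  obtain ⟨k, e1, e2⟩ := (by decide +kernel : ∀ q : HA, ut q → ut (q * o 1) → ∀ r : HA, ut r →
    ut (q * r) → zt (r * (q * o 1)) → ∃ k, k * q * k⁻¹ = o 10 ∧ k * r * k⁻¹ = o 35) q
    (u r1 (by decide +kernel)) (u (r1.mul r0) (by decide +kernel)) r (u r2 (by decide +kernel))
    (u (r1.mul r2) (by decide +kernel)) (z (r2.mul (r1.mul r0)) (by decide +kernel))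
  have c1 := ((W2.Rel.conj κ k q).comp r1).of_eq rfl e1
  obtain ⟨m, e⟩ := (mul_mem_cancel_left (⟨k, rfl⟩ : κ k ∈ κ.range)).1 (h3 ⟨⟨mem_Cx'.2 c1,
    mem_Cx'.2 (((W2.Rel.conj κ k r).comp r2).of_eq rfl e2)⟩, mem_Cx'.2 ((c1.mul
      (mem_Cx'.1 (mul_mem (cm k) (hR hg)))).of_eq (by decide +kernel) (by decide +kernel))⟩)
  subst e
  exact hg' ⟨m, (by decide +kernel : ∀ m : HA, (m * o 32 * m⁻¹).v < 64 → m.v < 64) m
    ((W2.Rel.conj κ m _).uniq hi r3 rfl ▸ hs), rfl⟩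

include h2 in
theorem f8_cfg : Cfg κ := by
  have hT := f8_syl hi h h1 h3
  have cm : ∀ p, κ p ∈ Cx (κ (o 1)) := fun p => mem_Cx.2 (by rw [← map_mul, hfA.zc, map_mul])
  have ci : ∀ {p q : HA}, κ p ∈ Cx (κ q) → p * q = q * p := fun e => hi (by
    rw [map_mul, map_mul, mem_Cx.1 e])
  have tt : κ (o 1) * κ (o 1) = 1 := map_sq κ hfA.zz
  have t2 : orderOf (κ (o 1)) = 2 := (orderOf_injective κ hi _).trans (ord_two hfA.zz hfA.z1)
  have y3 : κ (o 64) ^ 3 = 1 := by rw [← map_pow, ← map_one κ]; exact congrArg κ (by decide +kernel)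
  have y3' : orderOf (κ (o 64)) = 3 := orderOf_eq_prime y3 (hi.ne (a₂ := 1) (by decide +kernel) ∘
    fun e => e.trans (map_one κ).symm)
  set K := Cx (κ (o 1)) with hK
  set O := opOf 3 K with hO
  have hc : ∀ g ∈ K ⊓ Cx (κ (o 64)), ∃ i : ℕ, g = κ (o 64) ^ i ∨ g = κ (o 1) * κ (o 64) ^ i := by
    intro g hg
    obtain ⟨m, rfl⟩ := h2 ⟨hg.2, hg.1⟩
    obtain ⟨i, -, e⟩ := (by decide +kernel : ∀ m : HA, m * o 64 = o 64 * m →
      ∃ i ∈ [0, 1, 2], m = o 64 ^ i ∨ m = o 1 * o 64 ^ i) m (ci hg.2)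
    exact ⟨i, by simpa only [← map_pow, ← map_mul, hi.eq_iff] using e⟩
  have hV : zpowers (κ (o 1)) ≤ K := zpowers_le.2 (cm _)
  have hVn : K ≤ normalizer (zpowers (κ (o 1)) : Set G) := fun g hg => by
    rw [mem_normalizer_iff_cj, cj_zpowers, mem_Cx'.1 hg]
  have hV3 : (Nat.card (zpowers (κ (o 1)))).Coprime 3 := by rw [Nat.card_zpowers, t2]; decide
  have hVO : zpowers (κ (o 1)) ≤ O := le_opOf hV hVn hV3
  have hOn : K ≤ normalizer (O : Set G) := le_normalizer_opOf _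
  have hOy : O ⊓ Cx (κ (o 64)) ≤ zpowers (κ (o 1)) := fun g hg => by
    have a : ∀ i : ℕ, κ (o 64) ^ i ∈ O → κ (o 64) ^ i = 1 := fun i e => mem_bot.1
      ((isPGroup_inf_opOf (isPGroup_zpowers_of_pow (p := 3) (k := 1) y3) K).le ⟨⟨i, by simp⟩, e⟩)
    obtain ⟨i, rfl | rfl⟩ := hc g ⟨opOf_le _ hg.1, hg.2⟩
    · rw [a i hg.1]; exact one_mem _
    · rw [a i ((mul_mem_cancel_left (hVO (mem_zpowers _))).1 hg.1), mul_one]; exact mem_zpowers _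
  refine ⟨hi, le_antisymm (by rintro _ ⟨p, rfl⟩; exact cm p) ?_⟩
  rcases ft3 hV hVn hV3 y3' (cm _) (fun g hg => by
    obtain ⟨i, rfl | rfl⟩ := hc g hg
    exacts [mem_sup_right ⟨i, by simp⟩, mul_mem_sup (mem_zpowers _) ⟨i, by simp⟩]) with
    ⟨a1, a2⟩ | ⟨a1, -, a2, -⟩
  swap
  · exfalso
    obtain ⟨k, hk⟩ := (isPGroup_iff_mem.2 fun x hx => ⟨2, by
      obtain ⟨i, e⟩ := a2 x hx
      rw [show x ^ 2 ^ 2 = (x * x) ^ 2 by simp [pow_succ, mul_assoc], ← e, ← zpow_natCast, ← zpow_mul,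
        mul_comm, zpow_mul, zpow_natCast, sq, tt, one_zpow]⟩ : IsPGroup 2 O).exists_card_eq
    have b1 := card_mul_relIndex' (opOf_le (p := 3) K)
    have b2 := card_mul_relIndex' hT.le
    have b3 := hT.not_dvd
    have b4 := Transfer.card_modEq_card_inf_centralizer (q := 3) (hOn (cm (o 64))) ⟨1, y3⟩
    rw [show O ⊓ centralizer {κ (o 64)} = zpowers (κ (o 1)) from le_antisymm hOy
      (le_inf hVO (zpowers_le.2 (Cx_comm.1 (cm _)))), Nat.card_zpowers, t2] at b4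
    rw [card_TT hfA hi, ← b1] at b2
    rcases a1 with a1 | ⟨a1, a3⟩
    · rw [a1, hk] at b2
      rw [hk] at b4
      rcases Nat.lt_or_ge k 5 with a | a
      · interval_cases k <;> simp [Nat.ModEq] at b4 b2 <;> omega
      · obtain ⟨l, rfl⟩ := Nat.exists_eq_add_of_le a
        rw [pow_add] at b2
        omega
    · rw [a1, a3, Nat.card_zpowers, t2] at b2
      omega
  have hQ : ∀ q : HA, q.v < 32 → κ q ∈ O := fun q hq => by
    let Q : Subgroup HA := sub (fun p => p.v < 32) (by decide +kernel)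
    refine a1 (Q.map κ) (by rintro _ ⟨p, -, rfl⟩; exact cm p) (by
      rw [card_map_of_injective hi, card_sub]; decide +kernel) (mem_normalizer_of_forall ?_) ⟨q, hq, rfl⟩
    rintro _ ⟨p, hp, rfl⟩
    exact ⟨_, (by decide +kernel : ∀ p : HA, p.v < 32 → (o 64 * p * (o 64)⁻¹).v < 32) p hp,
      Eq.symm (W2.Rel.conj κ _ p)⟩
  have hS := hT.inf_of_le_normalizer hOn
  rw [inf_eq_right.2 (opOf_le K)] at hS
  have hw : ∀ u ∈ O, (orderOf u).Coprime 2 → u ∈ centralizer ((TT hfA κ ⊓ O : Subgroup G) : Set G) := by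
    intro u hu ho s hs
    obtain ⟨k, hk⟩ := isPGroup_iff_mem.1 hT.pgroup s hs.1
    have := comm_mod hVO ((opOf_le K).trans hVn) (coprime_card_opOf K) y3 (hVn (cm _)) (hOn (cm _)) hOy
      hs.2 hu (Nat.Coprime.coprime_dvd_left (orderOf_dvd_of_pow_eq_one hk) (ho.symm.pow_left k))
    rcases (ExtraTwo.mem_zpowers_iff_of_mul_self tt).1 this with e | e
    · rwa [mul_inv_eq_one, mul_inv_eq_iff_eq_mul] at e
    · rw [mul_inv_eq_iff_eq_mul] at e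
      have b := ord_conj s u
      rw [e, Commute.orderOf_mul_eq_mul_orderOf_of_coprime (mem_Cx.1 (opOf_le K hu)).symm
        (t2 ▸ ho.symm), t2] at b
      have := orderOf_pos u
      omega
  obtain ⟨W, b1, b2, b3, b4⟩ := exists_odd_cent hS
  have x2 : κ (o 35) * κ (o 35) = 1 := map_sq κ (by decide +kernel)
  have hx : ∀ u ∈ O, (orderOf u).Coprime 2 → κ (o 35) * u * (κ (o 35))⁻¹ = u⁻¹ := fun u hu ho => by
    obtain ⟨c, -, rfl⟩ := Frob.exists_commutator_eq_of_fpf (K := W) (a := κ (o 35)) (b3 ⟨hOn (cm _),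
      mem_normalizer_iff_cj.2 (by rw [cj_inf, mem_normalizer_iff_cj.1 (hOn (cm _)),
        cj_eq_of_mem (mem_TT.2 ⟨_, by decide +kernel, rfl⟩)])⟩) (eq_bot_iff.2 fun c hc => by
      have d : ∀ k < 32, c ∈ Cx (κ (o k)) := fun k hk => mem_Cx.2 ((b1 hc.1).2 _
        ⟨mem_TT.2 ⟨_, (v_o (by omega)).trans_lt (by omega), rfl⟩, hQ _ ((v_o (by omega)).trans_lt hk)⟩).symm
      obtain ⟨m, rfl⟩ := h3 ⟨⟨d 10 (by norm_num), hc.2⟩, d 11 (by norm_num)⟩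
      have := map_sq κ ((by decide +kernel : ∀ m : HA, m * o 2 = o 2 * m → m * o 4 = o 4 * m →
        m * o 8 = o 8 * m → m * o 16 = o 16 * m → m * m = 1) m (ci (d 2 (by norm_num)))
        (ci (d 4 (by norm_num))) (ci (d 8 (by norm_num))) (ci (d 16 (by norm_num))))
      exact mem_of_coprime_pow b2 (congrArg Subtype.val (pow_card_eq_one' (x := (⟨_, hc.1⟩ : W))))
        (by rwa [sq])) (b4 u hu (hw u hu ho) ho)
    have := inv_eq_of_mul_eq_one_left x2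
    simp only [mul_inv_rev, inv_inv, this, mul_assoc, x2, mul_one]
  have hO2 : IsPGroup 2 O := isPGroup_two_of_odd fun u hu ho => by
    obtain ⟨q, hq, e⟩ := (by decide +kernel :
      ∃ q : HA, q.v < 32 ∧ o 35 * (o 64 * o 35 * (o 64)⁻¹) = q * o 64)
    have c1 := hx _ (conj_mem_of_mem_normalizer' (hOn (cm (o 64))) hu) (by
      rwa [← ord_conj (κ (o 64))⁻¹, inv_inv] at ho)
    have c2 := hx _ (inv_mem hu) (by simpa using ho)
    have c3 : κ (q * o 64) ∈ Cx u := by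
      rw [← e, map_mul, map_mul, map_mul, map_inv, mem_Cx']
      calc _ = κ (o 35) * (κ (o 64) * (κ (o 35) * ((κ (o 64))⁻¹ * u * κ (o 64)) * (κ (o 35))⁻¹) *
          (κ (o 64))⁻¹) * (κ (o 35))⁻¹ := by group
        _ = κ (o 35) * u⁻¹ * (κ (o 35))⁻¹ := by rw [c1]; group
        _ = u := by rw [c2, inv_inv]
    rw [map_mul, mul_mem_cancel_left (mem_Cx.2 (hw u hu ho _ ⟨mem_TT.2 ⟨_, by omega, rfl⟩, hQ q hq⟩)),
      Cx_comm] at c3
    rcases (ExtraTwo.mem_zpowers_iff_of_mul_self tt).1 (hOy ⟨hu, c3⟩) with e | e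
    · exact e
    · rw [e, t2] at ho
      exact absurd ho (by decide)
  refine a2.trans (sup_le ((hT.le_of_le_normalizer hO2 (opOf_le K) hOn).trans (map_le_range _ _)) ?_)
  rintro g ⟨c1, c2⟩
  rcases mem_zpowers_cube (by rw [← y3]; simp [pow_succ])
    (conj_mem_of_mem_normalizer c2 (mem_zpowers _)) with e | e | e
  · rw [conj_eq_one_iff] at e
    rw [e, orderOf_one] at y3'
    omega
  · exact h2 ⟨mem_Cx'.2 e, c1⟩
  · refine (mul_mem_cancel_left (⟨_, rfl⟩ : κ (o 32) ∈ κ.range)).1 (h2 ⟨mem_Cx'.2 ?_, mul_mem (cm _) c1⟩)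
    rw [← map_inv] at e
    exact ((W2.Rel.conj κ _ _).comp e).of_eq rfl (by decide +kernel)

end

/-- The embedding of `HA`. -/
noncomputable def ioF {n : ℕ} [Fact (n ≤ 32)] (f : ℕ → AG n) (p : HA) : AG n :=
  wd [f 4, f 0, f 1, f 2, f 3] p.v * wd [f 6, f 6 * f 6] (Nat.div p.v 64) * wd [f 5] (Nat.div p.v 32)

noncomputable def io8 : HA →* AG 8 := homOf hfA.gen (ioF f8) (by decide +kernel) (by decide +kernel)

noncomputable def io9 : HA →* AG 9 := homOf hfA.gen (ioF f9) (by decide +kernel) (by decide +kernel)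

theorem g8_io8 : G8 io8 (f8 7) (f8 8) := by
  refine ⟨⟨?_, ?_, ?_, ?_, ?_, ?_, ?_⟩, ⟨?_, ?_, ?_, ?_, ?_, ?_, ?_⟩, ?_⟩ <;> (try unfold W2.Rel) <;>
    decide +kernel

theorem g8_io9 : G8 io9 (f9 7) (f9 8) := by
  refine ⟨⟨?_, ?_, ?_, ?_, ?_, ?_, ?_⟩, ⟨?_, ?_, ?_, ?_, ?_, ?_, ?_⟩, ?_⟩ <;> (try unfold W2.Rel) <;>
    decide +kernel

theorem fin_aux [Finite G] {M : Type*} [Group M] {ι : HA →* M} {y w : M} (h : G8 ι y w)
    (hι : ∀ p, ι p = 1 → p = 1) (hc : ∀ g, g * ι (o 1) = ι (o 1) * g → ∃ p, ι p = g)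
    (φ : M →* G) (hφ : Function.Injective φ) (h1 : ¬ IsConj (φ (ι (o 10))) (φ (ι (o 1))))
    (h2 : Cx (φ (ι (o 64))) ⊓ Cx (φ (ι (o 1))) ≤ φ.range)
    (h3 : Cx (φ (ι (o 10))) ⊓ Cx (φ (ι (o 35))) ⊓ Cx (φ (ι (o 11))) ≤ φ.range) :
    Nonempty (G ≃* alternatingGroup (Fin 8)) ∨ Nonempty (G ≃* alternatingGroup (Fin 9)) := by
  have key : ∀ g ∈ Cx (φ (ι (o 1))), g ∈ φ.range → g ∈ (φ.comp ι).range := by
    rintro _ e ⟨g, rfl⟩
    obtain ⟨p, rfl⟩ := hc g (hφ (by rw [map_mul, map_mul, mem_Cx.1 e]))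
    exact ⟨p, rfl⟩
  refine (g8_map h φ).main (f8_cfg (hφ.comp ((injective_iff_map_eq_one ι).2 hι)) (g8_map h φ) h1
    (fun g hg => key g hg.2 (h2 hg)) fun g hg => key g ?_ (h3 hg))
  exact mem_Cx'.2 (W2.Rel.of_eq (φ := φ.comp ι) (W2.Rel.mul (mem_Cx'.1 hg.1.1) (mem_Cx'.1 hg.2))
    (by decide +kernel) (by decide +kernel))

variable [Finite G]

/-- `v₁ = (45)(67)`, `v₂ = (46)(57)`, `w₁ = (01)(23)`, `w₂ = (02)(13)`, `t = v₁ w₁`,
`y = (025)(134)`. -/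
theorem fin8 (φ : AG 8 →* G) (hφ : Function.Injective φ)
    (h1 : ¬ IsConj (φ (al [0, 1, 2, 3, 5, 4, 7, 6])) (φ (al [1, 0, 3, 2, 5, 4, 7, 6])))
    (h2 : Cx (φ (al [2, 3, 5, 4, 1, 0, 6, 7])) ⊓ Cx (φ (al [1, 0, 3, 2, 5, 4, 7, 6])) ≤ φ.range)
    (h3 : Cx (φ (al [0, 1, 2, 3, 5, 4, 7, 6])) ⊓ Cx (φ (al [0, 1, 2, 3, 6, 7, 4, 5])) ⊓
      Cx (φ (al [1, 0, 3, 2, 4, 5, 6, 7])) ≤ φ.range) :
    Nonempty (G ≃* alternatingGroup (Fin 8)) ∨ Nonempty (G ≃* alternatingGroup (Fin 9)) := by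
  obtain ⟨e1, e2, e3, e4, e5⟩ : al [0, 1, 2, 3, 5, 4, 7, 6] = io8 (o 10) ∧
    al [1, 0, 3, 2, 5, 4, 7, 6] = io8 (o 1) ∧ al [2, 3, 5, 4, 1, 0, 6, 7] = io8 (o 64) ∧
    al [0, 1, 2, 3, 6, 7, 4, 5] = io8 (o 35) ∧ al [1, 0, 3, 2, 4, 5, 6, 7] = io8 (o 11) := by
    decide +kernel
  rw [e1, e2] at h1
  rw [e3, e2] at h2
  rw [e1, e4, e5] at h3
  exact fin_aux g8_io8 (by decide +kernel) (fun g h => ag_srch false [(io8 (o 1), io8 (o 1))]
    (P := fun g => ∃ p, io8 p = g) (by decide +kernel) (by simpa using h) (by simp)) φ hφ h1 h2 h3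

/-- The same for a subgroup `A₉` (the elements fix the point `8`). -/
theorem fin9 (φ : AG 9 →* G) (hφ : Function.Injective φ)
    (h1 : ¬ IsConj (φ (al [0, 1, 2, 3, 5, 4, 7, 6, 8])) (φ (al [1, 0, 3, 2, 5, 4, 7, 6, 8])))
    (h2 : Cx (φ (al [2, 3, 5, 4, 1, 0, 6, 7, 8])) ⊓ Cx (φ (al [1, 0, 3, 2, 5, 4, 7, 6, 8])) ≤ φ.range)
    (h3 : Cx (φ (al [0, 1, 2, 3, 5, 4, 7, 6, 8])) ⊓ Cx (φ (al [0, 1, 2, 3, 6, 7, 4, 5, 8])) ⊓
      Cx (φ (al [1, 0, 3, 2, 4, 5, 6, 7, 8])) ≤ φ.range) : φ.range = ⊤ := by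
  obtain ⟨e1, e2, e3, e4, e5⟩ : al [0, 1, 2, 3, 5, 4, 7, 6, 8] = io9 (o 10) ∧
    al [1, 0, 3, 2, 5, 4, 7, 6, 8] = io9 (o 1) ∧ al [2, 3, 5, 4, 1, 0, 6, 7, 8] = io9 (o 64) ∧
    al [0, 1, 2, 3, 6, 7, 4, 5, 8] = io9 (o 35) ∧ al [1, 0, 3, 2, 4, 5, 6, 7, 8] = io9 (o 11) := by
    decide +kernel
  rw [e1, e2] at h1
  rw [e3, e2] at h2
  rw [e1, e4, e5] at h3
  have c8 : 2 * Nat.card (PG.alt 8) = _ := two_mul_card (n := 8)
  have c9 : 2 * Nat.card (PG.alt 9) = _ := two_mul_card (n := 9)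
  have c : Nat.card (PG.alt 9) = _ := Nat.card_congr (MonoidHom.ofInjective hφ).toEquiv
  have d := card_le_card_group φ.range
  simp only [Nat.factorial] at c8 c9
  refine eq_top_of_card_eq _ ?_
  rcases fin_aux g8_io9 (by decide +kernel) (fun g h => ag_srch false [(io9 (o 1), io9 (o 1))]
    (P := fun g => ∃ p, io9 p = g) (by decide +kernel) (by simpa using h) (by simp)) φ hφ h1 h2 h3
    with ⟨⟨e⟩⟩ | ⟨⟨e⟩⟩ <;> have := Nat.card_congr (e.trans (PG.altE _)).toEquiv <;> omega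

end CfsgLib.Rec3
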