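import Mathlib
import Cfsg.Agent.Lib.Rec3.Fin8
import Cfsg.Agent.Lib.Rec3.A8Mod
import Cfsg.Agent.Lib.Rec3.A8Enum
import Cfsg.Agent.Lib.W2.M12f

/-!
A 3-local characterisation of `A₈`.
-/

set_option autoImplicit false
set_option synthInstance.maxSize 4096
set_option linter.unusedSectionVars false

namespace CfsgLib.Rec3

open Subgroup Cfsg CfsgLib.Tech CfsgLib.PComp CfsgLib.W2 CfsgLib.CosetEnum AG TG

variable {G : Type*} [Group G]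

namespace A8

/-- `ψ` identifies the model with `N ⟨z⟩`, and `t` interchanges `z, p` and `a, b`. -/
structure S29 (ψ : H0 →* G) (t : G) : Prop where
  inj : Function.Injective ψ
  rng : ∀ g, W2.Rel ψ g z0 z0 ∨ W2.Rel ψ g z0 z0⁻¹ → g ∈ ψ.range
  tz : W2.Rel ψ t z0 p0
  tp : W2.Rel ψ t p0 z0
  ta : W2.Rel ψ t a0 b0
  tb : W2.Rel ψ t b0 a0
  cy : ∀ g ∈ Cx (ψ (z0 * p0)), ∃ d, InD d ∧ (g = ψ d ∨ g = ψ d * t)
  nc : ¬ IsConj (ψ (z0 * p0)) (ψ z0)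

/-- The generators of `A₈`. -/
noncomputable def g8 : ℕ → AG 8 := gv [al [1, 2, 0, 3, 4, 5, 6, 7], al [0, 1, 2, 3, 5, 6, 4, 7],
  al [1, 0, 2, 7, 4, 5, 6, 3], al [0, 1, 2, 7, 5, 4, 6, 3], al [0, 1, 2, 3, 5, 4, 7, 6],
  al [1, 0, 3, 2, 4, 5, 6, 7]]

namespace S29

variable {ψ : H0 →* G} {t : G} (h : S29 ψ t)
include h

theorem ci {p q : H0} (e : ψ p ∈ Cx (ψ q)) : p * q = q * p :=
  h.inj (by rw [map_mul, map_mul, mem_Cx.1 e])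

omit h in
theorem ic {p q : H0} (e : p * q = q * p) : ψ p ∈ Cx (ψ q) :=
  mem_Cx.2 (by rw [← map_mul, e, map_mul])

theorem cz : Cx (ψ z0) ≤ ψ.range := fun g hg => h.rng g (Or.inl (mem_Cx'.1 hg))

theorem eq_one {g : G} (h1 : W2.Rel ψ g z0 z0) (h2 : W2.Rel ψ g p0 p0) (h3 : W2.Rel ψ g a0 a0)
    (h4 : W2.Rel ψ g b0 b0) : g = 1 := by
  obtain ⟨m, rfl⟩ := h.rng g (Or.inl h1)
  rw [(by decide +kernel : ∀ m, m * z0 = z0 * m → m * p0 = p0 * m → m * a0 = a0 * m →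
    m * b0 = b0 * m → m = 1) m (h.ci (mem_Cx'.2 h1)) (h.ci (mem_Cx'.2 h2)) (h.ci (mem_Cx'.2 h3))
    (h.ci (mem_Cx'.2 h4)), map_one]

theorem tt : t * t = 1 := h.eq_one (h.tp.comp h.tz) (h.tz.comp h.tp) (h.tb.comp h.ta) (h.ta.comp h.tb)

theorem z3 : orderOf (ψ z0) = 3 :=
  (orderOf_injective ψ h.inj _).trans (orderOf_eq_prime (by decide +kernel) (by decide +kernel))

theorem cube {x : G} (e : x ∈ zpowers (ψ z0)) : x = 1 ∨ x = ψ z0 ∨ x = ψ z0⁻¹ :=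
  map_inv ψ _ ▸ mem_zpowers_cube (map_cube ψ (by decide +kernel)) e

theorem exists_hom {c : H0} (hc : c = v0 ∨ c = b0 * v0 * b0⁻¹) (e : t * ψ c * t⁻¹ ∈ Cx (ψ v0)) :
    ∃ φ : AG 8 →* G, Function.Injective φ ∧ (∀ m, ψ m ∈ φ.range) ∧ φ (g8 0 * g8 1) = ψ (z0 * p0) ∧
      φ (g8 4) = ψ v0 ∧ φ ((g8 1)⁻¹ * g8 4 * g8 1) = ψ v2 ∧ φ (al [4, 5, 6, 7, 0, 1, 2, 3]) = t := by
  obtain ⟨ψ', e1, -⟩ := exists_hom_conj ψ t
  obtain ⟨φ, h1, -⟩ := pA8r_pres.exists_hom (g := gv [ψ z0, ψ p0, ψ a0, ψ b0, ψ v0, ψ' c]) (f := g8)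
    (rels_of_hom ψ (f := gv [z0, p0, a0, b0, v0]) [0, 1, 2, 3, 4] ([10, 10] :: pA8r_rels.drop 13)
      (by simp [gv]) (by decide +kernel) (rels_of_hom ψ' (f := gv [p0, z0, b0, a0, 1, c])
        [0, 1, 2, 3, 5] [[8, 10, 8, 10]] (by
          simp only [List.forall_mem_cons, gv, List.getD_cons_succ, List.getD_cons_zero, e1]
          exact ⟨h.tp, h.tz, h.tb, h.ta, trivial, by simp⟩)
        (by rcases hc with rfl | rfl <;> decide +kernel) (by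
          simp only [List.forall_mem_cons, ev_cons, ev_nil, evL, gv, Nat.reduceMod, Nat.reduceDiv,
            ↓reduceIte, List.getD_cons_succ, List.getD_cons_zero, mul_one]
          exact ⟨rel_sq (map_sq ψ (by decide +kernel))
            (map_sq ψ' (by rcases hc with rfl | rfl <;> decide +kernel)) (e1 c ▸ (mem_Cx.1 e).symm),
            by simp⟩))) (by decide +kernel)
    (by have := two_mul_card (n := 8); rw [show Nat.factorial 8 = 40320 from rfl] at this; omega)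
    (gen_eq_top (a := 3) (b := 7) (by decide) (fun j => [[0, 10, 0, 4], [1, 10, 1, 4], [10, 4], [],
      [2, 6, 8, 3], [3, 6, 8, 2], [6, 8], []].getD j []) (by decide +kernel))
  have h2 := map_single h1
  have e0 : φ (g8 0) = ψ z0 := h2 0 (by simp)
  have e1 : φ (g8 1) = ψ p0 := h2 1 (by simp)
  have e2 : φ (g8 2) = ψ a0 := h2 2 (by simp)
  have e3 : φ (g8 3) = ψ b0 := h2 3 (by simp)
  have e4 : φ (g8 4) = ψ v0 := h2 4 (by simp)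
  have r : ∀ {i j p q}, φ (g8 i) = ψ p → φ (g8 j) = ψ q → al [4, 5, 6, 7, 0, 1, 2, 3] * g8 i *
      (al [4, 5, 6, 7, 0, 1, 2, 3])⁻¹ = g8 j → W2.Rel ψ (φ (al [4, 5, 6, 7, 0, 1, 2, 3])) p q :=
    fun a b c => by rw [W2.Rel, ← a, ← b]; exact map_rel φ c
  refine ⟨φ, injective_AG (by norm_num) φ (e0.trans_ne fun e => by simpa [e] using h.z3),
    fun m => (eq_top_of_genB gen0 (S := φ.range.comap ψ) (by
      simp only [List.forall_mem_cons]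
      exact ⟨⟨_, e0⟩, ⟨_, e1⟩, ⟨_, e2⟩, ⟨_, e3⟩, ⟨_, e4⟩, by simp⟩)).ge (mem_top m),
    by rw [map_mul, map_mul, e0, e1], e4, by
      simp only [map_mul, map_inv, e1, e4]
      simp only [← map_mul, ← map_inv]
      exact congrArg ψ (by decide +kernel), (inv_mul_eq_one.1 (h.eq_one ?_ ?_ ?_ ?_)).symm⟩
  exacts [h.tz.symm.comp (r e0 e1 (by decide +kernel)), h.tp.symm.comp (r e1 e0 (by decide +kernel)),
    h.ta.symm.comp (r e2 e3 (by decide +kernel)), h.tb.symm.comp (r e3 e2 (by decide +kernel))]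

variable [Finite G]

theorem sylz {K : Subgroup G} (h1 : ψ z0 ∈ K) (h2 : K ≤ Cx (ψ v0)) :
    IsSylowIn 3 (zpowers (ψ z0)) K := sylow_zpowers h.z3 h1 fun g hg hc h9 => by
  obtain ⟨m, rfl⟩ := h.cz (mem_Cx.2 hc)
  obtain ⟨i, -, rfl⟩ := (by decide +kernel : ∀ m, m * z0 = z0 * m → m * v0 = v0 * m → m ^ 9 = 1 →
    ∃ i ∈ [0, 1, 2], m = z0 ^ i) m (h.ci (mem_Cx.2 hc)) (h.ci (h2 hg)) (h.inj (by simpa using h9))
  exact ⟨i, by simp⟩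

theorem nvt : ¬ IsConj (ψ v0) t := fun hc => by
  obtain ⟨g, e⟩ := conj_into (h.sylz (ic (by decide +kernel)) le_rfl) hc (x := ψ (z0 * p0))
    (Cx_comm.1 (mem_Cx'.2 ((h.tz.mul h.tp).of_eq rfl (by decide +kernel)))) (k := 1)
    (by rw [← map_pow, ← map_one ψ]; exact congrArg ψ (by decide +kernel))
  rcases h.cube e with e | e | e
  · rw [conj_eq_one_iff, map_eq_one_iff ψ h.inj] at e
    exact absurd e (by decide +kernel)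
  · exact h.nc (isConj_iff.2 ⟨g, e⟩)
  · exact h.nc (W2.Rel.isConj (((W2.Rel.conj ψ a0 _).comp e).of_eq rfl (by decide +kernel)))

theorem notin (g : G) : g * t * g⁻¹ ∉ ψ.range := fun ⟨m, e⟩ => by
  have h1 : IsConj (ψ m) t := (isConj_iff.2 ⟨g, e.symm⟩).symm
  obtain ⟨k, e1 | e1⟩ := (by decide +kernel : ∀ m : H0, m * m = 1 → m ≠ 1 →
    ∃ k, k * v0 * k⁻¹ = m ∨ k * a0 * k⁻¹ = m) m (h.inj (by rw [map_mul, e, conj_mul, h.tt]; simp))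
    (by
      rintro rfl
      rw [map_one, eq_comm, conj_eq_one_iff] at e
      exact absurd (h.tz.uniq h.inj (q' := z0) (by simp [W2.Rel, e]) rfl) (by decide +kernel))
  · exact h.nvt ((e1 ▸ isConj_map_conj ψ k v0).trans h1)
  · obtain ⟨l, e2⟩ := (by decide +kernel : ∃ l, l * v0 * l⁻¹ = b0)
    exact h.nvt (((e2 ▸ isConj_map_conj ψ l v0).trans h.tb.isConj).trans
      ((e1 ▸ isConj_map_conj ψ k a0).trans h1))

/-- `N = O_{3'}(C(V))` -/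
theorem norm_N {d : H0} (hd : InD d) :
    ψ d ∈ normalizer (opOf 3 (Cx (ψ v0) ⊓ Cx (ψ v2)) : Set G) :=
  normalizer_le_normalizer_opOf _ (mem_normalizer_of_forall fun x hx => by
    have h1 : ∀ u, u = v0 ∨ u = v2 ∨ u = v0 * v2 → ψ d * x * (ψ d)⁻¹ ∈ Cx (ψ (d * u * d⁻¹)) := by
      intro u hu
      rw [map_mul, map_mul, map_inv, conj_mem_Cx]
      rcases hu with rfl | rfl | rfl
      exacts [hx.1, hx.2, Cx_comm.1 (map_mul ψ _ _ ▸ mul_mem (Cx_comm.1 hx.1) (Cx_comm.1 hx.2))]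
    obtain ⟨⟨u, a, b⟩, w, c, e⟩ := (by decide +kernel : ∀ d, InD d →
      (∃ u, (u = v0 ∨ u = v2 ∨ u = v0 * v2) ∧ d * u * d⁻¹ = v0) ∧
      ∃ u, (u = v0 ∨ u = v2 ∨ u = v0 * v2) ∧ d * u * d⁻¹ = v2) d hd
    exact ⟨b ▸ h1 u a, e ▸ h1 w c⟩)

omit h in
theorem eq_one_of {n : G} (hn : n ∈ opOf 3 (Cx (ψ v0) ⊓ Cx (ψ v2))) {k : ℕ} (e : n ^ (3 * k) = 1) :
    n ^ k = 1 :=
  mem_bot.1 (mem_of_coprime_pow (coprime_card_opOf _) (H := ⊥)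
    (congrArg Subtype.val (pow_card_eq_one' (x := (⟨_, pow_mem hn k⟩ : opOf 3 _))))
    (by rwa [← pow_mul, mul_comm]))

theorem cV_le {M : Subgroup G} (hM : ψ.range ≤ M)
    (hp : opOf 3 (Cx (ψ v0) ⊓ Cx (ψ v2)) ⊓ Cx (ψ p0) ≤ M) : Cx (ψ v0) ⊓ Cx (ψ v2) ≤ M := by
  have hz := h.sylz (K := Cx (ψ v0) ⊓ Cx (ψ v2))
    ⟨ic (by decide +kernel), ic (by decide +kernel)⟩ inf_le_left
  refine le_of_npc (npc_of_burnside hz fun n hn h1 x hx => ?_) hz ?_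
    (zpowers_le.2 (hM ⟨_, rfl⟩))
  · obtain ⟨m, rfl⟩ := h.rng n ((h.cube (conj_mem_of_mem_normalizer h1 (mem_zpowers _))).resolve_left
      fun e => by simpa [conj_eq_one_iff.1 e] using h.z3)
    obtain ⟨i, rfl⟩ := hx
    exact (Commute.zpow_right (mem_Cx.1 (ic ((by decide +kernel : ∀ m, m * v0 = v0 * m →
      m * v2 = v2 * m → m * z0 = z0 * m) m (h.ci hn.1) (h.ci hn.2)))) i).eq
  have : IsMulCommutative (D0.map ψ) := ⟨⟨by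
    rintro ⟨_, p, hp, rfl⟩ ⟨_, q, hq, rfl⟩
    exact Subtype.ext (mem_Cx.1 (ic ((by decide +kernel : ∀ p, InD p → ∀ q, InD q → p * q = q * p)
      p hp q hq)))⟩⟩
  have hc : Nat.card (D0.map ψ) = 9 := by rw [card_map_of_injective h.inj, card_D0]
  refine Coprime.le_of_forall_centralizer_le (A := D0.map ψ) (fun hy => ?_)
    (by rintro _ ⟨d, hd, rfl⟩; exact h.norm_N hd)
    (by rw [hc]; exact (coprime_card_opOf (p := 3) _).symm.pow_left 2) ?_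
  · obtain ⟨x, e⟩ := hy.exists_ofOrder_eq_natCard
    obtain ⟨d, hd, e'⟩ := x.2
    have := orderOf_dvd_of_pow_eq_one ((by decide +kernel : ∀ d, InD d → d ^ 3 = 1) d hd)
    rw [← orderOf_injective ψ h.inj, e', orderOf_coe, e, hc] at this
    omega
  rintro _ ⟨d, hd, rfl⟩ hd1 n ⟨h1, h2⟩
  have h3 : ∀ i : ℕ, n ∈ Cx (ψ (d ^ i)) := fun i => Cx_comm.1 (map_pow ψ _ _ ▸ pow_mem (Cx_comm.1 h2) i)
  obtain ⟨i, -, e | e | e | ⟨k, hk, e⟩⟩ := (by decide +kernel : ∀ d, InD d → ∃ i ∈ [1, 2], d = 1 ∨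
    d ^ i = z0 ∨ d ^ i = p0 ∨ ∃ k ∈ [1, b0], k * d ^ i * k⁻¹ = z0 * p0) d hd
  · exact absurd (e ▸ map_one ψ) hd1
  · exact hM (h.cz (e ▸ h3 i))
  · exact hp ⟨h1, e ▸ h3 i⟩
  obtain ⟨c, hc, e1⟩ := h.cy (ψ k * n * (ψ k)⁻¹) (by
    rw [← e, map_mul, map_mul, map_inv, conj_mem_Cx]; exact h3 i)
  obtain ⟨a1, a2, a3, a4⟩ := (by decide +kernel : ∀ c, InD c → ∀ k ∈ [1, b0], c ^ (3 * 1) = 1 ∧
    k * z0 * k⁻¹ = z0 ∧ (c * p0 * c⁻¹ * z0⁻¹) ^ (3 * 1) = 1 ∧ c * p0 * c⁻¹ * z0⁻¹ ≠ 1) c hc k hk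
  have key : ∀ x ∈ opOf 3 (Cx (ψ v0) ⊓ Cx (ψ v2)), ∀ c, c ^ (3 * 1) = 1 →
      ψ k * x * (ψ k)⁻¹ = ψ c → x = 1 := fun x hx c a b => by
    simpa using eq_one_of hx (k := 1) (by
      rw [← conj_eq_one_iff (a := ψ k), ← conj_pow, b, ← map_pow, a, map_one])
  rcases e1 with e1 | e1
  · rw [key n h1 c a1 e1]; exact one_mem _
  · have h4 := mul_mem h1 (conj_mem_of_mem_normalizer (h.norm_N (d := z0) (by decide +kernel))
      (inv_mem h1))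
    have h5 : ψ k * (n * (ψ z0 * n⁻¹ * (ψ z0)⁻¹)) * (ψ k)⁻¹ = ψ (c * p0 * c⁻¹ * z0⁻¹) := by
      have r : W2.Rel ψ (ψ k * n * (ψ k)⁻¹) z0 (c * p0 * c⁻¹) := e1 ▸ (W2.Rel.conj ψ c _).comp h.tz
      have r' : (ψ k)⁻¹ * ψ z0 * (ψ k)⁻¹⁻¹ = ψ z0 := ((W2.Rel.conj ψ k _).of_eq rfl a2).symm
      rw [map_mul _ _ z0⁻¹, ← r, map_inv]
      conv_lhs => rw [← r']
      group
    rw [key _ h4 _ a3 h5] at h5
    exact (a4 ((map_eq_one_iff ψ h.inj).1 (by rw [← h5]; simp))).elim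

theorem caseD (hp : opOf 3 (Cx (ψ v0) ⊓ Cx (ψ v2)) ⊓ Cx (ψ p0) ≤ ⊥) : False := by
  have hC := h.cV_le le_rfl (hp.trans bot_le)
  have nV : ∀ {g q r}, W2.Rel ψ g q v0 → W2.Rel ψ g r v2 → z0 * q = q * z0 → z0 * r = r * z0 →
      g ∈ ψ.range := fun {g q r} r1 r2 c1 c2 => by
    have h1 : g * ψ z0 * g⁻¹ ∈ Cx (ψ v0) ⊓ Cx (ψ v2) :=
      ⟨r1 ▸ conj_mem_Cx.2 (ic c1), r2 ▸ conj_mem_Cx.2 (ic c2)⟩
    obtain ⟨m, e⟩ := hC h1
    have r : W2.Rel ψ g z0 m := e.symm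
    rw [← e] at h1
    rcases (by decide +kernel : ∀ m, m * v0 = v0 * m → m * v2 = v2 * m → m * m * m = 1 → m ≠ 1 →
      m = z0 ∨ m = z0⁻¹) m (h.ci h1.1) (h.ci h1.2)
      (((r.mul r).mul r).uniq h.inj W2.Rel.one (by decide +kernel))
      (fun e => absurd (r.uniq' h.inj W2.Rel.one e) (by decide +kernel)) with rfl | rfl
    exacts [h.rng g (Or.inl r), h.rng g (Or.inr r)]
  have hT : IsPGroup 2 (T0.map ψ) :=
    IsPGroup.of_card (n := 3) (by rw [card_map_of_injective h.inj, card_T0]; rfl)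
  by_cases hS : IsSylowIn 2 (T0.map ψ) ⊤
  · obtain ⟨g, -, m, -, e⟩ := hS.exists_conj_mem (mem_top t) (isPGroup_two_zpowers h.tt)
    exact h.notin g ⟨m, e⟩
  obtain ⟨R, -, hlt, -, hN⟩ := exists_lt_pgroup_normalizer hT le_top hS
  obtain ⟨g, hg, hg'⟩ := SetLike.exists_of_lt hlt
  have im : ∀ p, InT p → ∃ q, InT q ∧ W2.Rel ψ g q p := fun p hp =>
    let ⟨q, a, b⟩ := conj_mem_of_mem_normalizer' (hN hg) (x := ψ p) ⟨p, hp, rfl⟩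
    ⟨q, a, by rw [W2.Rel, b]; group⟩
  obtain ⟨q, hq, r1⟩ := im v2 (by decide +kernel)
  obtain ⟨s, hs, r2⟩ := im (a0 * b0) (by decide +kernel)
  have r0 := (((r1.mul r2).mul r1.inv).mul r2.inv).of_eq rfl (show _ = v0 by decide +kernel)
  rcases (by decide +kernel : ∀ q, InT q → q * q = 1 → ∀ s, InT s → q * s * q⁻¹ * s⁻¹ ≠ 1 →
    (z0 * (q * s * q⁻¹ * s⁻¹) = q * s * q⁻¹ * s⁻¹ * z0 ∧ z0 * q = q * z0) ∨
      ∃ k, k * b0 * k⁻¹ = q * s * q⁻¹ * s⁻¹ ∧ k * a0 * k⁻¹ = q) q hq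
    ((r1.mul r1).uniq' h.inj W2.Rel.one (by decide +kernel)) s hs
    (fun e => absurd (r0.uniq h.inj W2.Rel.one e) (by decide +kernel)) with ⟨c1, c2⟩ | ⟨k, c1, c2⟩
  · obtain ⟨m, rfl⟩ := nV r0 r1 c1 c2
    refine hg' ⟨m, (by decide +kernel : ∀ m, InT (m⁻¹ * v2 * m⁻¹⁻¹) → InT (m⁻¹ * (a0 * b0) * m⁻¹⁻¹) →
      InT m) m ?_ ?_, rfl⟩
    · exact (W2.Rel.conj ψ m⁻¹ _).uniq h.inj (map_inv ψ m ▸ r1.symm) rfl ▸ hq
    · exact (W2.Rel.conj ψ m⁻¹ _).uniq h.inj (map_inv ψ m ▸ r2.symm) rfl ▸ hs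
  · have r3 := r0.comp ((W2.Rel.conj ψ k b0).of_eq rfl c1)
    have r4 := r1.comp ((W2.Rel.conj ψ k a0).of_eq rfl c2)
    exact h.notin _ (nV ((r3.comp h.ta).comp r4.symm) ((r4.comp h.tb).comp r3.symm)
      (by decide +kernel) (by decide +kernel))

theorem main : Nonempty (G ≃* alternatingGroup (Fin 8)) ∨ Nonempty (G ≃* alternatingGroup (Fin 9)) := by
  obtain ⟨n, ⟨h1, h2⟩, h3⟩ := SetLike.not_le_iff_exists.1 h.caseD
  have cp : ∀ x ∈ Cx (ψ p0), t⁻¹ * x * t ∈ Cx (ψ z0) := fun x hx => by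
    rw [← h.tz] at hx
    exact conj_mem_Cx.1 (show t * _ * t⁻¹ ∈ _ by simpa [mul_assoc] using hx)
  obtain ⟨m, e⟩ := h.cz (cp n h2)
  have hm : m * z0 = z0 * m := h.ci (e ▸ cp n h2)
  have en : t * ψ m * t⁻¹ = n := by rw [e]; group
  obtain ⟨ψ', e1, e2, -⟩ := exists_hom_conj ψ t
  set X := (opOf 3 (Cx (ψ v0) ⊓ Cx (ψ v2))).comap ψ' ⊓ Cx z0 with hX
  have key : ∀ x ∈ X, x ^ 10 = 1 := fun x hx => by
    have := eq_one_of hx.1 (k := 10) (by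
      rw [← map_pow, (by decide +kernel : ∀ x : H0, x * z0 = z0 * x → x ^ (3 * 10) = 1) x
        (mem_Cx.1 hx.2), map_one])
    rwa [← map_pow, e2, map_eq_one_iff ψ h.inj] at this
  have cj : ∀ x ∈ X, p0 * x * p0⁻¹ ∈ X := fun x hx => by
    have hp : p0 ∈ Cx z0 := mem_Cx.2 (by decide +kernel)
    refine ⟨mem_comap.2 ?_, (Cx z0).mul_mem ((Cx z0).mul_mem hp hx.2) (inv_mem hp)⟩
    rw [map_mul, map_mul, map_inv, e1 p0, h.tp]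
    exact conj_mem_of_mem_normalizer (h.norm_N (by decide +kernel)) hx.1
  have m0 : m ∈ X := ⟨mem_comap.2 (by rw [e1, en]; exact h1), mem_Cx.2 hm⟩
  have m1 := cj _ m0
  have m2 := cj _ m1
  obtain ⟨c, hcX, hc⟩ : ∃ c ∈ X, c = v0 ∨ c = b0 * v0 * b0⁻¹ := by
    rcases (by decide +kernel : ∀ m, m * z0 = z0 * m → m ^ 10 = 1 → (m * (p0 * m * p0⁻¹)⁻¹) ^ 10 = 1 →
      (m * (p0 * m * p0⁻¹)⁻¹ * m * (p0 * (p0 * m * p0⁻¹) * p0⁻¹)⁻¹) ^ 10 = 1 → m = 1 ∨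
      ∃ c ∈ [m, p0 * m * p0⁻¹, p0 * (p0 * m * p0⁻¹) * p0⁻¹], c = v0 ∨ c = b0 * v0 * b0⁻¹) m hm
      (key m m0) (key _ (mul_mem m0 (inv_mem m1)))
      (key _ (mul_mem (mul_mem (mul_mem m0 (inv_mem m1)) m0) (inv_mem m2))) with e | ⟨c, a, b⟩
    · exact absurd (by rw [← en, e]; simp) h3
    · simp only [List.mem_cons, List.not_mem_nil, or_false] at a
      exact ⟨c, by rcases a with rfl | rfl | rfl <;> assumption, b⟩
  obtain ⟨φ, hφ, a1, a2, a3, a4, a5⟩ := h.exists_hom hc (e1 c ▸ (opOf_le _ hcX.1).1)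
  have ht : t ∈ φ.range := ⟨_, a5⟩
  refine fin8 φ hφ (fun e => h.nvt ?_) (inf_le_left.trans ?_) (inf_le_left.trans ?_)
  · refine a3 ▸ a5 ▸ e.trans (IsConj.symm ?_)
    exact (show al [7, 2, 1, 4, 6, 3, 0, 5] * al [4, 5, 6, 7, 0, 1, 2, 3] *
      (al [7, 2, 1, 4, 6, 3, 0, 5])⁻¹ = (al [1, 0, 3, 2, 5, 4, 7, 6] : AG 8) by decide +kernel) ▸
      isConj_map_conj φ _ _
  · rw [show al [2, 3, 5, 4, 1, 0, 6, 7] = al [0, 2, 5, 7, 3, 4, 1, 6] * (g8 0 * g8 1) *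
      (al [0, 2, 5, 7, 3, 4, 1, 6])⁻¹ by decide +kernel, map_mul, map_mul, map_inv, a2]
    refine cent_conj_le (fun g hg => ?_) ⟨_, rfl⟩
    obtain ⟨d, -, rfl | rfl⟩ := h.cy g hg
    exacts [a1 d, mul_mem (a1 d) ht]
  · rw [show al [0, 1, 2, 3, 5, 4, 7, 6] = g8 4 from rfl, a3,
      show al [0, 1, 2, 3, 6, 7, 4, 5] = (g8 1)⁻¹ * g8 4 * g8 1 by decide +kernel, a4]
    refine h.cV_le (by rintro _ ⟨m, rfl⟩; exact a1 m) fun x hx => ?_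
    obtain ⟨m, e⟩ := h.cz (cp x hx.2)
    exact (mul_mem_cancel_left (inv_mem ht)).1 ((mul_mem_cancel_right ht).1 (e ▸ a1 m))

end S29

theorem exists_psi [Finite G] {D : Subgroup G} {y z : G} (hgen : closure {y, z} = D)
    (hyz : y * z = z * y) (hcard : Nat.card D = 9) (hy : y ^ 3 = 1) (hz : z ^ 3 = 1)
    (e : H0 ≃* normalizer (zpowers z : Set G)) :
    ∃ ψ : H0 →* G, Function.Injective ψ ∧ (ψ z0 = z ∨ ψ z0⁻¹ = z) ∧ (ψ p0 = y ∨ ψ (z0 * p0) = y) ∧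
      D0.map ψ = D ∧ ∀ g, g ∈ ψ.range ↔ W2.Rel ψ g z0 z0 ∨ W2.Rel ψ g z0 z0⁻¹ := by
  have nc : ∀ x : G, x ^ 3 = 1 → y ∈ zpowers x → z ∈ zpowers x → False := fun x hx a b => by
    have := card_le_of_le (hgen.ge.trans ((closure_le (zpowers x)).2 (by rintro _ (rfl | rfl) <;> assumption)))
    have := Nat.le_of_dvd (by norm_num) (orderOf_dvd_of_pow_eq_one hx)
    rw [Nat.card_zpowers] at *
    omega
  obtain ⟨ψ, hi, hr⟩ : ∃ ψ : H0 →* G, Function.Injective ψ ∧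
      ∀ g, g ∈ ψ.range ↔ g ∈ normalizer (zpowers z : Set G) :=
    ⟨(Subgroup.subtype _).comp e.toMonoidHom, Subtype.val_injective.comp e.injective, fun g =>
      ⟨fun ⟨m, a⟩ => a ▸ (e m).2, fun a => ⟨e.symm ⟨g, a⟩, by simp⟩⟩⟩
  clear e
  have hn : ∀ g x, zpowers x = zpowers z → g * x * g⁻¹ = x ∨ g * x * g⁻¹ = x⁻¹ → g ∈ ψ.range :=
    fun g x a b => by
      rw [hr, ← a, mem_normalizer_iff_cj, cj_zpowers]
      rcases b with b | b <;> simp [b]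
  obtain ⟨ζ, rfl⟩ := hn z z rfl (Or.inl (by simp))
  obtain ⟨η, rfl⟩ := hn y _ rfl (Or.inl (mul_inv_eq_iff_eq_mul.2 hyz))
  have h1 : ∀ k, k * ζ * k⁻¹ = 1 ∨ k * ζ * k⁻¹ = ζ ∨ k * ζ * k⁻¹ = ζ⁻¹ := fun k => by
    simpa only [← map_mul, ← map_inv, ← map_one ψ, hi.eq_iff] using mem_zpowers_cube
      (by rw [← hz]; simp [pow_succ]) (conj_mem_of_mem_normalizer ((hr _).1 ⟨k, rfl⟩) (mem_zpowers _))
  have h2 : z0 = ζ ∨ z0⁻¹ = ζ := (by decide +kernel : ∀ ζ : H0, ζ ^ 3 = 1 → ζ ≠ 1 →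
    (∀ k ∈ [p0, v0, b0], k * ζ * k⁻¹ = 1 ∨ k * ζ * k⁻¹ = ζ ∨ k * ζ * k⁻¹ = ζ⁻¹) → z0 = ζ ∨ z0⁻¹ = ζ) ζ
    (hi (by simpa using hz)) (fun a => nc _ hy (mem_zpowers _) (by rw [a, map_one]; exact one_mem _))
    fun k _ => h1 k
  obtain ⟨k, h3, h4⟩ := (by decide +kernel : ∀ ζ, z0 = ζ ∨ z0⁻¹ = ζ → ∀ η : H0, η ^ 3 = 1 →
    η * ζ = ζ * η → (∀ i ∈ [0, 1, 2], η ≠ ζ ^ i) → ∃ k, (k * z0 * k⁻¹ = ζ ∨ k * z0⁻¹ * k⁻¹ = ζ) ∧
      (k * p0 * k⁻¹ = η ∨ k * (z0 * p0) * k⁻¹ = η)) ζ h2 η (hi (by simpa using hy))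
    (hi (by simpa using hyz)) fun i _ a => nc _ hz ⟨i, by simp [a]⟩ (mem_zpowers _)
  let χ := ψ.comp (MulAut.conj k).toMonoidHom
  have hχ : Function.Injective χ := hi.comp (MulAut.conj k).injective
  have h5 : χ z0 = ψ ζ ∨ χ z0⁻¹ = ψ ζ := h3.imp (congrArg ψ) (congrArg ψ)
  have h6 : χ p0 = ψ η ∨ χ (z0 * p0) = ψ η := h4.imp (congrArg ψ) (congrArg ψ)
  have h7 : zpowers (χ z0) = zpowers (ψ ζ) := by rcases h5 with a | a <;> simp [← a]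
  have h8 : χ.range = ψ.range := by
    rw [MonoidHom.range_comp, MonoidHom.range_eq_top.2 (MulAut.conj k).surjective,
      ← MonoidHom.range_eq_map]
  refine ⟨χ, hχ, h5, h6, (eq_of_le_of_card_ge (hgen.ge.trans ((closure_le _).2 ?_)) (by
    rw [card_map_of_injective hχ, card_D0, hcard])).symm, fun g => ⟨fun a => ?_, fun a =>
      h8 ▸ hn g _ h7 (by simpa only [W2.Rel, map_inv] using a)⟩⟩
  · rintro _ (rfl | rfl)
    · rcases h6 with a | a <;> exact ⟨_, (by decide +kernel : InD _), a⟩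
    · rcases h5 with a | a <;> exact ⟨_, (by decide +kernel : InD _), a⟩
  · obtain ⟨m, rfl⟩ := a
    rcases (by decide +kernel : ∀ m, m * z0 * m⁻¹ = z0 ∨ m * z0 * m⁻¹ = z0⁻¹) m with a | a
    exacts [Or.inl ((W2.Rel.conj χ m z0).of_eq rfl a), Or.inr ((W2.Rel.conj χ m z0).of_eq rfl a)]

theorem exists_S29 [Finite G] {D : Subgroup G} {y z : G} (hgen : closure {y, z} = D)
    (hyz : y * z = z * y) (hcard : Nat.card D = 9) (hy : y ^ 3 = 1) (hz : z ^ 3 = 1)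
    (e : H0 ≃* normalizer (zpowers z : Set G)) (hN : Nat.card (normalizer (D : Set G)) = 72)
    (hcy : Nat.card (Cx y) = 18) (hcz : Nat.card (Cx z) = 180) : ∃ (ψ : H0 →* G) (t : G), S29 ψ t := by
  obtain ⟨ψ, hi, h1, h2, rfl, hr⟩ := exists_psi hgen hyz hcard hy hz e
  have cc : ∀ {u w : G}, IsConj u w → Nat.card (Cx u) = Nat.card (Cx w) := fun h => by
    obtain ⟨g, rfl⟩ := isConj_iff.1 h
    rw [← cj_Cx, card_cj]
  have c1 : Nat.card (Cx (ψ z0)) = 180 := by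
    rcases h1 with rfl | rfl
    · exact hcz
    · exact (cc (W2.Rel.isConj ((W2.Rel.conj ψ a0 z0).of_eq rfl (by decide +kernel)))).trans hcz
  have hB : B0.map ψ ≤ normalizer (D0.map ψ : Set G) := by
    rintro _ ⟨m, hm, rfl⟩
    refine mem_normalizer_of_forall ?_
    rintro _ ⟨d, hd, rfl⟩
    exact ⟨_, (by decide +kernel : ∀ m, InB m → ∀ d, InD d → InD (m * d * m⁻¹)) m hm d hd,
      Eq.symm (W2.Rel.conj ψ m d)⟩
  have hx : (B0.map ψ).relIndex (normalizer (D0.map ψ : Set G)) = 2 := by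
    have := card_mul_relIndex' hB
    rw [card_map_of_injective hi, card_B0, hN] at this
    omega
  obtain ⟨n, hn, hn'⟩ := SetLike.not_le_iff_exists.1 fun a => absurd (hx ▸ relIndex_eq_one.2 a)
    (by norm_num)
  have iD : ∀ p, InD p → ∃ q, InD q ∧ W2.Rel ψ n p q := fun p hp =>
    let ⟨q, a, b⟩ := conj_mem_of_mem_normalizer hn (x := ψ p) ⟨p, hp, rfl⟩; ⟨q, a, b.symm⟩
  have iB : ∀ p, InB p → ∃ q, InB q ∧ W2.Rel ψ n p q := fun p hp =>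
    let ⟨q, a, b⟩ := conj_mem_of_mem_normalizer (idx2_norm hB hx hn) (x := ψ p) ⟨p, hp, rfl⟩
    ⟨q, a, b.symm⟩
  obtain ⟨q0, a0', r0⟩ := iD z0 (by decide +kernel)
  obtain ⟨q1, a1, r1⟩ := iD p0 (by decide +kernel)
  obtain ⟨q2, a2, r2⟩ := iB a0 (by decide +kernel)
  obtain ⟨q3, a3, r3⟩ := iB b0 (by decide +kernel)
  have u : ∀ {p q}, W2.Rel ψ n p q → p = 1 → q = 1 := fun r a => r.uniq hi W2.Rel.one a
  have v : ∀ {p q}, W2.Rel ψ n p q → p ≠ 1 → q ≠ 1 := fun r a b => a (r.uniq' hi W2.Rel.one b)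
  obtain ⟨k, e0, e1, e2, e3⟩ := ((by decide +kernel : ∀ q0, InD q0 → q0 ≠ 1 → ∀ q1, InD q1 → q1 ≠ 1 →
    ∀ q2, InB q2 → q2 * q2 = 1 → q2 * q0 * q2 * q0 = 1 → q2 * q1 * q2 * q1⁻¹ = 1 → ∀ q3, InB q3 →
      q3 * q3 = 1 → q3 * q1 * q3 * q1 = 1 → q3 * q0 * q3 * q0⁻¹ = 1 → q2 * q3 * q2 * q3 = 1 →
      (q0 = z0 ∨ q0 = z0⁻¹) ∨ ∃ k, k * q0 * k⁻¹ = p0 ∧ k * q1 * k⁻¹ = z0 ∧ k * q2 * k⁻¹ = b0 ∧
        k * q3 * k⁻¹ = a0) q0 a0' (v r0 (by decide +kernel)) q1 a1 (v r1 (by decide +kernel)) q2 a2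
    (u (r2.mul r2) (by decide +kernel)) (u (((r2.mul r0).mul r2).mul r0) (by decide +kernel))
    (u (((r2.mul r1).mul r2).mul r1.inv) (by decide +kernel)) q3 a3
    (u (r3.mul r3) (by decide +kernel)) (u (((r3.mul r1).mul r3).mul r1) (by decide +kernel))
    (u (((r3.mul r0).mul r3).mul r0.inv) (by decide +kernel))
    (u (((r2.mul r3).mul r2).mul r3) (by decide +kernel))).resolve_left fun a => by
      obtain ⟨m, rfl⟩ := (hr n).2 (a.imp (r0.of_eq rfl) (r0.of_eq rfl))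
      exact hn' ⟨m, (by decide +kernel : ∀ m, InD (m * p0 * m⁻¹) → InB m) m
        ((W2.Rel.conj ψ m _).uniq hi r1 rfl ▸ a1), rfl⟩
  have t0 := ((W2.Rel.conj ψ k _).comp r0).of_eq rfl e0
  have t1 := ((W2.Rel.conj ψ k _).comp r1).of_eq rfl e1
  obtain rfl := h2.resolve_left fun a => by
    rw [← a, ← cc t0.isConj, c1] at hcy
    omega
  have hD : D0.map ψ ≤ Cx (ψ (z0 * p0)) := by
    rintro _ ⟨d, hd, rfl⟩
    exact S29.ic ((by decide +kernel : ∀ d, InD d → d * (z0 * p0) = z0 * p0 * d) d hd)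
  have hy2 : (D0.map ψ).relIndex (Cx (ψ (z0 * p0))) = 2 := by
    have := card_mul_relIndex' hD
    rw [hcard, hcy] at this
    omega
  have ht : ψ k * n ∈ Cx (ψ (z0 * p0)) := mem_Cx'.2 ((t0.mul t1).of_eq rfl (by decide +kernel))
  have ht' : ψ k * n ∉ D0.map ψ := fun ⟨d, hd, a⟩ => absurd ((W2.Rel.conj ψ d _).uniq hi (a ▸ t0) rfl)
    ((by decide +kernel : ∀ d, InD d → d * z0 * d⁻¹ ≠ p0) d hd)
  refine ⟨ψ, ψ k * n, hi, fun g => (hr g).2, t0, t1, ((W2.Rel.conj ψ k _).comp r2).of_eq rfl e2,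
    ((W2.Rel.conj ψ k _).comp r3).of_eq rfl e3, fun g hg => ?_, fun a => ?_⟩
  · by_cases a : g ∈ D0.map ψ
    · obtain ⟨d, hd, rfl⟩ := a
      exact ⟨d, hd, Or.inl rfl⟩
    · obtain ⟨d, hd, b⟩ := (mul_mem_iff_of_index_two hy2 (a := ⟨g, hg⟩) (b := ⟨_, inv_mem ht⟩)).2
        (iff_of_false a fun c => ht' ((inv_mem_iff (x := ψ k * n)).1 c))
      exact ⟨d, hd, Or.inr (eq_mul_of_mul_inv_eq b.symm)⟩
  · rw [cc a, c1] at hcy
    omega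

end A8

end CfsgLib.Rec3
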