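import Mathlib
import Cfsg.Agent.Lib.W2.Tab

/-! Certified coset enumerations (generated by tools/cosetenum/w2tc.cpp). -/

set_option maxRecDepth 100000
set_option Elab.async false

namespace CfsgLib.Rec3

open CfsgLib.CosetEnum

/-- generators a b e c f g v; relators aaa bbb eee aba^-1b^-1 aea^-1e^-1 beb^-1e^-1 ccc a^-1c^-1bc a^-1cec^-1 a^-1f^-1bf afbf^-1 cfcf c^-1fgc^-1f ffff (av)^3 a^-1b^-1vab^-1fvb^-1av eve^-1v (gv)^2 (vbcf)^4 -/
def pR9_rels : List (List ℕ) := [[0, 0, 0],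
  [2, 2, 2],
  [4, 4, 4],
  [0, 2, 1, 3],
  [0, 4, 1, 5],
  [2, 4, 3, 5],
  [6, 6, 6],
  [1, 7, 2, 6],
  [1, 6, 4, 7],
  [1, 9, 2, 8],
  [0, 8, 2, 9],
  [6, 8, 6, 8],
  [7, 8, 10, 7, 8],
  [8, 8, 8, 8],
  [0, 12, 0, 12, 0, 12],
  [1, 3, 12, 0, 3, 8, 12, 3, 0, 12],
  [4, 12, 5, 12],
  [10, 12, 10, 12],
  [12, 2, 6, 8, 12, 2, 6, 8, 12, 2, 6, 8, 12, 2, 6, 8]]

def pR9_1_nets_n0_0 : ℕ := (nat_lit 0x1)
def pR9_1_nets_n0_1 : ℕ := (nat_lit 0x1)
def pR9_1_nets_n0 : Net :=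
  (Net.cons pR9_1_nets_n0_0 (nat_lit 1) (Net.cons pR9_1_nets_n0_1 (nat_lit 2) Net.nil))
def pR9_1_nets : List Net := [pR9_1_nets_n0, Net.nil, Net.nil, Net.nil, Net.nil, Net.nil, Net.nil]
def pR9_1_rels : List (List ℕ) := [[0, 0, 0]]
theorem pR9_1_nets_ok : allL (Net.ok 3) pR9_1_nets = true := by decide +kernel
theorem pR9_1_rel_s0 : relsAt pR9_1_nets 3 2 (List.range' 0 2) (sqW [5, 6] ++ pR9_1_rels) = true := by decide +kernel
theorem pR9_1_rel : ∀ w ∈ (sqW [5, 6] ++ pR9_1_rels), ev (netGen pR9_1_nets) w = 1 :=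
  SlicesOk.rel (K := 2) ((SlicesOk.zero _ _ _ _).step 2 pR9_1_rel_s0)
    pR9_1_nets_ok (by norm_num)
theorem pR9_1_model : Model 3 pR9_1_nets (imOf [5, 6]) pR9_1_rels := Model.of_rel pR9_1_nets_ok pR9_1_rel
def pR9_1_t : Tr := (Tr.node (Tr.node Tr.leaf [1] 0 0 0 Tr.leaf) [0] 0 0 0 Tr.leaf)
def pR9_1_m0 : ℕ := (nat_lit 0x4)
def pR9_1_m1 : ℕ := (nat_lit 0x2)
def pR9_1_p0 : List ℕ := [nat_lit 0x1002001003,
  nat_lit 0x1001001001001]
noncomputable def pR9_1 : CE where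
  p0 := 0
  F := (Nat.sub (Nat.shiftLeft 1 3) 1)
  masks := [pR9_1_m0, pR9_1_m1]
  gprog := [0, 1]
  cprog := []
  sids := []
  t0 := pR9_1_t
  s := 12
  progs := [pR9_1_p0]
  O := (Nat.sub (Nat.shiftLeft 1 3) 1)
  yids := [0]
theorem pR9_1_chk : ∃ progs, CE.check { pR9_1 with progs := progs } pR9_1_nets (imOf [5, 6]) pR9_1_rels [] [[0]] = true :=
  ⟨pR9_1.progs, by decide +kernel⟩
theorem pR9_1_idx {Γ : Type*} [Group Γ] {g : ℕ → Γ} (hi : InvOk g (imOf [5, 6])) (hr : ∀ r ∈ pR9_1_rels, ev g r = 1)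
    {H : Subgroup Γ} (hs : ∀ u ∈ ([] : List (List ℕ)), ev g u ∈ H) :
    H.relIndex (gen g [[0]]) ≠ 0 ∧ H.relIndex (gen g [[0]]) ≤ 3 :=
  Reach.relIndex_le pR9_1_model hi hr hs pR9_1_chk (by decide +kernel)

def pR9_2_nets_n1_0 : ℕ := (nat_lit 0x1)
def pR9_2_nets_n1_1 : ℕ := (nat_lit 0x1)
def pR9_2_nets_n1 : Net :=
  (Net.cons pR9_2_nets_n1_0 (nat_lit 1) (Net.cons pR9_2_nets_n1_1 (nat_lit 2) Net.nil))
def pR9_2_nets : List Net := [Net.nil, pR9_2_nets_n1, Net.nil, Net.nil, Net.nil, Net.nil, Net.nil]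
def pR9_2_rels : List (List ℕ) := [[0, 0, 0],
  [2, 2, 2],
  [0, 2, 1, 3]]
theorem pR9_2_nets_ok : allL (Net.ok 3) pR9_2_nets = true := by decide +kernel
theorem pR9_2_rel_s0 : relsAt pR9_2_nets 3 2 (List.range' 0 2) (sqW [5, 6] ++ pR9_2_rels) = true := by decide +kernel
theorem pR9_2_rel : ∀ w ∈ (sqW [5, 6] ++ pR9_2_rels), ev (netGen pR9_2_nets) w = 1 :=
  SlicesOk.rel (K := 2) ((SlicesOk.zero _ _ _ _).step 2 pR9_2_rel_s0)
    pR9_2_nets_ok (by norm_num)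
theorem pR9_2_model : Model 3 pR9_2_nets (imOf [5, 6]) pR9_2_rels := Model.of_rel pR9_2_nets_ok pR9_2_rel
def pR9_2_t : Tr := (Tr.node (Tr.node (Tr.node Tr.leaf [3] 0 0 0 Tr.leaf) [2] 0 0 0 Tr.leaf) [0] 0 0 0 (Tr.node Tr.leaf [1] 0 0 0 Tr.leaf))
def pR9_2_m0 : ℕ := (nat_lit 0)
def pR9_2_m1 : ℕ := (nat_lit 0x4)
def pR9_2_m2 : ℕ := (nat_lit 0)
def pR9_2_m3 : ℕ := (nat_lit 0x2)
def pR9_2_p0 : List ℕ := [nat_lit 0x1004003007,
  nat_lit 0x3001002003003,
  nat_lit 0x3002006003001004,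
  nat_lit 0x4002003003001003]
noncomputable def pR9_2 : CE where
  p0 := 0
  F := (Nat.sub (Nat.shiftLeft 1 3) 1)
  masks := [pR9_2_m0, pR9_2_m1, pR9_2_m2, pR9_2_m3]
  gprog := [1, 3]
  cprog := []
  sids := [0]
  t0 := pR9_2_t
  s := 12
  progs := [pR9_2_p0]
  O := (Nat.sub (Nat.shiftLeft 1 3) 1)
  yids := [0, 1]
theorem pR9_2_chk : ∃ progs, CE.check { pR9_2 with progs := progs } pR9_2_nets (imOf [5, 6]) pR9_2_rels [[0]] [[0], [2]] = true :=
  ⟨pR9_2.progs, by decide +kernel⟩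
theorem pR9_2_idx {Γ : Type*} [Group Γ] {g : ℕ → Γ} (hi : InvOk g (imOf [5, 6])) (hr : ∀ r ∈ pR9_2_rels, ev g r = 1)
    {H : Subgroup Γ} (hs : ∀ u ∈ ([[0]] : List (List ℕ)), ev g u ∈ H) :
    H.relIndex (gen g [[0], [2]]) ≠ 0 ∧ H.relIndex (gen g [[0], [2]]) ≤ 3 :=
  Reach.relIndex_le pR9_2_model hi hr hs pR9_2_chk (by decide +kernel)

def pR9_3_nets_n2_0 : ℕ := (nat_lit 0x1)
def pR9_3_nets_n2_1 : ℕ := (nat_lit 0x1)
def pR9_3_nets_n2 : Net :=
  (Net.cons pR9_3_nets_n2_0 (nat_lit 1) (Net.cons pR9_3_nets_n2_1 (nat_lit 2) Net.nil))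
def pR9_3_nets : List Net := [Net.nil, Net.nil, pR9_3_nets_n2, Net.nil, Net.nil, Net.nil, Net.nil]
def pR9_3_rels : List (List ℕ) := [[0, 0, 0],
  [2, 2, 2],
  [4, 4, 4],
  [0, 2, 1, 3],
  [0, 4, 1, 5],
  [2, 4, 3, 5]]
theorem pR9_3_nets_ok : allL (Net.ok 3) pR9_3_nets = true := by decide +kernel
theorem pR9_3_rel_s0 : relsAt pR9_3_nets 3 2 (List.range' 0 2) (sqW [5, 6] ++ pR9_3_rels) = true := by decide +kernel
theorem pR9_3_rel : ∀ w ∈ (sqW [5, 6] ++ pR9_3_rels), ev (netGen pR9_3_nets) w = 1 :=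
  SlicesOk.rel (K := 2) ((SlicesOk.zero _ _ _ _).step 2 pR9_3_rel_s0)
    pR9_3_nets_ok (by norm_num)
theorem pR9_3_model : Model 3 pR9_3_nets (imOf [5, 6]) pR9_3_rels := Model.of_rel pR9_3_nets_ok pR9_3_rel
def pR9_3_t : Tr := (Tr.node (Tr.node (Tr.node Tr.leaf [1] 0 0 0 Tr.leaf) [2] 0 0 0 (Tr.node Tr.leaf [5] 0 0 0 Tr.leaf)) [0] 0 0 0 (Tr.node (Tr.node Tr.leaf [3] 0 0 0 Tr.leaf) [4] 0 0 0 Tr.leaf))
def pR9_3_m0 : ℕ := (nat_lit 0)
def pR9_3_m1 : ℕ := (nat_lit 0)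
def pR9_3_m2 : ℕ := (nat_lit 0x4)
def pR9_3_m3 : ℕ := (nat_lit 0)
def pR9_3_m4 : ℕ := (nat_lit 0)
def pR9_3_m5 : ℕ := (nat_lit 0x2)
def pR9_3_p0 : List ℕ := [nat_lit 0x100700500b,
  nat_lit 0x5001003005005,
  nat_lit 0x5002006005001006,
  nat_lit 0x5004006006003006,
  nat_lit 0x6002003005001005,
  nat_lit 0x6004003006003005]
noncomputable def pR9_3 : CE where
  p0 := 0
  F := (Nat.sub (Nat.shiftLeft 1 3) 1)
  masks := [pR9_3_m0, pR9_3_m1, pR9_3_m2, pR9_3_m3, pR9_3_m4, pR9_3_m5]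
  gprog := [2, 5]
  cprog := []
  sids := [0, 1]
  t0 := pR9_3_t
  s := 12
  progs := [pR9_3_p0]
  O := (Nat.sub (Nat.shiftLeft 1 3) 1)
  yids := [0, 1, 2]
theorem pR9_3_chk : ∃ progs, CE.check { pR9_3 with progs := progs } pR9_3_nets (imOf [5, 6]) pR9_3_rels [[0], [2]] [[0], [2], [4]] = true :=
  ⟨pR9_3.progs, by decide +kernel⟩
theorem pR9_3_idx {Γ : Type*} [Group Γ] {g : ℕ → Γ} (hi : InvOk g (imOf [5, 6])) (hr : ∀ r ∈ pR9_3_rels, ev g r = 1)
    {H : Subgroup Γ} (hs : ∀ u ∈ ([[0], [2]] : List (List ℕ)), ev g u ∈ H) :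
    H.relIndex (gen g [[0], [2], [4]]) ≠ 0 ∧ H.relIndex (gen g [[0], [2], [4]]) ≤ 3 :=
  Reach.relIndex_le pR9_3_model hi hr hs pR9_3_chk (by decide +kernel)

def pR9_4_nets_n3_0 : ℕ := (nat_lit 0x400000)
def pR9_4_nets_n3_1 : ℕ := (nat_lit 0x303030)
def pR9_4_nets_n3_2 : ℕ := (nat_lit 0x69)
def pR9_4_nets_n3_3 : ℕ := (nat_lit 0xff)
def pR9_4_nets_n3_4 : ℕ := (nat_lit 0x96)
def pR9_4_nets_n3_5 : ℕ := (nat_lit 0xc0c0c)
def pR9_4_nets_n3_6 : ℕ := (nat_lit 0x121212)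
def pR9_4_nets_n3_7 : ℕ := (nat_lit 0x541414)
def pR9_4_nets_n4_0 : ℕ := (nat_lit 0x44444)
def pR9_4_nets_n4_1 : ℕ := (nat_lit 0x121212)
def pR9_4_nets_n4_2 : ℕ := (nat_lit 0x511111)
def pR9_4_nets_n5_0 : ℕ := (nat_lit 0xf0f0f)
def pR9_4_nets_n5_1 : ℕ := (nat_lit 0x440000)
def pR9_4_nets_n3 : Net :=
  (Net.cons pR9_4_nets_n3_0 (nat_lit 1) (Net.cons pR9_4_nets_n3_1 (nat_lit 2) (Net.cons pR9_4_nets_n3_2 (nat_lit 8) (Net.cons pR9_4_nets_n3_3 (nat_lit 16) (Net.cons pR9_4_nets_n3_4 (nat_lit 8) (Net.cons pR9_4_nets_n3_5 (nat_lit 4) (Net.cons pR9_4_nets_n3_6 (nat_lit 2) (Net.cons pR9_4_nets_n3_7 (nat_lit 1) Net.nil))))))))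
def pR9_4_nets_n4 : Net :=
  (Net.cons pR9_4_nets_n4_0 (nat_lit 1) (Net.cons pR9_4_nets_n4_1 (nat_lit 2) (Net.cons pR9_4_nets_n4_2 (nat_lit 1) Net.nil)))
def pR9_4_nets_n5 : Net :=
  (Net.cons pR9_4_nets_n5_0 (nat_lit 4) (Net.cons pR9_4_nets_n5_1 (nat_lit 1) Net.nil))
def pR9_4_nets : List Net := [Net.nil, Net.nil, Net.nil, pR9_4_nets_n3, pR9_4_nets_n4, pR9_4_nets_n5, Net.nil]
def pR9_4_rels : List (List ℕ) := [[0, 0, 0],
  [2, 2, 2],
  [4, 4, 4],
  [0, 2, 1, 3],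
  [0, 4, 1, 5],
  [2, 4, 3, 5],
  [6, 6, 6],
  [1, 7, 2, 6],
  [1, 6, 4, 7],
  [1, 9, 2, 8],
  [0, 8, 2, 9],
  [6, 8, 6, 8],
  [7, 8, 10, 7, 8],
  [8, 8, 8, 8]]
theorem pR9_4_nets_ok : allL (Net.ok 24) pR9_4_nets = true := by decide +kernel
theorem pR9_4_rel_s0 : relsAt pR9_4_nets 24 5 (List.range' 0 5) (sqW [5, 6] ++ pR9_4_rels) = true := by decide +kernel
theorem pR9_4_rel : ∀ w ∈ (sqW [5, 6] ++ pR9_4_rels), ev (netGen pR9_4_nets) w = 1 :=
  SlicesOk.rel (K := 5) ((SlicesOk.zero _ _ _ _).step 5 pR9_4_rel_s0)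
    pR9_4_nets_ok (by norm_num)
theorem pR9_4_model : Model 24 pR9_4_nets (imOf [5, 6]) pR9_4_rels := Model.of_rel pR9_4_nets_ok pR9_4_rel
def pR9_4_t : Tr := (Tr.node (Tr.node (Tr.node (Tr.node Tr.leaf [3] 0 0 0 Tr.leaf) [6] 0 0 0 Tr.leaf) [2] 0 0 0 (Tr.node (Tr.node Tr.leaf [7] 0 0 0 Tr.leaf) [10] 0 0 0 Tr.leaf)) [0] 0 0 0 (Tr.node (Tr.node (Tr.node Tr.leaf [5] 0 0 0 Tr.leaf) [8] 0 0 0 Tr.leaf) [4] 0 0 0 (Tr.node (Tr.node Tr.leaf [9] 0 0 0 Tr.leaf) [1] 0 0 0 Tr.leaf)))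
def pR9_4_m0 : ℕ := (nat_lit 0)
def pR9_4_m1 : ℕ := (nat_lit 0)
def pR9_4_m2 : ℕ := (nat_lit 0)
def pR9_4_m3 : ℕ := (nat_lit 0x41a080)
def pR9_4_m4 : ℕ := (nat_lit 0x40404)
def pR9_4_m5 : ℕ := (nat_lit 0x905070)
def pR9_4_m6 : ℕ := (nat_lit 0)
def pR9_4_m7 : ℕ := (nat_lit 0)
def pR9_4_m8 : ℕ := (nat_lit 0)
def pR9_4_m9 : ℕ := (nat_lit 0x280900)
def pR9_4_m10 : ℕ := (nat_lit 0x2020a)
def pR9_4_p0 : List ℕ := [nat_lit 0x100f007013,
  nat_lit 0x100f009015,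
  nat_lit 0x100f00b00b,
  nat_lit 0x7001007007007,
  nat_lit 0x900700300c007009,
  nat_lit 0x900400200a00100a,
  nat_lit 0x900100700b00300a,
  nat_lit 0xa00200700a003009,
  nat_lit 0xa00300300b001009,
  nat_lit 0x7004002008001008,
  nat_lit 0x7002007009005008,
  nat_lit 0x900900100e009009,
  nat_lit 0x800c00900100d009008,
  nat_lit 0x8002007008003007,
  nat_lit 0x8006002009001007,
  nat_lit 0xa00700a00800d00700c,
  nat_lit 0x900800900700d00b008,
  nat_lit 0x100f00b00b,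
  nat_lit 0x800900800500d00900c,
  nat_lit 0x900400200a00100a,
  nat_lit 0xa00200700a003009,
  nat_lit 0x7001007007007,
  nat_lit 0x900100700b00300a,
  nat_lit 0x7004002008001008,
  nat_lit 0x7002007009005008,
  nat_lit 0x800c00900100d009008,
  nat_lit 0x8002007008003007,
  nat_lit 0x800a00400c00a008,
  nat_lit 0xa00300300b001009,
  nat_lit 0x900400200a00100a,
  nat_lit 0x900100700b00300a,
  nat_lit 0xa00200700a003009,
  nat_lit 0x900800900700d00b008,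
  nat_lit 0x100f00b00b,
  nat_lit 0x800900800500d00900c,
  nat_lit 0x7002007009005008,
  nat_lit 0x900100700b00300a,
  nat_lit 0x900400200a00100a,
  nat_lit 0x7004002008001008,
  nat_lit 0x900900100e009009,
  nat_lit 0x900700300c007009,
  nat_lit 0x7002007009005008,
  nat_lit 0x900100700b00300a,
  nat_lit 0x900800900700d00b008,
  nat_lit 0xa00700a00800d00700c,
  nat_lit 0x800900800500d00900c,
  nat_lit 0x900400200a00100a,
  nat_lit 0x900100700b00300a,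
  nat_lit 0x7002007009005008,
  nat_lit 0x900900100e009009,
  nat_lit 0x7001007007007,
  nat_lit 0x7002007009005008]
noncomputable def pR9_4 : CE where
  p0 := 0
  F := (Nat.sub (Nat.shiftLeft 1 24) 1)
  masks := [pR9_4_m0, pR9_4_m1, pR9_4_m2, pR9_4_m3, pR9_4_m4, pR9_4_m5, pR9_4_m6, pR9_4_m7, pR9_4_m8, pR9_4_m9, pR9_4_m10]
  gprog := [3, 4, 5, 9, 10, 3, 4, 5, 9, 10, 3]
  cprog := []
  sids := [0, 1, 2]
  t0 := pR9_4_t
  s := 12
  progs := [pR9_4_p0]
  O := (Nat.sub (Nat.shiftLeft 1 24) 1)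
  yids := [0, 1, 2, 3, 4, 5]
theorem pR9_4_chk : ∃ progs, CE.check { pR9_4 with progs := progs } pR9_4_nets (imOf [5, 6]) pR9_4_rels [[0], [2], [4]] [[0], [2], [4], [6], [8], [10]] = true :=
  ⟨pR9_4.progs, by decide +kernel⟩
theorem pR9_4_idx {Γ : Type*} [Group Γ] {g : ℕ → Γ} (hi : InvOk g (imOf [5, 6])) (hr : ∀ r ∈ pR9_4_rels, ev g r = 1)
    {H : Subgroup Γ} (hs : ∀ u ∈ ([[0], [2], [4]] : List (List ℕ)), ev g u ∈ H) :
    H.relIndex (gen g [[0], [2], [4], [6], [8], [10]]) ≠ 0 ∧ H.relIndex (gen g [[0], [2], [4], [6], [8], [10]]) ≤ 24 :=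
  Reach.relIndex_le pR9_4_model hi hr hs pR9_4_chk (by decide +kernel)

def pR9_5_nets_n0_0 : ℕ := (nat_lit 0x5414114400004000010001015040010100000000400101000000110100100001000002)
def pR9_5_nets_n0_1 : ℕ := (nat_lit 0xc80848080c0cc848c8c480cc00c40c0cc400008c880000040800c00cc4000800c0032)
def pR9_5_nets_n0_2 : ℕ := (nat_lit 0x404102818241000183c0808282c28140038080020340828040001410381414000030)
def pR9_5_nets_n0_3 : ℕ := (nat_lit 0x2c000540010022000005401380294003800940328000803803240220020000)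
def pR9_5_nets_n0_4 : ℕ := (nat_lit 0x25800038860000100000002700001788800000c000000000000000440002800000)
def pR9_5_nets_n0_5 : ℕ := (nat_lit 0x358aba2d80000000268982400000000840000000000000374f880000)
def pR9_5_nets_n0_6 : ℕ := (nat_lit 0xaabaaf80000000000000000f6fc24e788000000000000000000000)
def pR9_5_nets_n0_7 : ℕ := (nat_lit 0x8e13ed8000000026f2bcc00000002be8a82a800000000000000000)
def pR9_5_nets_n0_8 : ℕ := (nat_lit 0x7140000c7d4000310d00003a40002b390000281080002a8680000124000088a000)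
def pR9_5_nets_n0_9 : ℕ := (nat_lit 0x403d000bc0030015001680003780034013400bc02340180000c02c01780080000c00)
def pR9_5_nets_n0_10 : ℕ := (nat_lit 0x4302c1c2c00340818302c20201c200c20380808083c002c000003c1c143c30282800)
def pR9_5_nets_n0_11 : ℕ := (nat_lit 0xcc4c8c8cc0c88c44444840c408c08808400008c400048404088848884088008480800)
def pR9_5_nets_n0_12 : ℕ := (nat_lit 0x101441000440000004041140500004040155555154040400000044040055540400000)
def pR9_5_nets_n1_0 : ℕ := (nat_lit 0x515110055155004004000000aa2280a0008000a080a8a0828a020a0802802288288082)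
def pR9_5_nets_n1_1 : ℕ := (nat_lit 0x8884888cc04000c00480099808119099811191198088010180001009180009801020)
def pR9_5_nets_n1_2 : ℕ := (nat_lit 0x81414201430081c0828080830580860186060400000506048000383810607030301a)
def pR9_5_nets_n1_3 : ℕ := (nat_lit 0x8031400840030031003000005b801400480017802100140000002003000640048002)
def pR9_5_nets_n1_4 : ℕ := (nat_lit 0xa04000130800000e00000037800050450000145980000a00000000200000400000)
def pR9_5_nets_n1_5 : ℕ := (nat_lit 0x91455a9c00000001245800000000018000000000000001da2648000)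
def pR9_5_nets_n1_6 : ℕ := (nat_lit 0x365fa9c00000000000000006cfdb1c990a00000000000000000000)
def pR9_5_nets_n1_7 : ℕ := (nat_lit 0x1f2aa9c00000003052df800000003eca1128800000000000000000)
def pR9_5_nets_n1_8 : ℕ := (nat_lit 0xdb800029f480001f8100000a00006f1b8000150300003f0c00002bf00003343800)
def pR9_5_nets_n1_9 : ℕ := (nat_lit 0x402cc028c018403e401d40003e0041005400238009001c0015801806b80610068000)
def pR9_5_nets_n1_10 : ℕ := (nat_lit 0x24103800200004081c2c3438186000500848706078781860280003030385000102800)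
def pR9_5_nets_n1_11 : ℕ := (nat_lit 0xc00444c004cc080cc0808011910980891889890089818911089010990819189000046)
def pR9_5_nets_n1_12 : ℕ := (nat_lit 0x515115500105054151415402a0a82280888002a82a2280a282028022002880a28808a0)
def pR9_5_nets_n2_0 : ℕ := (nat_lit 0x1000000000000000000000000000000)
def pR9_5_nets_n2_1 : ℕ := (nat_lit 0x303000000000000c0000000000000000c000000000000000000000000000c0000)
def pR9_5_nets_n2_2 : ℕ := (nat_lit 0xc300003c3c3c3c3c3c3c3c300c000030303c3c3c0c0c00300000)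
def pR9_5_nets_n2_3 : ℕ := (nat_lit 0xf00ff00ff000000000000000c000fc0300030003cc000c00c000c000c00030003c00)
def pR9_5_nets_n2_4 : ℕ := (nat_lit 0xff0000ff0c0000000033cfc0000c33c0003cc3000033cc00000000000)
def pR9_5_nets_n2_5 : ℕ := (nat_lit 0xffff00000000000000000003c00000000003c3c0000000003ffc0000000)
def pR9_5_nets_n2_6 : ℕ := (nat_lit 0x3ffc0c0300000000000)
def pR9_5_nets_n2_7 : ℕ := (nat_lit 0x3fc3ffffc0000000)
def pR9_5_nets_n2_8 : ℕ := (nat_lit 0x3c00003fc3fc00)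
def pR9_5_nets_n2_9 : ℕ := (nat_lit 0xc33c0000000030303c0000000000ff003c0000)
def pR9_5_nets_n2_10 : ℕ := (nat_lit 0xff000000000003c000300c0000033cc0000c03000033cc00000000000)
def pR9_5_nets_n2_11 : ℕ := (nat_lit 0xff000000ff00fc00cc000c0033c00c0033c003003cc033c00c0030000c0000000)
def pR9_5_nets_n2_12 : ℕ := (nat_lit 0xf0c0003000c0c0c30000c0003c3c3c3c0c0c0c3000003030003c3c3c3c300c003000)
def pR9_5_nets_n2_13 : ℕ := (nat_lit 0x33000300300000cc00cc000000000000cc008c0000000c0c000000008c0000c0000)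
def pR9_5_nets_n2_14 : ℕ := (nat_lit 0x440000000000001555005444540000000000014000000000000010000100000000000)
def pR9_5_nets_n3_0 : ℕ := (nat_lit 0xa22000aa028a200aa0a2a020aaaa20228a8a8822a220200a800aa8aa088028828a00)
def pR9_5_nets_n3_1 : ℕ := (nat_lit 0x2426620260024246200264202006200460404426404426462602424244004240204264)
def pR9_5_nets_n3_2 : ℕ := (nat_lit 0x41a08080e080a141218020e1c0c081c18141e02021800021e04021c06001a080e0800)
def pR9_5_nets_n3_3 : ℕ := (nat_lit 0x86018a013a01dc005201f801580000003801e001c8000a00ba005801d600500040)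
def pR9_5_nets_n3_4 : ℕ := (nat_lit 0x50000099b00000d1d0000144e20000874400000d16000094c20000010200000000)
def pR9_5_nets_n3_5 : ℕ := (nat_lit 0x14ceffc6a000000006c4030a800000000801981400000000000980040)
def pR9_5_nets_n3_6 : ℕ := (nat_lit 0x147827848232e00da00000000000000000000000000100000)
def pR9_5_nets_n3_7 : ℕ := (nat_lit 0xb698462b0100305448a790803fe84da)
def pR9_5_nets_n3_8 : ℕ := (nat_lit 0xfe84da)
def pR9_5_nets_n3_9 : ℕ := (nat_lit 0xfe84da)
def pR9_5_nets_n3_10 : ℕ := (nat_lit 0x1c49679084caff8720000000000000000ffe7ffa211ee4578)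
def pR9_5_nets_n3_11 : ℕ := (nat_lit 0x14deffdfa0000000077054c0200000000609180020000000083180140)
def pR9_5_nets_n3_12 : ℕ := (nat_lit 0xda000193c40000bdba000158a200001bcc000101c000017ee600008a6a000000ec)
def pR9_5_nets_n3_13 : ℕ := (nat_lit 0x106000800a000d4013601f801dc018400fa014a0066004a014a01ba01dc016a010a)
def pR9_5_nets_n3_14 : ℕ := (nat_lit 0xe1a04140c1c02161a121a0e1a18181c10181e081612020202041c0810181a16180814)
def pR9_5_nets_n3_15 : ℕ := (nat_lit 0x2066004644624246462206064644602606440060004022206062660444462262404064)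
def pR9_5_nets_n3_16 : ℕ := (nat_lit 0x282800088a88a228a82002808aa8aa08888220808202280220282a022a0082aa80aa0)
def pR9_5_nets_n4_0 : ℕ := (nat_lit 0x4040000000000004000041510000000000141110000000000000000000011000000100)
def pR9_5_nets_n4_1 : ℕ := (nat_lit 0x11100000000000000000000448800000000c0004ccc0000c000cc840000c00c0000c8c)
def pR9_5_nets_n4_2 : ℕ := (nat_lit 0xf09090f090f03c3c28000003c3c3c3c243c00003c3c182400003c3c03c03c3c000)
def pR9_5_nets_n4_3 : ℕ := (nat_lit 0x21333321332108484cc00000844848840c84000048480ccc0000488404804884000)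
def pR9_5_nets_n4_4 : ℕ := (nat_lit 0x1510000000000000000114045540000000141104444000000000154000111040000050)
def pR9_5_nets_n5_0 : ℕ := (nat_lit 0x50000000000004000154000000000000000000000000000000000000040040000150)
def pR9_5_nets_n5_1 : ℕ := (nat_lit 0x300030000000000c00000000000000c000000000c000000000000cc0c00c000)
def pR9_5_nets_n5_2 : ℕ := (nat_lit 0xf00f0f00000000000000003c3c0000000000003c3c000000003c3c000000000000000)
def pR9_5_nets_n5_3 : ℕ := (nat_lit 0xff00ff003fc000000003fc03fc03fc000003fc03fc000003fc00000000000)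
def pR9_5_nets_n5_4 : ℕ := (nat_lit 0x3030303000000000000000000000c0c00000000300c0000000000000000000)
def pR9_5_nets_n5_5 : ℕ := (nat_lit 0x33333000300000c0c00000000000000000c08400c0c00ccc0000000000000000000)
def pR9_5_nets_n5_6 : ℕ := (nat_lit 0x1100000000000000000000155540000000000015444000000000000000000000000000)
def pR9_5_nets_n6_0 : ℕ := (nat_lit 0x5555555555555551555554155555555555555548511555555555555555515515555545)
def pR9_5_nets_n0 : Net :=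
  (Net.cons pR9_5_nets_n0_0 (nat_lit 1) (Net.cons pR9_5_nets_n0_1 (nat_lit 2) (Net.cons pR9_5_nets_n0_2 (nat_lit 4) (Net.cons pR9_5_nets_n0_3 (nat_lit 8) (Net.cons pR9_5_nets_n0_4 (nat_lit 16) (Net.cons pR9_5_nets_n0_5 (nat_lit 32) (Net.cons pR9_5_nets_n0_6 (nat_lit 64) (Net.cons pR9_5_nets_n0_7 (nat_lit 32) (Net.cons pR9_5_nets_n0_8 (nat_lit 16) (Net.cons pR9_5_nets_n0_9 (nat_lit 8) (Net.cons pR9_5_nets_n0_10 (nat_lit 4) (Net.cons pR9_5_nets_n0_11 (nat_lit 2) (Net.cons pR9_5_nets_n0_12 (nat_lit 1) Net.nil)))))))))))))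
def pR9_5_nets_n1 : Net :=
  (Net.cons pR9_5_nets_n1_0 (nat_lit 1) (Net.cons pR9_5_nets_n1_1 (nat_lit 2) (Net.cons pR9_5_nets_n1_2 (nat_lit 4) (Net.cons pR9_5_nets_n1_3 (nat_lit 8) (Net.cons pR9_5_nets_n1_4 (nat_lit 16) (Net.cons pR9_5_nets_n1_5 (nat_lit 32) (Net.cons pR9_5_nets_n1_6 (nat_lit 64) (Net.cons pR9_5_nets_n1_7 (nat_lit 32) (Net.cons pR9_5_nets_n1_8 (nat_lit 16) (Net.cons pR9_5_nets_n1_9 (nat_lit 8) (Net.cons pR9_5_nets_n1_10 (nat_lit 4) (Net.cons pR9_5_nets_n1_11 (nat_lit 2) (Net.cons pR9_5_nets_n1_12 (nat_lit 1) Net.nil)))))))))))))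
def pR9_5_nets_n2 : Net :=
  (Net.cons pR9_5_nets_n2_0 (nat_lit 1) (Net.cons pR9_5_nets_n2_1 (nat_lit 2) (Net.cons pR9_5_nets_n2_2 (nat_lit 4) (Net.cons pR9_5_nets_n2_3 (nat_lit 8) (Net.cons pR9_5_nets_n2_4 (nat_lit 16) (Net.cons pR9_5_nets_n2_5 (nat_lit 32) (Net.cons pR9_5_nets_n2_6 (nat_lit 64) (Net.cons pR9_5_nets_n2_7 (nat_lit 128) (Net.cons pR9_5_nets_n2_8 (nat_lit 64) (Net.cons pR9_5_nets_n2_9 (nat_lit 32) (Net.cons pR9_5_nets_n2_10 (nat_lit 16) (Net.cons pR9_5_nets_n2_11 (nat_lit 8) (Net.cons pR9_5_nets_n2_12 (nat_lit 4) (Net.cons pR9_5_nets_n2_13 (nat_lit 2) (Net.cons pR9_5_nets_n2_14 (nat_lit 1) Net.nil)))))))))))))))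
def pR9_5_nets_n3 : Net :=
  (Net.cons pR9_5_nets_n3_0 (nat_lit 1) (Net.cons pR9_5_nets_n3_1 (nat_lit 2) (Net.cons pR9_5_nets_n3_2 (nat_lit 4) (Net.cons pR9_5_nets_n3_3 (nat_lit 8) (Net.cons pR9_5_nets_n3_4 (nat_lit 16) (Net.cons pR9_5_nets_n3_5 (nat_lit 32) (Net.cons pR9_5_nets_n3_6 (nat_lit 64) (Net.cons pR9_5_nets_n3_7 (nat_lit 128) (Net.cons pR9_5_nets_n3_8 (nat_lit 256) (Net.cons pR9_5_nets_n3_9 (nat_lit 128) (Net.cons pR9_5_nets_n3_10 (nat_lit 64) (Net.cons pR9_5_nets_n3_11 (nat_lit 32) (Net.cons pR9_5_nets_n3_12 (nat_lit 16) (Net.cons pR9_5_nets_n3_13 (nat_lit 8) (Net.cons pR9_5_nets_n3_14 (nat_lit 4) (Net.cons pR9_5_nets_n3_15 (nat_lit 2) (Net.cons pR9_5_nets_n3_16 (nat_lit 1) Net.nil)))))))))))))))))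
def pR9_5_nets_n4 : Net :=
  (Net.cons pR9_5_nets_n4_0 (nat_lit 1) (Net.cons pR9_5_nets_n4_1 (nat_lit 2) (Net.cons pR9_5_nets_n4_2 (nat_lit 4) (Net.cons pR9_5_nets_n4_3 (nat_lit 2) (Net.cons pR9_5_nets_n4_4 (nat_lit 1) Net.nil)))))
def pR9_5_nets_n5 : Net :=
  (Net.cons pR9_5_nets_n5_0 (nat_lit 1) (Net.cons pR9_5_nets_n5_1 (nat_lit 2) (Net.cons pR9_5_nets_n5_2 (nat_lit 4) (Net.cons pR9_5_nets_n5_3 (nat_lit 8) (Net.cons pR9_5_nets_n5_4 (nat_lit 4) (Net.cons pR9_5_nets_n5_5 (nat_lit 2) (Net.cons pR9_5_nets_n5_6 (nat_lit 1) Net.nil)))))))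
def pR9_5_nets_n6 : Net :=
  (Net.cons pR9_5_nets_n6_0 (nat_lit 1) Net.nil)
def pR9_5_nets : List Net := [pR9_5_nets_n0, pR9_5_nets_n1, pR9_5_nets_n2, pR9_5_nets_n3, pR9_5_nets_n4, pR9_5_nets_n5, pR9_5_nets_n6]
def pR9_5_rels : List (List ℕ) := [[0, 0, 0],
  [2, 2, 2],
  [4, 4, 4],
  [0, 2, 1, 3],
  [0, 4, 1, 5],
  [2, 4, 3, 5],
  [6, 6, 6],
  [1, 7, 2, 6],
  [1, 6, 4, 7],
  [1, 9, 2, 8],
  [0, 8, 2, 9],
  [6, 8, 6, 8],
  [7, 8, 10, 7, 8],
  [8, 8, 8, 8],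
  [0, 12, 0, 12, 0, 12],
  [1, 3, 12, 0, 3, 8, 12, 3, 0, 12],
  [4, 12, 5, 12],
  [10, 12, 10, 12],
  [12, 2, 6, 8, 12, 2, 6, 8, 12, 2, 6, 8, 12, 2, 6, 8]]
theorem pR9_5_nets_ok : allL (Net.ok 280) pR9_5_nets = true := by decide +kernel
theorem pR9_5_rel_s0 : relsAt pR9_5_nets 280 9 (List.range' 0 9) (sqW [5, 6] ++ pR9_5_rels) = true := by decide +kernel
theorem pR9_5_rel : ∀ w ∈ (sqW [5, 6] ++ pR9_5_rels), ev (netGen pR9_5_nets) w = 1 :=
  SlicesOk.rel (K := 9) ((SlicesOk.zero _ _ _ _).step 9 pR9_5_rel_s0)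
    pR9_5_nets_ok (by norm_num)
theorem pR9_5_model : Model 280 pR9_5_nets (imOf [5, 6]) pR9_5_rels := Model.of_rel pR9_5_nets_ok pR9_5_rel
def pR9_5_t : Tr := (Tr.node (Tr.node (Tr.node (Tr.node (Tr.node Tr.leaf [3] 2 2 0 Tr.leaf) [1] 0 0 0 Tr.leaf) [6] 0 0 0 (Tr.node (Tr.node Tr.leaf [0] 2 2 0 Tr.leaf) [9] 0 0 0 Tr.leaf)) [2] 0 0 0 (Tr.node (Tr.node (Tr.node Tr.leaf [12] 1 0 0 Tr.leaf) [5] 0 0 0 Tr.leaf) [10] 0 0 0 (Tr.node (Tr.node Tr.leaf [0] 1 1 0 Tr.leaf) [] 2 0 0 Tr.leaf))) [0] 0 0 0 (Tr.node (Tr.node (Tr.node (Tr.node Tr.leaf [12] 0 2 0 Tr.leaf) [3] 0 0 0 Tr.leaf) [8] 0 0 0 (Tr.node (Tr.node Tr.leaf [3] 1 1 0 Tr.leaf) [9] 0 2 0 Tr.leaf)) [4] 0 0 0 (Tr.node (Tr.node (Tr.node Tr.leaf [8] 0 1 0 Tr.leaf) [7] 0 0 0 Tr.leaf) [12] 0 0 0 (Tr.node (Tr.node Tr.leaf [9] 2 0 0 Tr.leaf) [] 1 2 0 Tr.leaf))))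
def pR9_5_m0 : ℕ := (nat_lit 0x409400000000000000000000000000000020a808620181800000000000102a01000008)
def pR9_5_m1 : ℕ := (nat_lit 0x480a0000000000000000115125985a650c032208b030000000101a658b00b00002a0)
def pR9_5_m2 : ℕ := (nat_lit 0)
def pR9_5_m3 : ℕ := (nat_lit 0x880045011501150e9e9731648480000000000000000000105111054000000000015000)
def pR9_5_m4 : ℕ := (nat_lit 0)
def pR9_5_m5 : ℕ := (nat_lit 0)
def pR9_5_m6 : ℕ := (nat_lit 0x2a02aaaaaaaa00008000000000200008000000000002aaaaa8000000000002aa802)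
def pR9_5_m7 : ℕ := (nat_lit 0x2020008000000000000000000000000000105410910042400000000000201500400004)
def pR9_5_m8 : ℕ := (nat_lit 0x30000000000000000000002025a65a59a4300c5044c0c00000000259a44c04c000150)
def pR9_5_m9 : ℕ := (nat_lit 0)
def pR9_5_m10 : ℕ := (nat_lit 0x14011054405440516160ce8828000000000000000002000504446a8000000002940400)
def pR9_5_m11 : ℕ := (nat_lit 0)
def pR9_5_p0 : List ℕ := [nat_lit 0x101400100f,
  nat_lit 0x1014003011,
  nat_lit 0x1014007015,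
  nat_lit 0x101400d00d,
  nat_lit 0x3001002003003,
  nat_lit 0x1900300300b02701a,
  nat_lit 0x3002006004001004,
  nat_lit 0x7001007007007,
  nat_lit 0x4002003004001003,
  nat_lit 0x7004002008001008,
  nat_lit 0x1001001001001,
  nat_lit 0x1900100600a01f01a,
  nat_lit 0x7002007009005008,
  nat_lit 0x8002007008003007,
  nat_lit 0x2500200600b029026,
  nat_lit 0xd00600301100500e,
  nat_lit 0x2500400200a02b026,
  nat_lit 0x3006005006005004,
  nat_lit 0x1006005005005002,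
  nat_lit 0x4006008006005003,
  nat_lit 0x2006008005005001,
  nat_lit 0x200e00200e00400f00d002,
  nat_lit 0x101400d00d,
  nat_lit 0x8006002009001007,
  nat_lit 0x1900100600a01f01a,
  nat_lit 0x8002007008003007,
  nat_lit 0x200e00200e00400f00d002,
  nat_lit 0x101400d00d,
  nat_lit 0x400200e00100400e01a01f007010021027,
  nat_lit 0xd00b00201200b00e,
  nat_lit 0x2500400100d00400200d00100f010023004,
  nat_lit 0x1004005004003002,
  nat_lit 0x100400d00900400100d00400101000d002,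
  nat_lit 0x101400d00d,
  nat_lit 0x400100d00400200d00100400d01000900e,
  nat_lit 0x2500400100d00400200d00100f010023004,
  nat_lit 0x2400200e00202200400f01d028,
  nat_lit 0x2300101402101e,
  nat_lit 0x1f01d00101401e02a,
  nat_lit 0x2701d00101401e02c,
  nat_lit 0x1f01d00101401e02a,
  nat_lit 0x2701d00101401e02c,
  nat_lit 0x1e001014023021,
  nat_lit 0x2300101402101e,
  nat_lit 0x1d00101402d025,
  nat_lit 0x100402302500400100d00400101000d002,
  nat_lit 0x100302202802001900d00301401000d002,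
  nat_lit 0xe00200302d02100300202202700601001c020,
  nat_lit 0x1b001014009019,
  nat_lit 0x200e00200e00400f00d002,
  nat_lit 0x400100d00400200d00100400d01000900e,
  nat_lit 0x800a00400c00a008,
  nat_lit 0x900800900700d00b008,
  nat_lit 0xd00b00201200b00e,
  nat_lit 0x100400d00900400100d00400101000d002,
  nat_lit 0x101400d00d,
  nat_lit 0x800c00900100d009008,
  nat_lit 0xd00600301100500e,
  nat_lit 0x300a00100a009002,
  nat_lit 0x2500400100d00400200d00100f010023004,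
  nat_lit 0x900800900700d00b008,
  nat_lit 0x400a00400a009001,
  nat_lit 0xd00b00201200b00e,
  nat_lit 0x800a00400c00a008,
  nat_lit 0x900800900700d00b008,
  nat_lit 0xd00b00201200b00e,
  nat_lit 0x300a00100a009002,
  nat_lit 0x400a00400a009001,
  nat_lit 0x100400d00900400100d00400101000d002,
  nat_lit 0x101400d00d,
  nat_lit 0x900800900700d00b008,
  nat_lit 0xd00b00201200b00e,
  nat_lit 0x5002006005001006,
  nat_lit 0x5004006006003006,
  nat_lit 0x2400200e00202200400f01d028,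
  nat_lit 0x2300101402101e,
  nat_lit 0x1a01f02702100400200e00100f01000d004,
  nat_lit 0x101400d00d,
  nat_lit 0x500d00401100d006,
  nat_lit 0x600d00101100d005,
  nat_lit 0x200e00200e00400f00d002,
  nat_lit 0x101400d00d,
  nat_lit 0x400100d00400200d00100400d01000900e,
  nat_lit 0x200a00800b009004,
  nat_lit 0x300a00100a009002,
  nat_lit 0x400900400b00a002,
  nat_lit 0x400a00400a009001,
  nat_lit 0x800a00400c00a008,
  nat_lit 0x200a00800b009004,
  nat_lit 0xa00101401c01a,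
  nat_lit 0x1b01f00101400301c,
  nat_lit 0x900400200a00100a,
  nat_lit 0x900100700b00300a,
  nat_lit 0x400200d00100400d00900400701000d001,
  nat_lit 0x101400d00d,
  nat_lit 0x900400100d00400200d00100f01000d004,
  nat_lit 0x101400d00d,
  nat_lit 0x900800900700d00b008,
  nat_lit 0x101400b00b,
  nat_lit 0x800c00900100d009008,
  nat_lit 0x300a00100a009002,
  nat_lit 0x200e00200e00400f00d002,
  nat_lit 0x101400d00d,
  nat_lit 0x400100d00400200d00100400d01000900e,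
  nat_lit 0x500d00401100d006,
  nat_lit 0x600d00101100d005,
  nat_lit 0x800a00400c00a008,
  nat_lit 0xa00101401c01a,
  nat_lit 0x200a00800b009004,
  nat_lit 0x300a00100a009002,
  nat_lit 0xa00101401c01a,
  nat_lit 0x400900400b00a002,
  nat_lit 0x900800900700d00b008,
  nat_lit 0x101400b00b,
  nat_lit 0x900900100e009009,
  nat_lit 0xa00101401c01a,
  nat_lit 0xd00b00201200b00e,
  nat_lit 0x300a00100a009002,
  nat_lit 0x1b01f00101400301c,
  nat_lit 0x800a00400c00a008,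
  nat_lit 0xd00600301100500e,
  nat_lit 0x900800900700d00b008,
  nat_lit 0x101400b00b,
  nat_lit 0x800c00900100d009008,
  nat_lit 0xd00b00201200b00e,
  nat_lit 0x900100700b00300a,
  nat_lit 0x300d00900700300d00900700300d00900700300d007013007009,
  nat_lit 0x8006002009001007,
  nat_lit 0x800a00400c00a008,
  nat_lit 0x7004002008001008,
  nat_lit 0x3008001008007002,
  nat_lit 0x7001007007007,
  nat_lit 0x800c00900100d009008,
  nat_lit 0x900400200a00100a,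
  nat_lit 0x2006008005005001,
  nat_lit 0x1004005004003002,
  nat_lit 0x7002007009005008,
  nat_lit 0x1008008009007006,
  nat_lit 0x900800900700d00b008,
  nat_lit 0x101400b00b,
  nat_lit 0x2004008004003001,
  nat_lit 0x6002003005001005,
  nat_lit 0x2008005009007005,
  nat_lit 0xa00300300b001009,
  nat_lit 0x3002006004001004,
  nat_lit 0x5002006005001006,
  nat_lit 0x800a00400c00a008,
  nat_lit 0x3008001008007002,
  nat_lit 0x400a00400a009001,
  nat_lit 0x200e00200e00400f00d002,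
  nat_lit 0x101400d00d,
  nat_lit 0x4002003004001003,
  nat_lit 0x4008004008007001,
  nat_lit 0x900800900700d00b008,
  nat_lit 0x101400b00b,
  nat_lit 0x7001007007007,
  nat_lit 0x7002007009005008,
  nat_lit 0x1006005005005002,
  nat_lit 0x900100700b00300a,
  nat_lit 0xa00200700a003009,
  nat_lit 0x900700300c007009,
  nat_lit 0xe00600301100500e,
  nat_lit 0x900900100e009009,
  nat_lit 0xd00b00201200b00e,
  nat_lit 0x800a00400c00a008,
  nat_lit 0x900800900700d00b008,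
  nat_lit 0x101400b00b,
  nat_lit 0x3008001008007002,
  nat_lit 0x900400200a00100a,
  nat_lit 0x5004006006003006,
  nat_lit 0xd00b00201200b00e,
  nat_lit 0x900800900700d00b008,
  nat_lit 0x101400b00b,
  nat_lit 0xb00d00101200d00c,
  nat_lit 0xd00b00201200b00e,
  nat_lit 0x200a00800b009004,
  nat_lit 0x1006005005005002,
  nat_lit 0x500d00401100d006,
  nat_lit 0xa00101401c01a,
  nat_lit 0xb00d00101200d00c,
  nat_lit 0xd00600301100500e,
  nat_lit 0x7001007007007,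
  nat_lit 0x900800900700d00b008,
  nat_lit 0x101400b00b,
  nat_lit 0x1b01f00101400301c,
  nat_lit 0x900900100e009009,
  nat_lit 0x900400200a00100a,
  nat_lit 0x3008001008007002,
  nat_lit 0x7002007009005008,
  nat_lit 0xd00b00201200b00e,
  nat_lit 0xa00101401c01a,
  nat_lit 0x1b01f00101400301c,
  nat_lit 0x1006005005005002,
  nat_lit 0x300d00900700300d00900700300d00900700300d007013007009,
  nat_lit 0x900700300c007009,
  nat_lit 0x3008001008007002,
  nat_lit 0x1008008009007006,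
  nat_lit 0x2008005009007005,
  nat_lit 0x900700300c007009,
  nat_lit 0x7001007007007]
def pR9_5_p1 : List ℕ := [nat_lit 0x900800900700d00b008,
  nat_lit 0x400800a00e00400800a00e00400800a00e00400800201300d00a,
  nat_lit 0x101400d00d,
  nat_lit 0x500d00401100d006,
  nat_lit 0xd00b00201200b00e,
  nat_lit 0xd00100d00100300f00100e,
  nat_lit 0xd00600301100500e,
  nat_lit 0x1001001001001,
  nat_lit 0xe00200300a00e00300200e004010003001,
  nat_lit 0x1006005005005002,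
  nat_lit 0x5004006006003006,
  nat_lit 0x200e00100300e00200300a01001000300e,
  nat_lit 0x2006008005005001,
  nat_lit 0x6004003006003005,
  nat_lit 0x5002006005001006,
  nat_lit 0x1008008009007006,
  nat_lit 0x200e00200e00400f00d002,
  nat_lit 0x101400d00d,
  nat_lit 0x200a00800b009004,
  nat_lit 0x300a00100a009002,
  nat_lit 0x4006008006005003,
  nat_lit 0x400100d00400200d00100400d01000900e,
  nat_lit 0x400900400b00a002,
  nat_lit 0x3002006004001004,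
  nat_lit 0x4002003004001003,
  nat_lit 0x3006005006005004,
  nat_lit 0x5004006006003006,
  nat_lit 0x400a00400a009001,
  nat_lit 0x3001002003003,
  nat_lit 0x600d00101100d005,
  nat_lit 0x300a00100a009002,
  nat_lit 0xd00b00201200b00e,
  nat_lit 0x200a00800b009004,
  nat_lit 0x400900400b00a002,
  nat_lit 0x1001001001001,
  nat_lit 0x3006005006005004,
  nat_lit 0xa00101401c01a,
  nat_lit 0x300d00900700300d00900700300d00900700300d007013007009,
  nat_lit 0x900800900700d00b008,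
  nat_lit 0x200e00200e00400f00d002,
  nat_lit 0x1900100600a01f01a,
  nat_lit 0x3008001008007002,
  nat_lit 0x1008008009007006,
  nat_lit 0x7001007007007,
  nat_lit 0xd00b00201200b00e,
  nat_lit 0x800a00400c00a008,
  nat_lit 0x7004002008001008,
  nat_lit 0x900800900700d00b008,
  nat_lit 0x900100700b00300a,
  nat_lit 0x7002007009005008,
  nat_lit 0x200e00200e00400f00d002,
  nat_lit 0x101400d00d,
  nat_lit 0xa00101401c01a,
  nat_lit 0x1b01f00101400301c,
  nat_lit 0x900400200a00100a]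
noncomputable def pR9_5 : CE where
  p0 := 0
  F := (Nat.sub (Nat.shiftLeft 1 280) 1)
  masks := [pR9_5_m0, pR9_5_m1, pR9_5_m2, pR9_5_m3, pR9_5_m4, pR9_5_m5, pR9_5_m6, pR9_5_m7, pR9_5_m8, pR9_5_m9, pR9_5_m10, pR9_5_m11]
  gprog := [6, 7, 8, 10, 0, 1, 3, 6, 7, 8, 10, 0, 1, 3, 6, 7, 8, 10, 0, 1, 3, 6, 7, 8, 10, 0, 1, 3, 6]
  cprog := [18, 12]
  sids := [0, 1, 2, 3, 4, 5]
  t0 := pR9_5_t
  s := 12
  progs := [pR9_5_p0, pR9_5_p1]
  O := (Nat.sub (Nat.shiftLeft 1 280) 1)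
  yids := [0, 1, 2, 3, 4, 5, 6]
theorem pR9_5_chk : ∃ progs, CE.check { pR9_5 with progs := progs } pR9_5_nets (imOf [5, 6]) pR9_5_rels [[0], [2], [4], [6], [8], [10]] [[0], [2], [4], [6], [8], [10], [12]] = true :=
  ⟨pR9_5.progs, by decide +kernel⟩
theorem pR9_5_idx {Γ : Type*} [Group Γ] {g : ℕ → Γ} (hi : InvOk g (imOf [5, 6])) (hr : ∀ r ∈ pR9_5_rels, ev g r = 1)
    {H : Subgroup Γ} (hs : ∀ u ∈ ([[0], [2], [4], [6], [8], [10]] : List (List ℕ)), ev g u ∈ H) :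
    H.relIndex (gen g [[0], [2], [4], [6], [8], [10], [12]]) ≠ 0 ∧ H.relIndex (gen g [[0], [2], [4], [6], [8], [10], [12]]) ≤ 280 :=
  Reach.relIndex_le pR9_5_model hi hr hs pR9_5_chk (by decide +kernel)

theorem pR9_pres : CfsgLib.W2.Pres [5, 6] pR9_rels [[0], [2], [4], [6], [8], [10], [12]] 181440 := fun {_} _ {g} hi hr =>
  (Bound.of_idx (n := 280) (m := 648) (Bound.of_idx (n := 24) (m := 27) (Bound.of_idx (n := 3) (m := 9) (Bound.of_idx (n := 3) (m := 3) (Bound.of_idx (n := 3) (m := 1) (bound_nil g)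
    (pR9_1_idx hi (conseq_sound hi hr (hs := [1]) (by decide +kernel))))
    (pR9_2_idx hi (conseq_sound hi hr (hs := [1, 1025, 3073]) (by decide +kernel))))
    (pR9_3_idx hi (conseq_sound hi hr (hs := [1, 1025, 2049, 3073, 4097, 5121]) (by decide +kernel))))
    (pR9_4_idx hi (conseq_sound hi hr (hs := [1, 1025, 2049, 3073, 4097, 5121, 6145, 7169, 8193, 9217, 10241, 11265, 12289, 13313]) (by decide +kernel))))
    (pR9_5_idx hi (conseq_sound hi hr (hs := [1, 1025, 2049, 3073, 4097, 5121, 6145, 7169, 8193, 9217, 10241, 11265, 12289, 13313, 14337, 15361, 16385, 17409, 18433]) (by decide +kernel))))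


end CfsgLib.Rec3
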