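import Mathlib
import Cfsg.Agent.Lib.Rec3.JSet
import Cfsg.Agent.Lib.Core2.Base
import Cfsg.Agent.Lib.Coprime.Generation
import Cfsg.Agent.Lib.ZJ.Replacement
import Cfsg.Agent.Lib.W2.LocA8b

/-! The recognition of `A₉`: four-groups, planes, and the group `N⟨e⟩ = 3 : S₆`. -/

set_option autoImplicit false
set_option maxRecDepth 100000
set_option linter.unusedSectionVars false

namespace CfsgLib.Rec3

open Subgroup Cfsg CfsgLib.Tech CfsgLib.PComp CfsgLib.W2 PG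

namespace N9

variable {G : Type*} [Group G] [Finite G] {ι : W3 → G} {a b g x y : G}

/-! ### Four-groups -/

/-- the group generated by two elements -/
abbrev F4 (a b : G) : Subgroup G := zpowers a ⊔ zpowers b

theorem mem_cent_F4 : g ∈ centralizer (F4 a b : Set G) ↔ g * a = a * g ∧ g * b = b * g := by
  rw [← zpowers_le, le_centralizer_iff, sup_le_iff, zpowers_le, zpowers_le,
    zpowers_eq_closure, centralizer_closure, mem_centralizer_singleton_iff,
    mem_centralizer_singleton_iff, eq_comm, eq_comm (a := b * g)]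

theorem mem_norm_F4 (h1 : g * a * g⁻¹ ∈ F4 a b) (h2 : g * b * g⁻¹ ∈ F4 a b) :
    g ∈ normalizer (F4 a b : Set G) :=
  mem_normalizer_of_cj_le (by
    rw [cj_sup, cj_zpowers, cj_zpowers]; exact sup_le (zpowers_le.2 h1) (zpowers_le.2 h2))

theorem cop_F4 (ha : a * a = 1) (hb : b * b = 1) (hc : a * b = b * a) :
    (Nat.card (F4 a b)).Coprime 3 := by
  obtain ⟨n, e⟩ := IsPGroup.iff_card.1 (Core2.two_of_sq (Core2.sq_pair ha hb hc))
  rw [e]; exact Nat.Coprime.pow_left _ (by norm_num)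

theorem eq_one_of_cube {W : Subgroup G} (hW : (Nat.card W).Coprime 3) (hx : x ∈ W)
    (h3 : x ^ 3 = 1) : x = 1 :=
  orderOf_eq_one_iff.1 (Nat.eq_one_of_dvd_coprimes hW (W.orderOf_dvd_natCard hx)
    (orderOf_dvd_of_pow_eq_one h3))

theorem mem_of_cube {W M : Subgroup G} (hW : (Nat.card W).Coprime 3) (hx : x ∈ W)
    (h3 : x ^ 3 ∈ M) : x ∈ M :=
  mem_of_coprime_pow hW (by
    rw [orderOf_dvd_iff_pow_eq_one.1 (W.orderOf_dvd_natCard hx)]; exact one_mem _) h3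

theorem idx_dvd {O K C : Subgroup G} (h1 : O ≤ K) (h2 : K ≤ normalizer (O : Set G))
    (h3 : K ≤ O ⊔ (K ⊓ C)) : O.relIndex K ∣ Nat.card C := by
  have e : K = (K ⊓ C) ⊔ O := le_antisymm (sup_comm O _ ▸ h3) (sup_le inf_le_left h1)
  rw [e, ZJ.relIndex_sup_of_le_normalizer (inf_le_left.trans h2)]
  exact (relIndex_dvd_card _ _).trans (card_dvd_of_le inf_le_right)

theorem card_ge_of_list {M : Type*} [Group M] (φ : M →* G) (hφ : Function.Injective φ)
    {H : Subgroup G} {L : List M} (hL : L.Nodup) (h : ∀ p ∈ L, φ p ∈ H) :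
    L.length ≤ Nat.card H := by
  have := Nat.card_le_card_of_injective (fun i : Fin L.length => (⟨φ (L.get i), h _ (L.get_mem i)⟩ : H))
    fun i j e => (List.nodup_iff_injective_get.1 hL) (hφ (congrArg Subtype.val e))
  simpa using this

/-! ### Planes of `J` -/

section Plane

variable {A : Subgroup W3} (h : JS0 A ι) {W M : Subgroup G} {c : W3}
include h

theorem gen_plane {P : Subgroup W3} (hP : P ≤ J0) (h9 : Nat.card P = 9)
    (hW : (Nat.card W).Coprime 3) (hn : ∀ c ∈ P, ι c ∈ normalizer (W : Set G))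
    (hM : ∀ c ∈ P, c ≠ 1 → W ⊓ Cx (ι c) ≤ M) : W ≤ M := by
  have hA := hP.trans h.J_le
  have hc : Nat.card (img ι P) = 9 := (h.card_im hA).trans h9
  have : IsMulCommutative (img ι P) := ⟨⟨fun x y => Subtype.ext (by
    obtain ⟨p, hp, e⟩ := (h.mem_im hA).1 x.2
    obtain ⟨q, hq, e'⟩ := (h.mem_im hA).1 y.2
    rw [coe_mul, coe_mul, ← e, ← e']
    exact (h.comm_iff (hA hp) (hA hq)).2 (J0_comm (hP hp) (hP hq)))⟩⟩
  refine Coprime.le_of_forall_centralizer_le (A := img ι P) (fun hc' => ?_) (im_le.2 hn)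
    (hc ▸ (Nat.Coprime.pow_left 2 hW.symm)) fun x hx x1 => ?_
  · obtain ⟨x, hx⟩ := IsCyclic.exists_generator (α := img ι P)
    obtain ⟨p, hp, e⟩ := (h.mem_im hA).1 x.2
    have h3 : x ^ 3 = 1 := Subtype.ext (by
      rw [coe_pow, ← e, ← h.pow (hA hp), J0_cube p (hP hp), h.one, coe_one])
    have := orderOf_dvd_of_pow_eq_one h3
    rw [orderOf_eq_card_of_forall_mem_zpowers hx, hc] at this
    omega
  · obtain ⟨p, hp, rfl⟩ := (h.mem_im hA).1 hx
    exact hM p hp fun e => x1 (e ▸ h.one)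

theorem comm_of_norm (hW : (Nat.card W).Coprime 3) (hc : c ∈ J0)
    (hn : ι c ∈ normalizer (W : Set G)) (hx : x ∈ W) (hN : x ∈ normalizer (img ι J0 : Set G)) :
    x ∈ Cx (ι c) := by
  have h1 : x⁻¹ * (ι c * x * (ι c)⁻¹) ∈ W := W.mul_mem (W.inv_mem hx)
    (conj_mem_of_mem_normalizer hn hx)
  have h2 : x⁻¹ * (ι c * x * (ι c)⁻¹) ∈ img ι J0 := by
    rw [← mul_assoc, ← mul_assoc]
    exact mul_mem (conj_mem_of_mem_normalizer' hN (mem_im_of hc)) (inv_mem (mem_im_of hc))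
  obtain ⟨p, hp, e⟩ := (h.mem_im h.J_le).1 h2
  have := eq_one_of_cube hW h1 (by rw [← e, ← h.pow (h.J_le hp), J0_cube p hp, h.one])
  rw [inv_mul_eq_one, eq_mul_inv_iff_mul_eq] at this
  exact mem_Cx.2 this

theorem cent_conj {m : W3} (hm : m ∈ A) (hc : c ∈ A)
    (hC : Cx (ι (m * c * m⁻¹)) ≤ normalizer (img ι J0 : Set G)) :
    Cx (ι c) ≤ normalizer (img ι J0 : Set G) := fun x hx => by
  have := hC (h.conj hm hc ▸ conj_mem_Cx.2 hx)
  have hm' := h.mem_norm hm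
  exact (mul_mem_cancel_left hm').1 ((mul_mem_cancel_right (inv_mem hm')).1 this)

end Plane

/-- the six elements of type `e` -/
def isE (c : W3) : Prop := c = e1 ∨ c = e1⁻¹ ∨ c = e2 ∨ c = e2⁻¹ ∨ c = e3 ∨ c = e3⁻¹

noncomputable instance (c : W3) : Decidable (isE c) := by unfold isE; infer_instance

theorem cent_of_not_E (h : JS Rot ι) (hz : Cx (ι z0) ≤ normalizer (img ι J0 : Set G)) {c : W3}
    (hc : c ∈ J0) (c1 : c ≠ 1) (hE : ¬ isE c) : Cx (ι c) ≤ normalizer (img ι J0 : Set G) := by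
  obtain ⟨m, hm, e | e⟩ := (by decide +kernel : ∀ c ∈ J0, c ≠ 1 → ¬ isE c →
    ∃ m ∈ Rot, m * c * m⁻¹ = z0 ∨ m * c * m⁻¹ = y0) c hc c1 hE
  exacts [cent_conj h.toJS0 hm (h.J_le hc) (e ▸ hz), cent_conj h.toJS0 hm (h.J_le hc)
    (e ▸ h.cent_le (by decide +kernel) gen_y0 (by decide +kernel))]

theorem not_w_τ (h : JS Rot ι) : ¬ IsConj (ι w0) (ι τ0) :=
  h.not_conj_of_type (P := zpowers e3) (x := y0) (zpowers_le.2 (by decide +kernel))
    (h.im_zpowers (a := e3) (by decide +kernel) ▸ h.sylow_w (by decide +kernel))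
    (by decide +kernel) (mem_Cx.2 ((h.comm_iff (by decide +kernel) (by decide +kernel)).2
      (by decide +kernel))) fun a ha e => (by decide +kernel : ∀ a ∈ Rot,
        ¬ (a * y0 * a⁻¹ = 1 ∨ a * y0 * a⁻¹ = e3 ∨ a * y0 * a⁻¹ = e3⁻¹)) a ha
          (mem_zpowers_cube (by decide +kernel) e)

/-! ### The group `S₆` -/

noncomputable section

def a6 : PG 6 := pl [1, 2, 0, 3, 4, 5]
def b6 : PG 6 := pl [0, 1, 2, 4, 5, 3]
def f6 : PG 6 := pl [3, 4, 5, 1, 0, 2]
/-- `(01)` -/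
def s6 : PG 6 := pl [1, 0, 2, 3, 4, 5]
/-- `(34)` -/
def g6 : PG 6 := pl [0, 1, 2, 4, 3, 5]
/-- `(45)` -/
def k6 : PG 6 := pl [0, 1, 2, 3, 5, 4]
/-- `(01)(25)` -/
def v6 : PG 6 := pl [1, 0, 5, 3, 4, 2]
/-- `(05)(12)` -/
def u6 : PG 6 := pl [5, 2, 1, 3, 4, 0]
/-- `(01)(34)` -/
def h6 : PG 6 := pl [1, 0, 2, 4, 3, 5]
/-- `(03)(14)(25)` -/
def t6 : PG 6 := pl [3, 4, 5, 0, 1, 2]
/-- `(023)(154)` -/
def d6 : PG 6 := pl [2, 5, 3, 0, 1, 4]
/-- interchanges `e1` and `e3` -/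
def τ1 : W3 := e2 * σ0 * f0

end

/-- `N⟨e3⟩ = ⟨e3⟩ : S₆` -/
structure Six (ι : W3 → G) (θ : PG 6 →* G) : Prop where
  inj : Function.Injective θ
  a : θ a6 = ι e1
  b : θ b6 = ι e2
  f : θ f6 = ι f0
  s : θ s6 = ι (r1 * r3)
  ev : ∀ p ∈ alt 6, θ p * ι e3 = ι e3 * θ p
  cent : ∀ g ∈ Cx (ι e3), ∃ (n : ℕ) (p : PG 6), p ∈ alt 6 ∧ g = ι e3 ^ n * θ p

theorem odd_mul {p q : PG 6} (hp : p ∉ alt 6) : p * q ∈ alt 6 ↔ q ∉ alt 6 := by
  obtain ⟨σ, rfl⟩ := (E 6).surjective p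
  obtain ⟨τ, rfl⟩ := (E 6).surjective q
  rw [← map_mul]
  simp only [E_mem_alt, Equiv.Perm.mem_alternatingGroup, Equiv.Perm.sign_mul] at hp ⊢
  rcases Int.units_eq_one_or (Equiv.Perm.sign σ) with e | e
  · exact absurd e hp
  · rcases Int.units_eq_one_or (Equiv.Perm.sign τ) with e' | e' <;> simp [e, e']

/-- extension of a homomorphism from a subgroup of index two -/
theorem exists_ext2 {M : Type*} [Group M] {N : Subgroup M} (κ : N →* G) {s : M} (s1 : s ∉ N)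
    (ss : s * s = 1) (gg : g * g = 1) (od : ∀ {p q : M}, p ∉ N → (p * q ∈ N ↔ q ∉ N))
    (cg : ∀ p q : N, q.1 = s * p.1 * s → g * κ p * g⁻¹ = κ q) :
    ∃ θ : M →* G, (∀ p : N, θ p = κ p) ∧ θ s = g := by
  classical
  have m1 : ∀ {p}, p ∉ N → p * s ∈ N := fun hp => (od hp).2 s1
  have m2 : ∀ p : N, s * p.1 * s ∈ N := fun p => m1 fun e => (od s1).1 e p.2
  have cg : ∀ p : N, g * κ p = κ ⟨_, m2 p⟩ * g := fun p => mul_inv_eq_iff_eq_mul.1 (cg p _ rfl)
  let F : M → G := fun p => if hp : p ∈ N then κ ⟨p, hp⟩ else κ ⟨_, m1 hp⟩ * g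
  have F1 : ∀ p (hp : p ∈ N), F p = κ ⟨p, hp⟩ := fun p hp => dif_pos hp
  have F2 : ∀ p (hp : p ∉ N), F p = κ ⟨_, m1 hp⟩ * g := fun p hp => dif_neg hp
  have hm : ∀ p q, F (p * q) = F p * F q := fun p q => by
    by_cases hp : p ∈ N <;> by_cases hq : q ∈ N
    · rw [F1 p hp, F1 q hq, F1 _ (mul_mem hp hq), ← map_mul]; rfl
    · rw [F1 p hp, F2 q hq, F2 _ fun e => hq ((mul_mem_cancel_left hp).1 e), ← mul_assoc (κ _),
        ← map_mul]
      exact congrArg (κ · * _) (Subtype.ext (mul_assoc ..))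
    · rw [F2 p hp, F1 q hq, F2 _ fun e => (od hp).1 e hq, mul_assoc (κ _), cg, ← mul_assoc (κ _),
        ← map_mul]
      refine congrArg (κ · * _) (Subtype.ext ?_)
      change p * q * s = p * s * (s * q * s)
      simp only [mul_assoc, ← mul_assoc s s, ss, one_mul]
    · rw [F2 p hp, F2 q hq, F1 _ ((od hp).2 hq), mul_assoc (κ _), ← mul_assoc g, cg,
        mul_assoc (κ _), gg, mul_one, ← map_mul]
      refine congrArg κ (Subtype.ext ?_)
      change p * q = p * s * (s * (q * s) * s)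
      simp only [mul_assoc, ← mul_assoc s s, ss, one_mul, mul_one]
  refine ⟨MonoidHom.mk' F hm, fun p => F1 p p.2, ?_⟩
  change F s = _
  rw [F2 _ s1, show (⟨s * s, m1 s1⟩ : N) = 1 from Subtype.ext ss, map_one, one_mul]

theorem exists_six (h : JS Rot ι) {κ : AG 6 →* G} (hκ : A6 ι κ) : ∃ θ, Six ι θ := by
  have s1 : s6 ∉ alt 6 := by decide +kernel
  have ss : s6 * s6 = 1 := by decide +kernel
  have hr : r1 * r3 ∈ Rot := by decide +kernel
  obtain ⟨θ, h1, h2⟩ := exists_ext2 κ s1 ss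
    ((h.mul_eq hr hr (by decide +kernel)).trans h.one) odd_mul hκ.cg
  refine ⟨θ, (injective_iff_map_eq_one _).2 fun p e => ?_,
    (congrArg θ (by decide +kernel)).trans ((h1 _).trans hκ.e1),
    (congrArg θ (by decide +kernel)).trans ((h1 _).trans hκ.e2),
    (congrArg θ (by decide +kernel)).trans ((h1 _).trans hκ.f0), h2,
    fun p hp => mem_Cx.1 (h1 ⟨p, hp⟩ ▸ hκ.ce _), fun g hg => ?_⟩
  · by_cases hp : p ∈ alt 6
    · exact congrArg Subtype.val ((injective_iff_map_eq_one _).1 hκ.inj _ ((h1 ⟨p, hp⟩).symm.trans e))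
    · have := hκ.ce ⟨_, (odd_mul hp).2 s1⟩
      rw [← h1, map_mul, e, one_mul, h2] at this
      exact absurd ((h.comm_iff hr (by decide +kernel)).1 (mem_Cx.1 this)) (by decide +kernel)
  · obtain ⟨n, p, e⟩ := hκ.cent g hg
    exact ⟨n, p, p.2, h1 p ▸ e⟩

namespace Six

variable {θ : PG 6 →* G} (h : JS Rot ι) (k : Six ι θ)
include h k

theorem hh : θ h6 = ι w0 := by
  rw [show h6 = f6 * f6 by decide +kernel, map_mul, k.f]
  exact h.mul_eq (by decide +kernel) (by decide +kernel) (by decide +kernel)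

theorem hg : θ g6 = ι (r2 * r3) := by
  rw [show g6 = s6 * h6 by decide +kernel, map_mul, k.s, k.hh h]
  exact h.mul_eq (by decide +kernel) (by decide +kernel) (by decide +kernel)

theorem ht : θ t6 = ι τ0 := by
  rw [show t6 = s6 * f6 by decide +kernel, map_mul, k.s, k.f]
  exact h.mul_eq (by decide +kernel) (by decide +kernel) (by decide +kernel)

theorem hk : θ k6 = ι τ1 * θ h6 * (ι τ1)⁻¹ := by
  rw [show k6 = b6 * g6 * b6⁻¹ by decide +kernel, map_mul, map_mul, map_inv, k.b, k.hg h, k.hh h,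
    h.conj (by decide +kernel) (by decide +kernel), h.conj (by decide +kernel) (by decide +kernel)]
  exact congrArg ι (by decide +kernel)

theorem norm (hg : g ∈ normalizer (zpowers (ι e3) : Set G)) :
    ∃ (n : ℕ) (p : PG 6), g = ι e3 ^ n * θ p := by
  have e3R : e3 ∈ Rot := by decide +kernel
  have o3 := h.ord_three e3R (by decide +kernel) (by decide +kernel)
  have c3 : ι e3 * ι e3 * ι e3 = 1 := by rw [← pow_orderOf_eq_one (ι e3), o3]; simp [pow_succ]
  rcases mem_zpowers_cube c3 (conj_mem_of_mem_normalizer hg (mem_zpowers _)) with e | e | e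
  · rw [conj_eq_one_iff] at e; rw [e, orderOf_one] at o3; omega
  · obtain ⟨n, p, -, e'⟩ := k.cent g (mem_Cx'.2 e)
    exact ⟨n, p, e'⟩
  · have e1 : θ s6 * ι e3 * (θ s6)⁻¹ = (ι e3)⁻¹ := by
      rw [k.s, h.conj (by decide +kernel) e3R, ← h.inv e3R]; exact congrArg ι (by decide +kernel)
    obtain ⟨n, p, -, e'⟩ := k.cent (g * θ s6) (mem_Cx'.2 (by
      rw [show g * θ s6 * ι e3 * (g * θ s6)⁻¹ = g * (θ s6 * ι e3 * (θ s6)⁻¹) * g⁻¹ by group, e1,
        ← conj_inv, e, inv_inv]))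
    exact ⟨n, p * s6⁻¹, by rw [map_mul, map_inv, ← mul_assoc, ← e', mul_inv_cancel_right]⟩

omit h in
/-- the permutation part of an element commuting with an even permutation -/
theorem comm_part {n : ℕ} {p q : PG 6} (hq : q ∈ alt 6)
    (e : ι e3 ^ n * θ p * θ q = θ q * (ι e3 ^ n * θ p)) : p * q = q * p := by
  have c : Commute (θ q) (ι e3) := k.ev q hq
  rw [← mul_assoc, (c.pow_right n).eq, mul_assoc, mul_assoc, mul_left_cancel_iff, ← map_mul,
    ← map_mul] at e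
  exact k.inj e

omit h in
theorem cent_le {p q : PG 6} (hp : p ∈ alt 6) (hq : q ∈ alt 6) (pp : p * p = 1) (qq : q * q = 1)
    (pq : p * q = q * p) (H : ∀ r : PG 6, r ∈ alt 6 → r * p = p * r → r * q = q * r →
      r = 1 ∨ r = p ∨ r = q ∨ r = p * q) :
    centralizer (F4 (θ p) (θ q) : Set G) ⊓ Cx (ι e3) ≤ F4 (θ p) (θ q) ⊔ zpowers (ι e3) := by
  rintro x ⟨h1, h2⟩
  obtain ⟨n, r, hr, rfl⟩ := k.cent x h2
  obtain ⟨c1, c2⟩ := mem_cent_F4.1 h1
  refine mul_mem (mem_sup_right (pow_mem (mem_zpowers _) _)) (mem_sup_left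
    ((Core2.mem_pair (by rw [← map_mul, pp, map_one]) (by rw [← map_mul, qq, map_one])
      (by rw [← map_mul, pq, map_mul])).2 ?_))
  rcases H r hr (k.comm_part hp c1) (k.comm_part hq c2) with e | e | e | e <;> simp [e]

end Six

end N9

end CfsgLib.Rec3
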