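import Mathlib
import Cfsg.Agent.Lib.Rec3.A9a

/-! The recognition of `A₉`: centralisers of four-groups. -/

set_option autoImplicit false
set_option maxRecDepth 100000
set_option linter.unusedSectionVars false

namespace CfsgLib.Rec3

open Subgroup Cfsg CfsgLib.Tech CfsgLib.PComp CfsgLib.W2 PG

namespace N9

variable {G : Type*} [Group G] [Finite G] {ι : W3 → G} {θ : PG 6 →* G} {g x : G}

/-- `⟨e1, e3⟩` -/
noncomputable def B1 : Subgroup W3 := bsub 0x1c0e07 (by decide +kernel)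

noncomputable instance (a : W3) : Decidable (a ∈ B1) :=
  inferInstanceAs (Decidable (bit 0x1c0e07 a.v = true))

theorem card_B1 : Nat.card B1 = 9 := by
  rw [TG.card_subgroup _ _ fun _ => Iff.rfl]; decide +kernel

theorem F4_le_cent {a b : G} (hc : a * b = b * a) : F4 a b ≤ centralizer (F4 a b : Set G) :=
  sup_le (zpowers_le.2 (mem_cent_F4.2 ⟨rfl, hc⟩)) (zpowers_le.2 (mem_cent_F4.2 ⟨hc.symm, rfl⟩))

theorem norm_cent_F4 {a b : G} (h1 : g * a * g⁻¹ ∈ F4 a b) (h2 : g * b * g⁻¹ ∈ F4 a b) :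
    g ∈ normalizer (centralizer (F4 a b : Set G) : Set G) :=
  Core.normalizer_le_normalizer_centralizer _ (mem_norm_F4 h1 h2)

theorem Cx_le_Nz : Cx x ≤ normalizer (zpowers x : Set G) := fun _ hg =>
  mem_normalizer_of_cj_le (by rw [cj_zpowers, mem_Cx'.1 hg])

theorem mem_F4_left {a b : G} : a ∈ F4 a b := mem_sup_left (mem_zpowers a)

theorem mem_F4_right {a b : G} : b ∈ F4 a b := mem_sup_right (mem_zpowers b)

theorem map_comm (θ : PG 6 →* G) {p q : PG 6} (e : p * q = q * p) : θ p * θ q = θ q * θ p := by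
  rw [← map_mul, e, map_mul]

theorem map_sq' (θ : PG 6 →* G) {p : PG 6} (e : p * p = 1) : θ p * θ p = 1 := by
  rw [← map_mul, e, map_one]

theorem map_cj (θ : PG 6 →* G) {m p q : PG 6} (e : m * p * m⁻¹ = q) :
    θ m * θ p * (θ m)⁻¹ = θ q := by rw [← e, map_mul, map_mul, map_inv]

theorem conj_norm {W : Subgroup G} (hg : g ∈ normalizer (W : Set G)) (m : G) :
    m * g * m⁻¹ ∈ normalizer (cj m W : Set G) := cj_normalizer m W ▸ conj_mem_cj.2 hg

namespace Six

variable (h : JS Rot ι) (hz : Cx (ι z0) ≤ normalizer (img ι J0 : Set G)) (k : Six ι θ)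
include h hz k

omit hz k in
theorem o3 : orderOf (ι e3) = 3 :=
  h.ord_three (by decide +kernel) (by decide +kernel) (by decide +kernel)

omit k in
/-- a `3'`-group normalised by `D` centralises `e3` -/
theorem sig_D {W : Subgroup G} (hW : (Nat.card W).Coprime 3)
    (h1 : ι y0 ∈ normalizer (W : Set G)) (h2 : ι e3 ∈ normalizer (W : Set G)) : W ≤ Cx (ι e3) := by
  refine gen_plane h.toJS0 (P := D0) (show ∀ a ∈ D0, a ∈ J0 by decide +kernel) cards.2.2.2.2.2.2.2.2.2.1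
    hW (fun c hc => h.mem_of_sp (gs := [y0, e3]) (by decide +kernel) (by simp [h1, h2]) (D := 4)
      ((by decide +kernel : ∀ c ∈ D0, bit (TG.sp [y0, e3] 4) c.v = true) c hc)) fun c hc c1 x hx => ?_
  rcases (by decide +kernel : ∀ c ∈ D0, c = e3 ∨ c = e3⁻¹ ∨ (c ∈ J0 ∧ ¬ isE c)) c hc with
    rfl | rfl | ⟨h3, h4⟩
  · exact hx.2
  · have := mem_Cx.1 hx.2
    rw [h.inv (by decide +kernel)] at this
    exact mem_Cx.2 (Commute.inv_right_iff.1 this)
  · exact comm_of_norm h.toJS0 hW (by decide +kernel) h2 hx.1 (cent_of_not_E h hz h3 c1 h4 hx.2)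

/-- `C(U)` normalises `⟨e3⟩` -/
theorem cent_U : centralizer (F4 (θ v6) (θ h6) : Set G) ≤ normalizer (zpowers (ι e3) : Set G) := by
  set K := centralizer (F4 (θ v6) (θ h6) : Set G) with hK
  have vh := map_comm θ (show v6 * h6 = h6 * v6 by decide +kernel)
  have eK : ι e3 ∈ K := mem_cent_F4.2 ⟨(k.ev _ (by decide +kernel)).symm,
    (k.ev _ (by decide +kernel)).symm⟩
  have dK : θ d6 ∈ normalizer (K : Set G) := norm_cent_F4
    (by rw [map_cj θ (show d6 * v6 * d6⁻¹ = v6 * h6 by decide +kernel), map_mul]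
        exact mul_mem mem_F4_left mem_F4_right)
    (by rw [map_cj θ (show d6 * h6 * d6⁻¹ = v6 by decide +kernel)]; exact mem_F4_left)
  let m := θ (pl [3, 0, 4, 5, 2, 1])
  have me : m * ι e3 * m⁻¹ = ι e3 := by rw [k.ev _ (by decide +kernel), mul_inv_cancel_right]
  have md : m * θ d6 * m⁻¹ = ι y0 := by
    rw [map_cj θ (show _ = a6 * b6 by decide +kernel), map_mul, k.a, k.b]
    exact h.mul_eq (by decide +kernel) (by decide +kernel) (by decide +kernel)
  have hO : opOf 3 K ≤ Cx (ι e3) := by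
    rw [← cj_le_cj_iff m, cj_Cx, me]
    exact sig_D h hz (by rw [card_cj]; exact coprime_card_opOf K)
      (md ▸ conj_norm (normalizer_le_normalizer_opOf K dK) m)
      (me ▸ conj_norm (le_normalizer_opOf K eK) m)
  rcases ft3 (F4_le_cent vh) (centralizer_le_normalizer _)
    (cop_F4 (map_sq' θ (by decide +kernel)) (map_sq' θ (by decide +kernel)) vh) (o3 h) eK
    (k.cent_le (by decide +kernel) (by decide +kernel) (by decide +kernel) (by decide +kernel)
      (by decide +kernel) (forall_of_dec (by decide +kernel))) with ⟨-, h1⟩ | ⟨h1, -, -, -, h2⟩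
  · exact h1.trans (sup_le (hO.trans Cx_le_Nz) inf_le_right)
  · exfalso
    obtain ⟨i, h3⟩ := h2 _ dK (by rw [← map_pow, show d6 ^ 3 = 1 by decide +kernel, map_one])
      (k.ev _ (by decide +kernel))
    have h4 := idx_dvd (opOf_le K) (le_normalizer_opOf K) h3
    obtain ⟨c1, c2, c3⟩ : y0 * e3 ^ i ∈ J0 ∧ y0 * e3 ^ i ≠ 1 ∧ ¬ isE (y0 * e3 ^ i) := by
      rw [pow_eq_pow_mod i (show e3 ^ 3 = 1 by decide +kernel)]
      exact (by decide +kernel : ∀ j < 3, y0 * e3 ^ j ∈ J0 ∧ y0 * e3 ^ j ≠ 1 ∧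
        ¬ isE (y0 * e3 ^ j)) _ (Nat.mod_lt _ three_pos)
    have h5 := card_dvd_of_le (cent_of_not_E h hz c1 c2 c3)
    rw [h.norm, h.card_im le_rfl, cards.2.2.2.2.2.1, h.mul (by decide +kernel)
      (pow_mem (by decide +kernel) i), h.pow (by decide +kernel), ← md, ← me, conj_pow, conj_mul,
      ← cj_Cx, card_cj] at h5
    rcases h1 with e | ⟨e, -⟩ <;> rw [e] at h4 <;> exact absurd (h4.trans h5) (by norm_num)

omit hz in
/-- `3'`-groups in `C(e3)` normalised by `e1` -/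
theorem inv_six {W : Subgroup G} (hW : (Nat.card W).Coprime 3)
    (h1 : ι e1 ∈ normalizer (W : Set G)) (hx : x ∈ W) (hc : x ∈ Cx (ι e3)) (x1 : x ≠ 1) :
    θ (pl [1, 0, 3, 2, 4, 5]) ∈ W ∨ θ (pl [1, 0, 4, 3, 2, 5]) ∈ W ∨ θ v6 ∈ W := by
  obtain ⟨q, hq, rfl⟩ : x ∈ (alt 6).map θ := by
    obtain ⟨n, p, hp, rfl⟩ := k.cent x hc
    refine mem_of_cube hW hx ⟨p ^ 3, pow_mem hp 3, ?_⟩
    have c : Commute (ι e3) (θ p) := (k.ev p hp).symm
    rw [(c.pow_left n).mul_pow, ← pow_mul, mul_comm n, pow_mul, ← o3 h, pow_orderOf_eq_one,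
      one_pow, one_mul, map_pow]
  have H : ∀ r, θ r ∈ W → θ (a6 * r * a6⁻¹) ∈ W := fun r hr => by
    rw [← map_cj θ rfl, k.a]; exact conj_mem_of_mem_normalizer h1 hr
  have q1 := H q hx
  have q2 := H _ q1
  have key : ∀ r, θ r ∈ W → r ^ 3 = 1 → r = 1 := fun r hr e =>
    (injective_iff_map_eq_one θ).1 k.inj r (eq_one_of_cube hW hr (by rw [← map_pow, e, map_one]))
  have F := forall_of_dec (P := fun q : PG 6 => q ∈ alt 6 → q ≠ 1 →
    ((q * q * (a6 * q * a6⁻¹) * (a6 * (a6 * q * a6⁻¹) * a6⁻¹)) ^ 3 = 1 →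
      q * q * (a6 * q * a6⁻¹) * (a6 * (a6 * q * a6⁻¹) * a6⁻¹) = 1) →
    ((q * q * (a6 * (a6 * q * a6⁻¹) * a6⁻¹) * (a6 * q * a6⁻¹)) ^ 3 = 1 →
      q * q * (a6 * (a6 * q * a6⁻¹) * a6⁻¹) * (a6 * q * a6⁻¹) = 1) →
    ((q * (a6 * q * a6⁻¹) * q * (a6 * (a6 * q * a6⁻¹) * a6⁻¹)) ^ 3 = 1 →
      q * (a6 * q * a6⁻¹) * q * (a6 * (a6 * q * a6⁻¹) * a6⁻¹) = 1) →
    ∃ r ∈ [q, a6 * q * a6⁻¹, a6 * (a6 * q * a6⁻¹) * a6⁻¹],
      r = pl [1, 0, 3, 2, 4, 5] ∨ r = pl [1, 0, 4, 3, 2, 5] ∨ r = v6) (by decide +kernel) q hq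
    (fun e => x1 (by rw [e, map_one]))
    (key _ (by simp only [map_mul θ (_ * _ * _), map_mul θ (q * q), map_mul θ q]
               exact mul_mem (mul_mem (mul_mem hx hx) q1) q2))
    (key _ (by simp only [map_mul θ (_ * _ * _), map_mul θ (q * q), map_mul θ q]
               exact mul_mem (mul_mem (mul_mem hx hx) q2) q1))
    (key _ (by rw [map_mul, map_mul, map_mul]; exact mul_mem (mul_mem (mul_mem hx q1) hx) q2))
  obtain ⟨r, hr, e⟩ := F
  have : θ r ∈ W := by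
    simp only [List.mem_cons, List.not_mem_nil, or_false] at hr
    rcases hr with rfl | rfl | rfl
    exacts [hx, q1, q2]
  rcases e with rfl | rfl | rfl
  exacts [Or.inl this, Or.inr (Or.inl this), Or.inr (Or.inr this)]

omit hz k in
theorem ττ : ι τ1 * ι τ1 = 1 :=
  (h.mul_eq (by decide +kernel) (by decide +kernel) (by decide +kernel)).trans h.one

omit hz in
theorem h_conj {p q : PG 6} (e : k6 * p * k6⁻¹ = q) :
    θ h6 * (ι τ1 * θ p * (ι τ1)⁻¹) * (θ h6)⁻¹ = ι τ1 * θ q * (ι τ1)⁻¹ := by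
  rw [← map_cj θ e, k.hk h, inv_eq_of_mul_eq_one_right (ττ h)]
  simp only [mul_inv_rev, mul_assoc, inv_eq_of_mul_eq_one_right (ττ h), ← mul_assoc (ι τ1) (ι τ1),
    ττ h, one_mul, mul_one]

/-- `3'`-subgroups of `C(V)` normalised by `e1` and `e3` -/
theorem binv {W : Subgroup G} (hW : (Nat.card W).Coprime 3)
    (hK : W ≤ centralizer (F4 (θ v6) (θ u6) : Set G)) (hn : ∀ c ∈ B1, ι c ∈ normalizer (W : Set G)) :
    W ≤ F4 (θ v6) (θ u6) ∨ ι τ1 * θ (pl [1, 0, 4, 3, 2, 5]) * (ι τ1)⁻¹ ∈ W ∨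
      ι τ1 * θ v6 * (ι τ1)⁻¹ ∈ W := by
  have τR : τ1 ∈ Rot := by decide +kernel
  have t1 : ι τ1 * ι e3 * (ι τ1)⁻¹ = ι e1 := h.conj_eq τR (by decide +kernel) (by decide +kernel)
  have t3 : ι τ1 * ι e1 * (ι τ1)⁻¹ = ι e3 := h.conj_eq τR (by decide +kernel) (by decide +kernel)
  have ti := inv_eq_of_mul_eq_one_right (ττ h)
  have vu := map_comm θ (show v6 * u6 = u6 * v6 by decide +kernel)
  have A3 : W ⊓ Cx (ι e3) ≤ F4 (θ v6) (θ u6) := fun x hx => by
    have := k.cent_le (p := v6) (q := u6) (by decide +kernel) (by decide +kernel)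
      (by decide +kernel) (by decide +kernel) (by decide +kernel)
      (forall_of_dec (by decide +kernel)) ⟨hK hx.1, hx.2⟩
    have eK : zpowers (ι e3) ≤ centralizer (F4 (θ v6) (θ u6) : Set G) :=
      zpowers_le.2 (mem_cent_F4.2 ⟨(k.ev _ (by decide +kernel)).symm,
        (k.ev _ (by decide +kernel)).symm⟩)
    obtain ⟨a, ha, b, hb, rfl⟩ := (Core.mem_sup_of_le_normalizer_left
      (eK.trans (centralizer_le_normalizer _))).1 this
    refine mem_of_cube hW hx.1 ?_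
    have c : Commute a b := eK hb a ha
    rw [c.mul_pow, ← o3 h, ← Nat.card_zpowers,
      orderOf_dvd_iff_pow_eq_one.1 ((zpowers (ι e3)).orderOf_dvd_natCard hb), mul_one]
    exact pow_mem ha _
  by_contra hc
  simp only [not_or] at hc
  have A1 : W ⊓ Cx (ι e1) ≤ F4 (θ v6) (θ u6) := fun x hx => by
    by_contra hx'
    have back : ∀ p, θ p ∈ cj (ι τ1) W → ι τ1 * θ p * (ι τ1)⁻¹ ∈ W := fun p hp => by
      have := mem_cj.1 hp; rwa [ti] at this ⊢
    rcases k.inv_six h (card_cj (ι τ1) W ▸ hW) (t1 ▸ conj_norm (hn e3 (by decide +kernel)) _)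
      (conj_mem_cj.2 hx.1) (t3 ▸ conj_mem_Cx.2 hx.2)
      (fun e => hx' (conj_eq_one_iff.1 e ▸ one_mem _)) with e | e | e
    · have h1 := k.cent_U h hz (mem_cent_F4.2 ⟨(mem_cent_F4.1 (hK (back _ e))).1,
        (mul_inv_eq_iff_eq_mul.1 (k.h_conj h (show _ = pl [1, 0, 3, 2, 4, 5] by
          decide +kernel))).symm⟩)
      have h2 := conj_norm h1 (ι τ1)
      rw [cj_zpowers, t1, ti, ← k.a, ← mul_assoc, ← mul_assoc, ττ h, one_mul, mul_assoc, ττ h,
        mul_one] at h2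
      have h3 := conj_mem_of_mem_normalizer h2 (mem_zpowers _)
      rw [map_cj θ rfl, ← MonoidHom.map_zpowers] at h3
      obtain ⟨r, hr, e'⟩ := h3
      rw [k.inj e'] at hr
      exact absurd (mem_zpowers_cube (by decide +kernel) hr) (by decide +kernel)
    exacts [hc.2.1 (back _ e), hc.2.2 (back _ e)]
  refine hc.1 (gen_plane h.toJS0 (P := B1) (show ∀ a ∈ B1, a ∈ J0 by decide +kernel) card_B1 hW hn
    fun c hB c1 x hx => ?_)
  rcases (by decide +kernel : ∀ c ∈ B1, (c = e1 ∨ c = e1⁻¹) ∨ (c = e3 ∨ c = e3⁻¹) ∨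
    (c ∈ J0 ∧ ¬ isE c)) c hB with e | e | ⟨h3, h4⟩
  · refine A1 ⟨hx.1, ?_⟩
    rcases e with rfl | rfl
    · exact hx.2
    · have := mem_Cx.1 hx.2
      rw [h.inv (by decide +kernel)] at this
      exact mem_Cx.2 (Commute.inv_right_iff.1 this)
  · refine A3 ⟨hx.1, ?_⟩
    rcases e with rfl | rfl
    · exact hx.2
    · have := mem_Cx.1 hx.2
      rw [h.inv (by decide +kernel)] at this
      exact mem_Cx.2 (Commute.inv_right_iff.1 this)
  · exact A3 ⟨hx.1, comm_of_norm h.toJS0 hW (by decide +kernel) (hn e3 (by decide +kernel)) hx.1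
      (cent_of_not_E h hz h3 c1 h4 hx.2)⟩

end Six

/-- the involutions of `C(v6)` without fixed points -/
def tri (q : PG 6) : Prop := q = v6 * g6 ∨ q = u6 * g6 ∨ q = v6 * u6 * g6

noncomputable instance (q : PG 6) : Decidable (tri q) := by unfold tri; infer_instance

namespace Six

variable (h : JS Rot ι) (k : Six ι θ)
include h k

theorem cls_τ {q : PG 6} (hq : tri q) : IsConj (θ q) (ι τ0) := by
  rw [← k.ht h]
  rcases hq with rfl | rfl | rfl
  exacts [isConj_iff.2 ⟨_, map_cj θ (m := pl [0, 3, 1, 2, 5, 4]) (by decide +kernel)⟩,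
    isConj_iff.2 ⟨_, map_cj θ (m := pl [0, 1, 4, 2, 5, 3]) (by decide +kernel)⟩,
    isConj_iff.2 ⟨_, map_cj θ (m := pl [0, 1, 3, 2, 5, 4]) (by decide +kernel)⟩]

theorem cls_w {q : PG 6} (h1 : q * v6 = v6 * q) (h2 : q * q = 1) (h3 : q ≠ 1) (hq : ¬ tri q) :
    IsConj (θ q) (ι w0) := by
  obtain ⟨m, -, e | e⟩ := forall_of_dec (P := fun q : PG 6 => q * v6 = v6 * q → q * q = 1 →
    q ≠ 1 → ¬ tri q → ∃ m ∈ [pl [2, 3, 4, 0, 1, 5], pl [2, 3, 0, 4, 5, 1], pl [2, 5, 0, 3, 4, 1],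
      1, pl [0, 1, 3, 2, 5, 4], pl [0, 3, 1, 2, 5, 4], pl [0, 3, 4, 2, 5, 1]],
      m * q * m⁻¹ = h6 ∨ m * q * m⁻¹ = s6) (by decide +kernel) q h1 h2 h3 hq
  · exact isConj_iff.2 ⟨_, (map_cj θ e).trans (k.hh h)⟩
  · exact (isConj_iff.2 ⟨_, (map_cj θ e).trans k.s⟩).trans
      (h.isConj (a := σ0) (by decide +kernel) (by decide +kernel) (by decide +kernel))

theorem tri_iff {p q : PG 6} (r : Rel θ g p q) (h1 : p * v6 = v6 * p) (h2 : p * p = 1) (h3 : p ≠ 1)
    (h4 : q * v6 = v6 * q) : tri p ↔ tri q := by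
  have q2 : q * q = 1 := k.inj (by
    rw [← (r.mul r : Rel θ g _ _), h2, map_one, mul_one, mul_inv_cancel])
  have q1 : q ≠ 1 := fun e => h3 (Rel.uniq' k.inj r Rel.one e)
  constructor <;> intro t <;> by_contra n
  · exact not_w_τ h ((k.cls_w h h4 q2 q1 n).symm.trans (r.isConj.symm.trans (k.cls_τ h t)))
  · exact not_w_τ h ((k.cls_w h h1 h2 h3 n).symm.trans (r.isConj.trans (k.cls_τ h t)))

theorem norm_T (hg : g ∈ normalizer ((Cx v6).map θ : Set G)) :
    Rel θ g v6 v6 ∧ Rel θ g g6 g6 ∧ (Rel θ g u6 u6 ∨ Rel θ g u6 (v6 * u6)) := by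
  have im : ∀ p, p * v6 = v6 * p → ∃ q, q * v6 = v6 * q ∧ Rel θ g p q := fun p hp => by
    obtain ⟨q, hq, e⟩ := conj_mem_of_mem_normalizer hg (mem_map_of_mem θ (mem_Cx.2 hp))
    exact ⟨q, mem_Cx.1 hq, e.symm⟩
  obtain ⟨r, r1, r2⟩ := im (pl [2, 5, 1, 3, 4, 0]) (by decide +kernel)
  have rv : Rel θ g v6 v6 := (r2.mul r2).of_eq (by decide +kernel)
    (forall_of_dec (P := fun r : PG 6 => r * v6 = v6 * r → r * r ≠ 1 → r * r = v6)
      (by decide +kernel) r r1 fun e =>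
        absurd (Rel.uniq' k.inj (r2.mul r2) Rel.one e) (by decide +kernel))
  obtain ⟨q, q1, q2⟩ := im g6 (by decide +kernel)
  obtain rfl : q = g6 := forall_of_dec (P := fun q : PG 6 => ¬ tri q → tri (v6 * q) → q = g6 ∨
      ¬ q * v6 = v6 * q) (by decide +kernel) q
    (fun t => absurd ((k.tri_iff h q2 (by decide +kernel) (by decide +kernel) (by decide +kernel)
      q1).2 t) (by decide +kernel))
    ((k.tri_iff h (rv.mul q2) (by decide +kernel) (by decide +kernel) (by decide +kernel)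
      (by rw [mul_assoc, q1])).1 (Or.inl rfl)) |>.resolve_right (not_not.2 q1)
  obtain ⟨p, p1, p2⟩ := im u6 (by decide +kernel)
  refine ⟨rv, q2, ?_⟩
  rcases (k.tri_iff h (p2.mul q2) (by decide +kernel) (by decide +kernel) (by decide +kernel)
    (by rw [mul_assoc, show g6 * v6 = v6 * g6 by decide +kernel, ← mul_assoc, p1, mul_assoc])).1
      (Or.inr (Or.inl rfl)) with e | e | e <;> rw [mul_left_inj] at e <;> subst e
  exacts [absurd (Rel.uniq' k.inj p2 rv rfl) (by decide +kernel), Or.inl p2, Or.inr p2]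

/-- `C(V)` does not normalise `⟨e3⟩` -/
theorem not_cent_V :
    ¬ centralizer (F4 (θ v6) (θ u6) : Set G) ≤ normalizer (zpowers (ι e3) : Set G) := fun H => by
  have key : ∀ g, Rel θ g v6 v6 → Rel θ g g6 g6 → Rel θ g u6 u6 → g ∈ (Cx v6).map θ :=
    fun g r1 r2 r3 => by
      obtain ⟨n, p, rfl⟩ := k.norm h (H (mem_cent_F4.2 ⟨r1.comm, r3.comm⟩))
      have pv := k.comm_part (by decide +kernel) r1.comm
      have pg := map_comm θ (forall_of_dec (P := fun p : PG 6 => p * v6 = v6 * p → p * g6 = g6 * p)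
        (by decide +kernel) p pv)
      have e1 := r2.comm
      rw [mul_assoc, pg, ← mul_assoc, ← mul_assoc, mul_left_inj, k.hg h,
        ← h.pow (by decide +kernel), h.comm_iff (pow_mem (by decide +kernel) n) (by decide +kernel),
        pow_eq_pow_mod n (show e3 ^ 3 = 1 by decide +kernel)] at e1
      rw [← h.pow (by decide +kernel), pow_eq_pow_mod n (show e3 ^ 3 = 1 by decide +kernel),
        (by decide +kernel : ∀ j < 3, e3 ^ j * (Rec3.r2 * Rec3.r3) = Rec3.r2 * Rec3.r3 * e3 ^ j →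
          e3 ^ j = 1) _
          (Nat.mod_lt _ three_pos) e1, h.one, one_mul]
      exact mem_map_of_mem θ (mem_Cx.2 pv)
  have hS : IsSylowIn 2 ((Cx v6).map θ) ⊤ := by
    refine sylow_of (IsPGroup.map (isPGroup_iff_mem.2 fun p hp => ⟨2, forall_of_dec
      (P := fun p : PG 6 => p * v6 = v6 * p → p ^ 2 ^ 2 = 1) (by decide +kernel) p
        (mem_Cx.1 hp)⟩) θ) le_top fun g _ hg _ => ?_
    obtain ⟨r1, r2, r3 | r3⟩ := k.norm_T h hg
    · exact key g r1 r2 r3
    · have := key (θ s6 * g) (((Rel.conj θ s6 v6).of_eq rfl (by decide +kernel)).comp r1)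
        (((Rel.conj θ s6 g6).of_eq rfl (by decide +kernel)).comp r2)
        (((Rel.conj θ s6 (v6 * u6)).of_eq rfl (by decide +kernel)).comp r3)
      exact (mul_mem_cancel_left (mem_map_of_mem θ (mem_Cx.2 (by decide +kernel)))).1 this
  obtain ⟨m, e⟩ := isConj_iff.1 ((k.cls_w h rfl (by decide +kernel) (by decide +kernel)
    (by decide +kernel)).trans (k.cls_w h (q := g6) (by decide +kernel) (by decide +kernel)
      (by decide +kernel) (by decide +kernel)).symm)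
  obtain ⟨n, -, hn, e'⟩ := exists_normalizer_conj hS (mem_top m)
    (by rintro _ ⟨p, hp, rfl⟩; exact mem_Cx.2 (map_comm θ (mem_Cx.1 hp)))
    (by
      rintro _ ⟨p, hp, rfl⟩
      rw [e]
      exact mem_Cx.2 (map_comm θ (forall_of_dec
        (P := fun p : PG 6 => p * v6 = v6 * p → p * g6 = g6 * p) (by decide +kernel) p
          (mem_Cx.1 hp))))
  exact absurd (Rel.uniq k.inj (k.norm_T h hn).1 (e'.trans e) rfl) (by decide +kernel)

/-- the structure of `C(V)` -/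
theorem cent_V (hz : Cx (ι z0) ≤ normalizer (img ι J0 : Set G)) :
    (Nat.card (centralizer (F4 (θ v6) (θ u6) : Set G)) ∣ 240 ∨
      Nat.card (centralizer (F4 (θ v6) (θ u6) : Set G)) ∣ 672) ∧
    ι τ1 * θ v6 * (ι τ1)⁻¹ * θ v6 = θ v6 * (ι τ1 * θ v6 * (ι τ1)⁻¹) := by
  set K := centralizer (F4 (θ v6) (θ u6) : Set G) with hK
  have vu := map_comm θ (show v6 * u6 = u6 * v6 by decide +kernel)
  have vv := map_sq' θ (show v6 * v6 = 1 by decide +kernel)
  have uu := map_sq' θ (show u6 * u6 = 1 by decide +kernel)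
  have eK : ι e3 ∈ K := mem_cent_F4.2 ⟨(k.ev _ (by decide +kernel)).symm,
    (k.ev _ (by decide +kernel)).symm⟩
  have aK : ι e1 ∈ normalizer (K : Set G) := k.a ▸ norm_cent_F4
    (by rw [map_cj θ (show a6 * v6 * a6⁻¹ = u6 by decide +kernel)]; exact mem_F4_right)
    (by rw [map_cj θ (show a6 * u6 * a6⁻¹ = v6 * u6 by decide +kernel), map_mul]
        exact mul_mem mem_F4_left mem_F4_right)
  have hK' : θ h6 ∈ normalizer (K : Set G) := norm_cent_F4
    (by rw [map_cj θ (show h6 * v6 * h6⁻¹ = v6 by decide +kernel)]; exact mem_F4_left)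
    (by rw [map_cj θ (show h6 * u6 * h6⁻¹ = v6 * u6 by decide +kernel), map_mul]
        exact mul_mem mem_F4_left mem_F4_right)
  have BK : ∀ c ∈ B1, ι c ∈ normalizer (K : Set G) := fun c hc =>
    h.mem_of_sp (gs := [e1, e3]) (by decide +kernel) (by simp [aK, le_normalizer eK]) (D := 4)
      ((by decide +kernel : ∀ c ∈ B1, bit (TG.sp [e1, e3] 4) c.v = true) c hc)
  have c45 := k.h_conj h (show k6 * pl [1, 0, 4, 3, 2, 5] * k6⁻¹ = v6 by decide +kernel)
  have c54 := k.h_conj h (show k6 * v6 * k6⁻¹ = pl [1, 0, 4, 3, 2, 5] by decide +kernel)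
  have hV : F4 (θ v6) (θ u6) ≤ opOf 3 K :=
    le_opOf (F4_le_cent vu) (centralizer_le_normalizer _) (cop_F4 vv uu vu)
  have hO : opOf 3 K = F4 (θ v6) (θ u6) := by
    refine le_antisymm ((k.binv h hz (coprime_card_opOf K) (opOf_le K) fun c hc =>
      normalizer_le_normalizer_opOf K (BK c hc)).resolve_right fun H => ?_) hV
    have hn := normalizer_le_normalizer_opOf (p := 3) K hK'
    obtain ⟨h1, h2⟩ : ι τ1 * θ (pl [1, 0, 4, 3, 2, 5]) * (ι τ1)⁻¹ ∈ opOf 3 K ∧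
        ι τ1 * θ v6 * (ι τ1)⁻¹ ∈ opOf 3 K := by
      rcases H with H | H
      exacts [⟨H, c45 ▸ conj_mem_of_mem_normalizer hn H⟩,
        ⟨c54 ▸ conj_mem_of_mem_normalizer hn H, H⟩]
    have := eq_one_of_cube (coprime_card_opOf K) (mul_mem h1 h2) (by
      rw [conj_mul, conj_pow, ← map_mul, ← map_pow,
        show (pl [1, 0, 4, 3, 2, 5] * v6) ^ 3 = 1 by decide +kernel, map_one, mul_one,
        mul_inv_cancel])
    rw [conj_mul, conj_eq_one_iff, ← map_mul] at this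
    exact absurd ((injective_iff_map_eq_one θ).1 k.inj _ this) (by decide +kernel)
  rcases ft3 (F4_le_cent vu) (centralizer_le_normalizer _) (cop_F4 vv uu vu) (o3 h) eK
    (k.cent_le (by decide +kernel) (by decide +kernel) (by decide +kernel) (by decide +kernel)
      (by decide +kernel) (forall_of_dec (by decide +kernel))) with ⟨-, h1⟩ | ⟨h1, -, -, h2, -⟩
  · refine absurd (h1.trans (sup_le (hO.trans_le (sup_le (zpowers_le.2 (Cx_le_Nz (mem_Cx.2 ?_)))
      (zpowers_le.2 (Cx_le_Nz (mem_Cx.2 ?_))))) inf_le_right)) (k.not_cent_V h) <;>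
      exact k.ev _ (by decide +kernel)
  constructor
  · have e := card_mul_relIndex' (opOf_le (p := 3) K)
    obtain ⟨n, e4⟩ := IsPGroup.iff_card.1 (Core2.two_of_sq (Core2.sq_pair vv uu vu))
    have h4 : Nat.card (opOf 3 K) ∣ 4 := by
      have := Core2.card_pair_le vv uu vu
      rw [hO, e4] at *
      exact pow_dvd_pow 2 ((Nat.pow_le_pow_iff_right one_lt_two).1 (show 2 ^ n ≤ 2 ^ 2 from this))
    rcases h1 with e' | ⟨e', -⟩ <;> rw [← e, e']
    exacts [Or.inl (Nat.mul_dvd_mul_right h4 60), Or.inr (Nat.mul_dvd_mul_right h4 168)]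
  · have hB : B1 ≤ Rot := show ∀ a ∈ B1, a ∈ Rot by decide +kernel
    obtain ⟨W, h3, h4, h5, h6⟩ := h2 (img ι B1)
      (h.im_pgroup hB (IsPGroup.of_card (n := 2) card_B1)) (im_le.2 BK)
    rcases (k.binv h hz h5 h4 (im_le.1 h6)).resolve_left fun e => h3.not_ge (e.trans hV) with e | e
    · exact (mem_cent_F4.1 (c45 ▸ conj_mem_of_mem_normalizer hK' (h4 e))).1
    · exact (mem_cent_F4.1 (h4 e)).1

end Six

end N9

end CfsgLib.Rec3
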