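import Mathlib
import Cfsg.Agent.Lib.Rec3.A9b
import Cfsg.Agent.Lib.Rec3.A9Enum
import Cfsg.Agent.Lib.Rec3.Fin8

/-! The case `C(e) = 3 × A₆` of the recognition of `A₉`. -/

set_option autoImplicit false
set_option maxRecDepth 100000
set_option linter.unusedSectionVars false

namespace CfsgLib.Rec3

open Subgroup Cfsg CfsgLib.Tech CfsgLib.PComp CfsgLib.W2 CfsgLib.CosetEnum PG AG

variable {G : Type*} [Group G] [Finite G] {ι : W3 → G}

namespace N9

/-- the generators of `A₉` -/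
noncomputable def n9 : ℕ → AG 9 := gv [al [1, 2, 0, 3, 4, 5, 6, 7, 8], al [0, 1, 2, 4, 5, 3, 6, 7, 8],
  al [0, 1, 2, 3, 4, 5, 7, 8, 6], al [3, 4, 5, 6, 7, 8, 0, 1, 2], al [3, 4, 5, 1, 0, 2, 6, 7, 8],
  al [0, 1, 2, 4, 3, 5, 7, 6, 8], al [1, 0, 5, 3, 4, 2, 6, 7, 8]]

/-- the even permutations of `3, 4, 6, 7, 8` -/
noncomputable def l5 : List (AG 9) := List.map (fun l : List ℕ =>
    al [0, 1, 2, l.getD 0 0, l.getD 1 0, 5, l.getD 2 0, l.getD 3 0, l.getD 4 0])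
  [[3, 4, 6, 7, 8], [3, 4, 7, 8, 6], [3, 4, 8, 6, 7], [3, 6, 4, 8, 7], [3, 6, 7, 4, 8],
    [3, 6, 8, 7, 4], [3, 7, 4, 6, 8], [3, 7, 6, 8, 4], [3, 7, 8, 4, 6], [3, 8, 4, 7, 6],
    [3, 8, 6, 4, 7], [3, 8, 7, 6, 4], [4, 3, 6, 8, 7], [4, 3, 7, 6, 8], [4, 3, 8, 7, 6],
    [4, 6, 3, 7, 8], [4, 6, 7, 8, 3], [4, 6, 8, 3, 7], [4, 7, 3, 8, 6], [4, 7, 6, 3, 8],
    [4, 7, 8, 6, 3], [4, 8, 3, 6, 7], [4, 8, 6, 7, 3], [4, 8, 7, 3, 6], [6, 3, 4, 7, 8],
    [6, 3, 7, 8, 4], [6, 3, 8, 4, 7], [6, 4, 3, 8, 7], [6, 4, 7, 3, 8], [6, 4, 8, 7, 3],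
    [6, 7, 3, 4, 8], [6, 7, 4, 8, 3], [6, 7, 8, 3, 4], [6, 8, 3, 7, 4], [6, 8, 4, 3, 7],
    [6, 8, 7, 4, 3], [7, 3, 4, 8, 6], [7, 3, 6, 4, 8], [7, 3, 8, 6, 4], [7, 4, 3, 6, 8],
    [7, 4, 6, 8, 3], [7, 4, 8, 3, 6], [7, 6, 3, 8, 4], [7, 6, 4, 3, 8], [7, 6, 8, 4, 3],
    [7, 8, 3, 4, 6], [7, 8, 4, 6, 3], [7, 8, 6, 3, 4], [8, 3, 4, 6, 7], [8, 3, 6, 7, 4],
    [8, 3, 7, 4, 6], [8, 4, 3, 7, 6], [8, 4, 6, 3, 7], [8, 4, 7, 6, 3], [8, 6, 3, 4, 7],
    [8, 6, 4, 7, 3], [8, 6, 7, 3, 4], [8, 7, 3, 6, 4], [8, 7, 4, 3, 6], [8, 7, 6, 4, 3]]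

/-- more than half of the centraliser of `V` -/
noncomputable def l180 : List (AG 9) := l5 ++ l5.map (n9 6 * ·) ++ l5.map (n9 0 * n9 6 * (n9 0)⁻¹ * ·)

namespace Six

variable {θ : PG 6 →* G} (h : JS Rot ι) (hz : Cx (ι z0) ≤ normalizer (img ι J0 : Set G))
  (k : Six ι θ)
include h hz k

theorem exists_A9 : ∃ Φ : AG 9 →* G, Function.Injective Φ ∧
    ∀ i < 7, Φ (n9 i) = gv [ι e1, ι e2, ι e3, ι σ0, ι f0, ι (r2 * r3), θ v6] i := by
  obtain ⟨Φ, h1, -⟩ := pR9_pres.exists_hom (g := gv [ι e1, ι e2, ι e3, ι σ0, ι f0, ι (r2 * r3), θ v6])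
    (rels_of_hom h.hom (f := gv [⟨e1, by decide +kernel⟩, ⟨e2, by decide +kernel⟩,
      ⟨e3, by decide +kernel⟩, ⟨σ0, by decide +kernel⟩, ⟨f0, by decide +kernel⟩,
      ⟨r2 * r3, by decide +kernel⟩]) [0, 1, 2, 3, 4, 5] ([12, 12] :: pR9_rels.drop 14)
      (by simp [gv, Emb.hom_apply]) (by decide +kernel)
      (rels_of_hom θ (f := gv [a6, b6, 1, 1, f6, g6, v6]) [0, 1, 4, 5, 6]
        [[4, 12, 5, 12], [12, 2, 6, 8, 12, 2, 6, 8, 12, 2, 6, 8, 12, 2, 6, 8]]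
        (by simp [gv, k.a, k.b, k.f, k.hg h]) (by decide +kernel) (by
          have e : ι e2 * (ι σ0 * ι f0) = ι τ1 := by
            rw [← mul_assoc, ← h.mul (by decide +kernel) (by decide +kernel),
              ← h.mul (by decide +kernel) (by decide +kernel)]; rfl
          have e' : ∀ x, ι e2 * (ι σ0 * (ι f0 * x)) = ι τ1 * x := fun x => by
            rw [← e]; simp only [mul_assoc]
          have c := (k.cent_V h hz).2
          have vv := map_sq' θ (show v6 * v6 = 1 by decide +kernel)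
          rw [inv_eq_of_mul_eq_one_right (ττ h)] at c
          simp only [List.forall_mem_cons, ev_cons, ev_nil, evL, gv, Nat.reduceMod, Nat.reduceDiv,
            ↓reduceIte, List.getD_cons_succ, List.getD_cons_zero, one_ne_zero, mul_one, e, e']
          refine ⟨?_, ?_, by simp⟩
          · rw [← mul_assoc, ← k.ev _ (by decide +kernel), mul_assoc, mul_inv_cancel_left, vv]
          · calc _ = θ v6 * (ι τ1 * θ v6 * ι τ1 * θ v6) * (ι τ1 * θ v6 * ι τ1) := by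
                  simp only [mul_assoc]
              _ = ι τ1 * θ v6 * (ι τ1 * ι τ1) * θ v6 * ι τ1 := by
                  rw [c, ← mul_assoc (θ v6), vv]; simp only [mul_assoc, one_mul]
              _ = 1 := by rw [ττ h, mul_one, mul_assoc (ι τ1), vv, mul_one, ττ h])))
    (f := n9) (by decide +kernel)
    (by have := two_mul_card (n := 9); rw [show Nat.factorial 9 = 362880 from rfl] at this; omega)
    (gen_eq_top (a := 0) (b := 1) (by decide) (fun j => [[], [], [0], [0, 2, 12, 0, 3],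
      [0, 3, 12, 0, 2], [0, 12, 0], [4, 7, 12, 2, 12, 1, 6], [5, 7, 12, 2, 12, 0, 6],
      [7, 12, 2, 12, 6]].getD j []) (by decide +kernel))
  have h2 := map_single h1
  refine ⟨Φ, injective_AG (by norm_num) Φ ((h2 2 (by simp)).trans_ne fun e : ι e3 = 1 => ?_),
    fun i hi => h2 i (by interval_cases i <;> simp)⟩
  exact absurd ((h.eq_one_iff (by decide +kernel)).1 e) (by decide +kernel)

end Six

end N9

open N9 in
theorem beta (h : JS Rot ι) (hz : Cx (ι z0) ≤ normalizer (img ι J0 : Set G)) {κ : AG 6 →* G}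
    (hκ : A6 ι κ) : Nonempty (G ≃* alternatingGroup (Fin 9)) := by
  obtain ⟨θ, k⟩ := exists_six h hκ
  obtain ⟨Φ, hΦ, hf⟩ := k.exists_A9 h hz
  have f0' : Φ (n9 0) = ι e1 := hf 0 (by norm_num)
  have f1 : Φ (n9 1) = ι e2 := hf 1 (by norm_num)
  have f3 : Φ (n9 3) = ι σ0 := hf 3 (by norm_num)
  have f4 : Φ (n9 4) = ι f0 := hf 4 (by norm_num)
  have f6' : Φ (n9 6) = θ v6 := hf 6 (by norm_num)
  have fu : Φ (n9 0 * n9 6 * (n9 0)⁻¹) = θ u6 := by
    rw [map_mul, map_mul, map_inv, f0', f6', ← k.a]; exact map_cj θ (by decide +kernel)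
  have hH : normalizer (img ι J0 : Set G) ≤ Φ.range := h.norm ▸ im_le.2 fun c hc =>
    h.mem_of_sp (gs := [e1, σ0, f0]) (by decide +kernel)
      (by simp only [List.forall_mem_cons]; exact ⟨⟨_, f0'⟩, ⟨_, f3⟩, ⟨_, f4⟩, by simp⟩) (D := 14)
      ((by decide +kernel : ∀ c ∈ Rot, bit (TG.sp [e1, σ0, f0] 14) c.v = true) c hc)
  have hV : centralizer (F4 (θ v6) (θ u6) : Set G) ≤ Φ.range := by
    have hl : ∀ p ∈ l180, Φ p ∈ centralizer (F4 (θ v6) (θ u6) : Set G) := fun p hp => by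
      obtain ⟨c1, c2⟩ := (by decide +kernel : ∀ p ∈ l180, p * n9 6 = n9 6 * p ∧
        p * (n9 0 * n9 6 * (n9 0)⁻¹) = n9 0 * n9 6 * (n9 0)⁻¹ * p) p hp
      exact mem_cent_F4.2 ⟨by rw [← f6', ← map_mul, c1, map_mul],
        by rw [← fu, ← map_mul, c2, map_mul]⟩
    have h1 := card_ge_of_list Φ hΦ (H := centralizer (F4 (θ v6) (θ u6) : Set G) ⊓ Φ.range)
      (L := l180) (by decide +kernel) fun p hp => ⟨hl p hp, p, rfl⟩
    rw [show l180.length = 180 by decide +kernel] at h1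
    have h5 := orderOf_dvd_natCard _ (hl (al [0, 1, 2, 4, 6, 5, 7, 8, 3]) (by decide +kernel))
    have : Fact (Nat.Prime 5) := ⟨by norm_num⟩
    rw [orderOf_injective Φ hΦ, orderOf_eq_prime (p := 5) (by decide +kernel) (by decide +kernel)]
      at h5
    have h2 := (k.cent_V h hz).1.resolve_right fun e => absurd (h5.trans e) (by norm_num)
    have h3 := card_mul_relIndex' (inf_le_left : centralizer (F4 (θ v6) (θ u6) : Set G) ⊓
      Φ.range ≤ _)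
    rw [inf_relIndex_left] at h3
    have h4 := Nat.le_of_dvd (by norm_num) h2
    have h6 : Φ.range.relIndex (centralizer (F4 (θ v6) (θ u6) : Set G)) ≠ 0 :=
      index_ne_zero_of_finite
    exact relIndex_eq_one.1 (by
      by_contra hc
      have := Nat.mul_le_mul h1 ((Nat.two_le_iff _).2 ⟨h6, hc⟩)
      omega)
  let π : AG 9 := al [3, 8, 6, 7, 0, 1, 5, 2, 4]
  have e : ∀ p, (Φ.comp (MulAut.conj π).toMonoidHom) p = Φ (π * p * π⁻¹) := fun _ => rfl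
  have hr : Φ.range ≤ (Φ.comp (MulAut.conj π).toMonoidHom).range := by
    rintro _ ⟨p, rfl⟩
    exact ⟨π⁻¹ * p * π, by rw [e]; congr 1; group⟩
  have := fin9 (Φ.comp (MulAut.conj π).toMonoidHom) (hΦ.comp (MulAut.conj π).injective)
    (fun hc => not_w_τ h ?_) (inf_le_left.trans (le_trans ?_ hr))
    (inf_le_left.trans (le_trans (fun x hx => hV (mem_cent_F4.2 ⟨?_, ?_⟩)) hr))
  · exact ⟨(MulEquiv.ofBijective (Φ.comp (MulAut.conj π).toMonoidHom)
      ⟨hΦ.comp (MulAut.conj π).injective, MonoidHom.range_eq_top.1 this⟩).symm.trans (altE 9).symm⟩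
  · rw [e, e, show π * _ * π⁻¹ = n9 6 by decide +kernel, f6'] at hc
    refine ((k.cls_w h rfl (by decide +kernel) (by decide +kernel) (by decide +kernel)).symm.trans
      hc).trans ((isConj_map_conj Φ (al [0, 6, 1, 2, 4, 7, 3, 5, 8]) _).trans ?_)
    rw [show _ * _ * _ = n9 1 * n9 3 * n9 4 by decide +kernel, map_mul, map_mul, f1, f3, f4,
      ← h.mul (by decide +kernel) (by decide +kernel),
      ← h.mul (by decide +kernel) (by decide +kernel)]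
    obtain ⟨m, hm, e⟩ := (by decide +kernel : ∃ m ∈ Rot, m * (e2 * σ0 * f0) * m⁻¹ = τ0)
    exact h.isConj hm (by decide +kernel) e
  · rw [e, show π * _ * π⁻¹ = al [0, 8, 7, 1, 3, 6, 2, 5, 4] * (n9 0 * n9 1) *
      (al [0, 8, 7, 1, 3, 6, 2, 5, 4])⁻¹ by decide +kernel, map_mul, map_mul, map_inv, ← cj_Cx,
      map_mul, f0', f1, h.mul_eq (c := y0) (by decide +kernel) (by decide +kernel)
        (by decide +kernel), ← cj_eq_of_mem (H := Φ.range) ⟨al [0, 8, 7, 1, 3, 6, 2, 5, 4], rfl⟩]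
    exact cj_mono _ ((cent_of_not_E h hz (by decide +kernel) (by decide +kernel)
      (by decide +kernel)).trans hH)
  · have := mem_Cx.1 hx.1
    rwa [e, show π * _ * π⁻¹ = n9 6 by decide +kernel, f6'] at this
  · have := mem_Cx.1 hx.2
    rwa [e, show π * _ * π⁻¹ = n9 0 * n9 6 * (n9 0)⁻¹ by decide +kernel, fu] at this

end CfsgLib.Rec3
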