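import Mathlib
import Cfsg.Agent.Lib.Rec3.A9b
import Cfsg.Agent.Lib.ZJ.FunctorApp

/-! The recognition of `A₉`: the signalizers of `J`, and the case that `J` is strongly closed. -/

set_option autoImplicit false
set_option maxRecDepth 100000
set_option linter.unusedSectionVars false

namespace CfsgLib.Rec3

open Subgroup Cfsg CfsgLib.Tech CfsgLib.PComp CfsgLib.W2

namespace N9

variable {G : Type*} [Group G] [Finite G] {ι : W3 → G}

theorem zj_S {A : Subgroup W3} (h : JS0 A ι) : ZJ.zj 3 (img ι S0) = img ι J0 := by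
  obtain ⟨j1, j2, j3⟩ := Jx.J0_elem h.toEmb h.J_le
  have hb : ∀ B : Subgroup G, B ≤ img ι S0 → IsElementaryAbelian 3 B → Nat.card B ≤ 27 :=
    fun B hB hE => by
      have h81 : Nat.card (img ι S0) = 81 := (h.card_im h.le).trans cards.2.1
      have hd := card_dvd_of_le hB
      rw [h81] at hd
      by_contra hc
      have e : B = img ι S0 := eq_of_le_of_card_ge hB (by
        have := Nat.le_of_dvd (by norm_num) hd
        rw [h81]
        generalize Nat.card B = n at *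
        interval_cases n <;> omega)
      have := PLocal.elemAb_comm hE (e.ge (mem_im_of Jx.mems.2.2.2.2.2.2.1))
        (e.ge (mem_im_of (J0_le_S0 Jx.mems.1)))
      exact absurd ((h.comm_iff (h.le Jx.mems.2.2.2.2.2.2.1) (h.J_le Jx.mems.1)).1 this)
        (by decide +kernel)
  have hJ : img ι J0 ∈ PLocal.maxElemIn 3 (img ι S0) :=
    ⟨im_mono J0_le_S0, PLocal.elemAb_iff.2 ⟨j1, j2⟩, fun B h1 h2 => j3 ▸ hb B h1 h2⟩
  rw [← ZJ.sInf_maxElemIn]
  refine le_antisymm (sInf_le hJ) (le_sInf fun B hB => ?_)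
  rw [h.eq_J' hB.1 (PLocal.elemAb_iff.1 hB.2.1).1
    (le_antisymm (hb B hB.1 hB.2.1) (j3 ▸ hB.2.2 _ hJ.1 hJ.2.1))]

theorem cent_z (h : JS0 Rot ι) (hO : opOf 3 (Cx (ι z0)) = ⊥) : Cx (ι z0) ≤ img ι S0 := by
  have hS := h.sylow_z
  refine le_of_npc (ZJ.hasNormalPComplement_of_zj (by norm_num) (Or.inr rfl) hS.toSylow
    (ZJ.isStronglyClosed_self _) (Transfer.hasNormalPComplement_of_isPGroup
      (hS.toSylow.isPGroup'.to_le fun g hg => hS.mem_toSylow.2 ?_))) hS (hO.trans_le bot_le) le_rfl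
  have := le_normalizer_map (Cx (ι z0)).subtype (mem_map_of_mem _ hg)
  rw [ZJ.map_zj (subtype_injective _), hS.map_toSylow, zj_S h] at this
  obtain ⟨a, ha, e⟩ := h.exists_eq this
  have hc := mem_Cx.1 g.2
  rw [show (g : G) = ι a from e.symm] at hc ⊢
  exact mem_im_of ((by decide +kernel : ∀ a ∈ Rot, a * z0 = z0 * a → a ∈ S0) a ha
    ((h.comm_iff ha (by decide +kernel)).1 hc))

theorem cj_of (h : JS0 Rot ι) {m a b : W3} (hm : m ∈ Rot) (ha : a ∈ Rot) (hb : b ∈ Rot) :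
    Cj (zpowers (ι y0)) (ι m) (ι a) (ι b) ↔ m * a * m⁻¹ * b⁻¹ = 1 ∨ m * a * m⁻¹ * b⁻¹ = y0 ∨
      m * a * m⁻¹ * b⁻¹ = y0⁻¹ := by
  have hy : y0 ∈ Rot := by decide +kernel
  have h1 := mul_mem (mul_mem hm ha) (inv_mem hm)
  rw [Cj, h.conj hm ha, ← h.inv hb, ← h.mul h1 (inv_mem hb), ← h.im_zpowers hy,
    h.mem_im_iff (zpowers_le.2 hy) (mul_mem h1 (inv_mem hb))]
  refine ⟨mem_zpowers_cube (by decide +kernel), ?_⟩
  rintro (e | e | e) <;> rw [e]
  exacts [one_mem _, mem_zpowers _, inv_mem (mem_zpowers _)]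

theorem cent_y (h : JS0 Rot ι) (hz : Cx (ι z0) ≤ normalizer (img ι J0 : Set G))
    (hO : opOf 3 (Cx (ι y0)) = ⊥) : Cx (ι y0) ≤ normalizer (img ι J0 : Set G) := by
  have hy : y0 ∈ J0 := by decide +kernel
  have hZ : zpowers (ι y0) ≤ img ι J0 := zpowers_le.2 (mem_im_of hy)
  have key : ∀ a ∈ J0, (∃ m ∈ Rot, m * (a * y0) * m⁻¹ = z0) →
      (∀ m ∈ Rot, m * y0 = y0 * m → (m * a * m⁻¹ * a⁻¹ = 1 ∨ m * a * m⁻¹ * a⁻¹ = y0 ∨
        m * a * m⁻¹ * a⁻¹ = y0⁻¹) → m ∈ J0) →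
      ∀ g ∈ Cx (ι y0), Cj (zpowers (ι y0)) g (ι a) (ι a) → g ∈ img ι J0 := by
    rintro a ha ⟨m, hm, e⟩ H g hg hc
    have h1 : g * ι (a * y0) * g⁻¹ ∈ img ι J0 := by
      rw [h.mul (h.J_le ha) (h.J_le hy), ← conj_mul, mem_Cx'.1 hg]
      exact mul_mem ((mul_mem_cancel_right (inv_mem (mem_im_of ha))).1 (hZ hc)) (mem_im_of hy)
    obtain ⟨n, hn, rfl⟩ := h.exists_eq (h.norm_of_line (mul_mem ha hy)
      (cent_conj h hm (h.J_le (mul_mem ha hy)) (e ▸ hz)) h1)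
    exact mem_im_of (H n hn ((h.comm_iff hn (h.J_le hy)).1 (mem_Cx.1 hg))
      ((cj_of h hn (h.J_le ha) (h.J_le ha)).1 hc))
  have c3 : ∀ a ∈ J0, ι a ^ 3 ∈ zpowers (ι y0) := fun a ha => by
    rw [← h.pow (h.J_le ha), J0_cube a ha, h.one]; exact one_mem _
  have h3 : e3 ∈ J0 := by decide +kernel
  have h13 : e1 * e3 ∈ J0 := by decide +kernel
  refine (st3 (K := Cx (ι y0)) (Z := zpowers (ι y0)) (P := img ι J0) (a := ι e3) (b := ι (e1 * e3))
    ⟨hZ, h.J_le_Cx hy, Cx_le_Nz, mem_im_of h3, mem_im_of h13, c3 _ h3, c3 _ h13,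
      (cj_of h (h.J_le h3) (h.J_le h13) (h.J_le h13)).2 (by decide +kernel),
      im_le.2 fun c hc => h.mem_of_sp (gs := [y0, e3, e1 * e3]) (by decide +kernel) ?_ (D := 6)
        ((by decide +kernel : ∀ c ∈ J0, bit (TG.sp [y0, e3, e1 * e3] 6) c.v = true) c hc), ?_,
      (h.sylow_gen hy gen_y0).not_dvd⟩ (Or.inr ?_) (fun g hg hn => ?_)
    (key _ h3 (by decide +kernel) (by decide +kernel))
    (key _ h13 (by decide +kernel) (by decide +kernel))).trans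
    (sup_le (hO.trans_le bot_le) inf_le_right)
  · simp only [List.forall_mem_cons]
    exact ⟨mem_sup_left (mem_zpowers _), mem_sup_right (subset_closure (by simp)),
      mem_sup_right (subset_closure (by simp)), by simp⟩
  · have := card_mul_relIndex' hZ
    rw [Nat.card_zpowers, h.ord_three (h.J_le hy) (by decide +kernel) (by decide +kernel),
      h.card_im h.J_le, cards.1] at this
    omega
  · rintro k hk _ ⟨n, rfl⟩
    exact (Commute.zpow_right (mem_Cx.1 hk) n).eq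
  · obtain ⟨m, hm, rfl⟩ := h.exists_eq hn
    rw [← h.inv (h.J_le h3), ← h.inv (h.J_le h13), cj_of h hm (h.J_le h3) (h.J_le h3),
      cj_of h hm (h.J_le h13) (h.J_le h13), cj_of h hm (h.J_le h3) (inv_mem (h.J_le h3)),
      cj_of h hm (h.J_le h13) (inv_mem (h.J_le h13))]
    have := (h.comm_iff hm (h.J_le hy)).1 (mem_Cx.1 hg)
    revert m
    suffices ∀ m ∈ Rot, m * y0 = y0 * m → _ from fun m hm _ _ e => this m hm e
    decide +kernel

theorem js_of (h : JS0 Rot ι) (hz : Cx (ι z0) ≤ normalizer (img ι J0 : Set G))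
    (hy : Cx (ι y0) ≤ normalizer (img ι J0 : Set G)) : JS Rot ι := by
  refine ⟨h, fun W hW hn => le_bot_iff.1 (gen_plane h (P := J00)
    (show ∀ a ∈ J00, a ∈ J0 by decide +kernel) cards.2.2.2.2.2.2.2.2.2.2.1 hW
    (fun c hc => hn (mem_im_of ((show ∀ a ∈ J00, a ∈ J0 by decide +kernel) c hc)))
    fun c hc c1 x hx => ?_)⟩
  have hN : x ∈ normalizer (img ι J0 : Set G) := by
    obtain ⟨hc', m, hm, e | e⟩ := (by decide +kernel : ∀ c ∈ J00, c ≠ 1 → c ∈ Rot ∧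
      ∃ m ∈ Rot, m * c * m⁻¹ = z0 ∨ m * c * m⁻¹ = y0) c hc c1
    exacts [cent_conj h hm hc' (e ▸ hz) hx.2, cent_conj h hm hc' (e ▸ hy) hx.2]
  have hJ := h.cent_J fun a ha => mem_Cx.1 (comm_of_norm h hW ha (hn (mem_im_of ha)) hx.1 hN)
  exact eq_one_of_cube hW hx.1 ((Jx.J0_elem h.toEmb h.J_le).2.1 x hJ)

theorem rot_out {a : W3} (ha : a ∈ Rot) : (∃ m ∈ [1, w0, r2 * r3, w0 * (r2 * r3)], a * m⁻¹ ∈ J0) ∨
        ∃ n ∈ [1, σ0], ∃ m ∈ [1, w0, r2 * r3, r1 * r3], m * (a * (n * a * n⁻¹)) * m⁻¹ ∈ S0 ∧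
          m * (a * (n * a * n⁻¹)) * m⁻¹ ∉ J0 := by
  have e1 : ∀ a, a ∈ J0 ↔ bit 0x1 (pr a).v = true := fun _ => Iff.rfl
  have e2 : ∀ a, a ∈ S0 ↔ bit 0x10101 (pr a).v = true := fun _ => Iff.rfl
  change bit 0x969696696969 (pr a).v = true at ha
  simp only [e1, e2, map_mul, map_inv]
  generalize pr a = s at ha ⊢
  revert s
  decide +kernel

theorem rot_nine {a : W3} (ha : a ∈ Rot) (h9 : a ^ 9 = 1) : a ∈ J0 ∨ ∃ m ∈ [1, w0, r2 * r3, r1 * r3],
      m * a * m⁻¹ ∈ S0 ∧ m * a * m⁻¹ ∉ J0 := by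
  have e1 : ∀ a, a ∈ J0 ↔ bit 0x1 (pr a).v = true := fun _ => Iff.rfl
  have e2 : ∀ a, a ∈ S0 ↔ bit 0x10101 (pr a).v = true := fun _ => Iff.rfl
  change bit 0x969696696969 (pr a).v = true at ha
  replace h9 : pr a ^ 9 = 1 := by rw [← map_pow, h9, map_one]
  simp only [e1, e2, map_mul, map_inv]
  generalize pr a = s at ha h9 ⊢
  revert s
  decide +kernel

theorem rot_inv {a b : W3} (ha : a ∈ Rot) (aa : a * a = 1) (hb : b ∈ S0) (hb' : b ∉ J0)
    (e : a * b * a⁻¹ = b⁻¹) : ∃ m ∈ Rot, m * a * m⁻¹ = τ0 := by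
  refine (by decide +kernel : ∀ a ∈ Rot, a * a = 1 → a ∉ A4 → ∃ m ∈ Rot, m * a * m⁻¹ = τ0) a ha aa
    fun h4 => ?_
  replace e := congrArg pr e
  change bit 0x696969 (pr a).v = true at h4
  change bit 0x10101 (pr b).v = true at hb
  change ¬ bit 0x1 (pr b).v = true at hb'
  simp only [map_mul, map_inv] at e
  generalize pr a = s at h4 e
  generalize pr b = t at hb hb' e
  revert s t
  decide +kernel

theorem alpha (h : JS Rot ι) (hz : Cx (ι z0) ≤ normalizer (img ι J0 : Set G))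
    (he : Cx (ι e3) ≤ normalizer (img ι J0 : Set G)) (h1 : ¬ IsConj (ι σ0) (ι z0))
    (hO : opOf 3 (Cx (ι σ0)) = ⊥) : normalizer (img ι J0 : Set G) = ⊤ := by
  have h2 : ¬ IsConj (ι σ0) (ι z0⁻¹) := fun e => h1 (e.trans (h.isConj (a := i0 * t0)
    (by decide +kernel) (by decide +kernel) (by decide +kernel)))
  have hR : R0 ≤ Rot := Jx.R0_le.trans h.le
  have hσ : Cx (ι σ0) ≤ img ι R0 := by
    refine le_of_npc (npc_of_burnside (h.sylow_σ hz h1 h2) fun n hn hn' x hx => ?_)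
      (h.sylow_σ hz h1 h2) (hO.trans_le bot_le) le_rfl
    obtain ⟨m, hm, rfl⟩ := h.exists_eq (h.norm_z_le hz (h.norm_R_le h1 h2 hn'))
    obtain ⟨r, hr, rfl⟩ := (h.mem_im hR).1 hx
    exact (h.comm_iff hm (hR hr)).2 ((by decide +kernel : ∀ m ∈ Rot, m * σ0 = σ0 * m →
      ∀ r ∈ R0, m * r = r * m) m hm ((h.comm_iff hm (by decide +kernel)).1 (mem_Cx.1 hn)) r hr)
  have wR : w0 ∈ Rot := by decide +kernel
  have ww : ι w0 * ι w0 = 1 := (h.mul_eq wR wR (by decide +kernel)).trans h.one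
  obtain ⟨N, -, hn, -, hw, hNS⟩ := k3 (Z := ⊥) (u := ι w0) h.sylow (im_mono J0_le_S0) (by
      have := card_mul_relIndex' (im_mono (ι := ι) J0_le_S0)
      rw [h.card_im h.J_le, h.card_im h.le, cards.1, cards.2.1] at this
      omega)
    (fun k _ x hx hk => h.strongly_closed hz h1 h2 hx hk) bot_le
    (fun k _ z hz => by rw [mem_bot.1 hz, mul_one, one_mul]) (by simp) (mem_top _) (mem_bot.2 ww)
    fun k _ x hx hx' e => by
      obtain ⟨a, ha, aa, hc, b, b1, b2, b3⟩ := h.inverter hz h1 h2 (fun c hc cc => by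
        obtain ⟨r, hr, rfl⟩ := (h.mem_im hR).1 (hσ hc)
        rw [← h.mul (hR hr) (hR hr), h.eq_one_iff (mul_mem (hR hr) (hR hr))] at cc
        rw [(by decide +kernel : ∀ r ∈ R0, r * r = 1 → r = 1) r hr cc, h.one])
        (by rw [conj_mul, ww, mul_one, mul_inv_cancel]) hx hx' e
      obtain ⟨m, hm, e'⟩ := rot_inv ha aa b1 b2 b3
      exact not_w_τ h (((isConj_iff.2 ⟨k, rfl⟩).trans hc).trans (h.isConj hm ha e'))
  have cN : ∀ m ∈ Rot, ∀ a ∈ Rot, ι a ∈ N → ι (m * a * m⁻¹) ∈ N := fun m hm a ha H =>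
    h.conj hm ha ▸ conj_mem_of_mem_normalizer (hn (mem_top _)) H
  have out : ∀ a ∈ S0, ι a ∈ N → a ∈ J0 := fun a ha H =>
    (h.mem_im_iff h.J_le (h.le ha)).1 (hNS ⟨H, mem_im_of ha⟩)
  have hv : ι (r2 * r3) ∈ N := by
    have := cN σ0 (by decide +kernel) w0 wR hw
    rwa [show σ0 * w0 * σ0⁻¹ = r2 * r3 by decide +kernel] at this
  have hJ : img ι J0 ≤ N := im_le.2 fun c hc => h.mem_of_sp
    (gs := [w0, r2 * r3, e1 * w0 * e1⁻¹, e2 * w0 * e2⁻¹, e3 * (r2 * r3) * e3⁻¹]) (by decide +kernel)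
    (by
      simp only [List.forall_mem_cons]
      exact ⟨hw, hv, cN _ (by decide +kernel) _ wR hw, cN _ (by decide +kernel) _ wR hw,
        cN _ (by decide +kernel) _ (by decide +kernel) hv, by simp⟩) (D := 12)
    ((by decide +kernel : ∀ c ∈ J0, bit (TG.sp [w0, r2 * r3, e1 * w0 * e1⁻¹, e2 * w0 * e2⁻¹,
      e3 * (r2 * r3) * e3⁻¹] 12) c.v = true) c hc)
  have VR : ∀ m ∈ [1, w0, r2 * r3, r1 * r3], m ∈ Rot := by decide +kernel
  have hP : IsSylowIn 3 (img ι J0) N := h.sylow_J hJ fun a ha H h9 =>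
    (rot_nine ha h9).resolve_right fun ⟨m, hm, e1, e2⟩ => e2 (out _ e1 (cN m (VR m hm) a ha H))
  obtain ⟨m1, m2, m3, -⟩ := Jx.mems
  have cu : ∀ {a}, a ∈ J0 → ι a ^ 3 = 1 := fun ha => by
    rw [← h.pow (h.J_le ha), J0_cube _ ha, h.one]
  have cm : ∀ {a b}, a ∈ J0 → b ∈ J0 → ι a * ι b = ι b * ι a := fun ha hb =>
    (h.comm_iff (h.J_le ha) (h.J_le hb)).2 (J0_comm ha hb)
  have ci : ∀ {m a}, m ∈ Rot → a ∈ J0 → m * a * m⁻¹ = a⁻¹ → ι m * ι a * (ι m)⁻¹ = (ι a)⁻¹ :=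
    fun hm ha e => (h.conj_eq hm (h.J_le ha) e).trans (h.inv (h.J_le ha))
  have vR : r2 * r3 ∈ Rot := by decide +kernel
  have hN := e27 (a := ι e1) (b := ι e2) (c := ι e3) hP ((h.card_im h.J_le).trans cards.1)
    (le_antisymm (im_le.2 fun c hc => h.mem_of_sp (gs := [e1, e2, e3]) (by decide +kernel)
      (by
        simp only [List.forall_mem_cons]
        exact ⟨subset_closure (by simp), subset_closure (by simp), subset_closure (by simp),
          by simp⟩) (D := 6)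
      ((by decide +kernel : ∀ c ∈ J0, bit (TG.sp [e1, e2, e3] 6) c.v = true) c hc))
      ((closure_le _).2 (by
        rintro _ (rfl | rfl | rfl)
        exacts [mem_im_of m1, mem_im_of m2, mem_im_of m3])))
    (cu m1) (cu m2) (cu m3) (cm m1 m2) (cm m1 m3) (cm m2 m3)
    (fun x hx x1 => inf_le_right.trans (by
      obtain ⟨c, hc, rfl⟩ := (h.mem_im h.J_le).1 hx
      by_cases hE : isE c
      · obtain ⟨m, hm, e⟩ := (by decide +kernel : ∀ c, isE c → ∃ m ∈ Rot, m * c * m⁻¹ = e3) c hE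
        exact cent_conj h.toJS0 hm (h.J_le hc) (e ▸ he)
      · exact cent_of_not_E h hz hc (fun e => x1 (e ▸ h.one)) hE)) hw hv
    (ci wR m1 (by decide +kernel)) (ci wR m2 (by decide +kernel))
    (h.conj_eq wR (h.J_le m3) (by decide +kernel)) (h.conj_eq vR (h.J_le m1) (by decide +kernel))
    (ci vR m2 (by decide +kernel)) (ci vR m3 (by decide +kernel))
    (fun x hx => by
      obtain ⟨a, ha, rfl⟩ := h.exists_eq hx.2
      rcases rot_out ha with ⟨m, hm, e⟩ | ⟨n, hn', m, hm, e1, e2⟩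
      · have mR := (by decide +kernel : ∀ m ∈ [1, w0, r2 * r3, w0 * (r2 * r3)], m ∈ Rot) m hm
        rw [← inv_mul_cancel_right a m, h.mul (h.J_le e) mR]
        refine mul_mem (mem_sup_left (mem_im_of e)) (mem_sup_right ?_)
        have c1 : ι w0 ∈ closure {ι w0, ι (r2 * r3)} := subset_closure (by simp)
        have c2 : ι (r2 * r3) ∈ closure {ι w0, ι (r2 * r3)} := subset_closure (by simp)
        simp only [List.mem_cons, List.not_mem_nil, or_false] at hm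
        rcases hm with rfl | rfl | rfl | rfl
        exacts [h.one ▸ one_mem _, c1, c2, h.mul wR vR ▸ mul_mem c1 c2]
      · have nR := (by decide +kernel : ∀ n ∈ [1, σ0], n ∈ Rot) n hn'
        have aR := mul_mem (mul_mem nR ha) (inv_mem nR)
        exact absurd (out _ e1 (cN m (VR m hm) _ (mul_mem ha aR)
          (h.mul ha aR ▸ mul_mem hx.1 (cN n nR a ha hx.1)))) e2)
    ww ((h.mul_eq vR vR (by decide +kernel)).trans h.one)
    ((h.comm_iff wR vR).2 (by decide +kernel))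
  refine top_le_iff.1 fun g hg => ?_
  obtain ⟨n, hn', e⟩ := hP.frattini (hn hg)
  exact (mul_mem_cancel_left (hN hn')).1 e

end N9

end CfsgLib.Rec3
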