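import Mathlib
import Cfsg.Agent.Lib.W2.Tab

/-! Certified coset enumerations (generated by tools/cosetenum/w2tc.cpp). -/

set_option maxRecDepth 100000
set_option Elab.async false

namespace CfsgLib.Rec3

open CfsgLib.CosetEnum

/-- generators a b z s t w v; relators aaa zzz aza^-1z^-1 bab^-1z^-1a^-1 bzb^-1z^-1 sasa szsz tata^-1 tztz waw^-1z^-1 wzw^-1a bbb wws sbsb^-1 stst tbtb wtw^-1ts (bw)^3 vbv^-1z vz^-1v^-1b vvt vsv^-1st (av)^3 (wvwvw^-1v^-1b)^3 -/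
def pM_rels : List (List ℕ) := [[0, 0, 0],
  [4, 4, 4],
  [0, 4, 1, 5],
  [2, 0, 3, 5, 1],
  [2, 4, 3, 5],
  [6, 0, 6, 0],
  [6, 4, 6, 4],
  [8, 0, 8, 1],
  [8, 4, 8, 4],
  [10, 0, 11, 5],
  [10, 4, 11, 0],
  [2, 2, 2],
  [10, 10, 6],
  [6, 2, 6, 3],
  [6, 8, 6, 8],
  [8, 2, 8, 2],
  [10, 8, 11, 8, 6],
  [2, 10, 2, 10, 2, 10],
  [12, 2, 13, 4],
  [12, 5, 13, 2],
  [12, 12, 8],
  [12, 6, 13, 6, 8],
  [0, 12, 0, 12, 0, 12],
  [10, 12, 10, 12, 11, 13, 2, 10, 12, 10, 12, 11, 13, 2, 10, 12, 10, 12, 11, 13, 2]]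

def pM_1_nets_n2_0 : ℕ := (nat_lit 0x1)
def pM_1_nets_n2_1 : ℕ := (nat_lit 0x1)
def pM_1_nets_n2 : Net :=
  (Net.cons pM_1_nets_n2_0 (nat_lit 1) (Net.cons pM_1_nets_n2_1 (nat_lit 2) Net.nil))
def pM_1_nets : List Net := [Net.nil, Net.nil, pM_1_nets_n2, Net.nil, Net.nil, Net.nil, Net.nil]
def pM_1_rels : List (List ℕ) := [[4, 4, 4]]
theorem pM_1_nets_ok : allL (Net.ok 3) pM_1_nets = true := by decide +kernel
theorem pM_1_rel_s0 : relsAt pM_1_nets 3 2 (List.range' 0 2) (sqW [3, 4] ++ pM_1_rels) = true := by decide +kernel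
theorem pM_1_rel : ∀ w ∈ (sqW [3, 4] ++ pM_1_rels), ev (netGen pM_1_nets) w = 1 :=
  SlicesOk.rel (K := 2) ((SlicesOk.zero _ _ _ _).step 2 pM_1_rel_s0)
    pM_1_nets_ok (by norm_num)
theorem pM_1_model : Model 3 pM_1_nets (imOf [3, 4]) pM_1_rels := Model.of_rel pM_1_nets_ok pM_1_rel
def pM_1_t : Tr := (Tr.node (Tr.node Tr.leaf [5] 0 0 0 Tr.leaf) [4] 0 0 0 Tr.leaf)
def pM_1_m0 : ℕ := (nat_lit 0x4)
def pM_1_m1 : ℕ := (nat_lit 0x2)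
def pM_1_p0 : List ℕ := [nat_lit 0x1002001003,
  nat_lit 0x1001001001001]
noncomputable def pM_1 : CE where
  p0 := 0
  F := (Nat.sub (Nat.shiftLeft 1 3) 1)
  masks := [pM_1_m0, pM_1_m1]
  gprog := [0, 1]
  cprog := []
  sids := []
  t0 := pM_1_t
  s := 12
  progs := [pM_1_p0]
  O := (Nat.sub (Nat.shiftLeft 1 3) 1)
  yids := [0]
theorem pM_1_chk : ∃ progs, CE.check { pM_1 with progs := progs } pM_1_nets (imOf [3, 4]) pM_1_rels [] [[4]] = true :=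
  ⟨pM_1.progs, by decide +kernel⟩
theorem pM_1_idx {Γ : Type*} [Group Γ] {g : ℕ → Γ} (hi : InvOk g (imOf [3, 4])) (hr : ∀ r ∈ pM_1_rels, ev g r = 1)
    {H : Subgroup Γ} (hs : ∀ u ∈ ([] : List (List ℕ)), ev g u ∈ H) :
    H.relIndex (gen g [[4]]) ≠ 0 ∧ H.relIndex (gen g [[4]]) ≤ 3 :=
  Reach.relIndex_le pM_1_model hi hr hs pM_1_chk (by decide +kernel)

def pM_2_nets_n0_0 : ℕ := (nat_lit 0x1)
def pM_2_nets_n0_1 : ℕ := (nat_lit 0x1)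
def pM_2_nets_n0 : Net :=
  (Net.cons pM_2_nets_n0_0 (nat_lit 1) (Net.cons pM_2_nets_n0_1 (nat_lit 2) Net.nil))
def pM_2_nets : List Net := [pM_2_nets_n0, Net.nil, Net.nil, Net.nil, Net.nil, Net.nil, Net.nil]
def pM_2_rels : List (List ℕ) := [[0, 0, 0],
  [4, 4, 4],
  [0, 4, 1, 5]]
theorem pM_2_nets_ok : allL (Net.ok 3) pM_2_nets = true := by decide +kernel
theorem pM_2_rel_s0 : relsAt pM_2_nets 3 2 (List.range' 0 2) (sqW [3, 4] ++ pM_2_rels) = true := by decide +kernel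
theorem pM_2_rel : ∀ w ∈ (sqW [3, 4] ++ pM_2_rels), ev (netGen pM_2_nets) w = 1 :=
  SlicesOk.rel (K := 2) ((SlicesOk.zero _ _ _ _).step 2 pM_2_rel_s0)
    pM_2_nets_ok (by norm_num)
theorem pM_2_model : Model 3 pM_2_nets (imOf [3, 4]) pM_2_rels := Model.of_rel pM_2_nets_ok pM_2_rel
def pM_2_t : Tr := (Tr.node (Tr.node (Tr.node Tr.leaf [5] 0 0 0 Tr.leaf) [4] 0 0 0 Tr.leaf) [0] 0 0 0 (Tr.node Tr.leaf [1] 0 0 0 Tr.leaf))
def pM_2_m0 : ℕ := (nat_lit 0x4)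
def pM_2_m1 : ℕ := (nat_lit 0)
def pM_2_m2 : ℕ := (nat_lit 0x2)
def pM_2_m3 : ℕ := (nat_lit 0)
def pM_2_p0 : List ℕ := [nat_lit 0x1004001005,
  nat_lit 0x1001001001001,
  nat_lit 0x1004005003003002,
  nat_lit 0x2004008003003001]
noncomputable def pM_2 : CE where
  p0 := 0
  F := (Nat.sub (Nat.shiftLeft 1 3) 1)
  masks := [pM_2_m0, pM_2_m1, pM_2_m2, pM_2_m3]
  gprog := [0, 2]
  cprog := []
  sids := [1]
  t0 := pM_2_t
  s := 12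
  progs := [pM_2_p0]
  O := (Nat.sub (Nat.shiftLeft 1 3) 1)
  yids := [0, 1]
theorem pM_2_chk : ∃ progs, CE.check { pM_2 with progs := progs } pM_2_nets (imOf [3, 4]) pM_2_rels [[4]] [[0], [4]] = true :=
  ⟨pM_2.progs, by decide +kernel⟩
theorem pM_2_idx {Γ : Type*} [Group Γ] {g : ℕ → Γ} (hi : InvOk g (imOf [3, 4])) (hr : ∀ r ∈ pM_2_rels, ev g r = 1)
    {H : Subgroup Γ} (hs : ∀ u ∈ ([[4]] : List (List ℕ)), ev g u ∈ H) :
    H.relIndex (gen g [[0], [4]]) ≠ 0 ∧ H.relIndex (gen g [[0], [4]]) ≤ 3 :=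
  Reach.relIndex_le pM_2_model hi hr hs pM_2_chk (by decide +kernel)

def pM_3_nets_n1_0 : ℕ := (nat_lit 0x30330000000)
def pM_3_nets_n1_1 : ℕ := (nat_lit 0x3300030000)
def pM_3_nets_n1_2 : ℕ := (nat_lit 0x300f)
def pM_3_nets_n1_3 : ℕ := (nat_lit 0xfccf)
def pM_3_nets_n1_4 : ℕ := (nat_lit 0xf333)
def pM_3_nets_n1_5 : ℕ := (nat_lit 0xc00cf00f3)
def pM_3_nets_n1_6 : ℕ := (nat_lit 0x303003000000)
def pM_3_nets_n3_0 : ℕ := (nat_lit 0x555555555555)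
def pM_3_nets_n4_0 : ℕ := (nat_lit 0xf0f0f0f0f0f)
def pM_3_nets_n4_1 : ℕ := (nat_lit 0x555555444444)
def pM_3_nets_n5_0 : ℕ := (nat_lit 0x333333333333)
def pM_3_nets_n5_1 : ℕ := (nat_lit 0x414114111111)
def pM_3_nets_n1 : Net :=
  (Net.cons pM_3_nets_n1_0 (nat_lit 2) (Net.cons pM_3_nets_n1_1 (nat_lit 8) (Net.cons pM_3_nets_n1_2 (nat_lit 16) (Net.cons pM_3_nets_n1_3 (nat_lit 32) (Net.cons pM_3_nets_n1_4 (nat_lit 16) (Net.cons pM_3_nets_n1_5 (nat_lit 8) (Net.cons pM_3_nets_n1_6 (nat_lit 2) Net.nil)))))))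
def pM_3_nets_n3 : Net :=
  (Net.cons pM_3_nets_n3_0 (nat_lit 1) Net.nil)
def pM_3_nets_n4 : Net :=
  (Net.cons pM_3_nets_n4_0 (nat_lit 4) (Net.cons pM_3_nets_n4_1 (nat_lit 1) Net.nil))
def pM_3_nets_n5 : Net :=
  (Net.cons pM_3_nets_n5_0 (nat_lit 2) (Net.cons pM_3_nets_n5_1 (nat_lit 1) Net.nil))
def pM_3_nets : List Net := [Net.nil, pM_3_nets_n1, Net.nil, pM_3_nets_n3, pM_3_nets_n4, pM_3_nets_n5, Net.nil]
def pM_3_rels : List (List ℕ) := [[0, 0, 0],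
  [4, 4, 4],
  [0, 4, 1, 5],
  [2, 0, 3, 5, 1],
  [2, 4, 3, 5],
  [6, 0, 6, 0],
  [6, 4, 6, 4],
  [8, 0, 8, 1],
  [8, 4, 8, 4],
  [10, 0, 11, 5],
  [10, 4, 11, 0],
  [2, 2, 2],
  [10, 10, 6],
  [6, 2, 6, 3],
  [6, 8, 6, 8],
  [8, 2, 8, 2],
  [10, 8, 11, 8, 6],
  [2, 10, 2, 10, 2, 10]]
theorem pM_3_nets_ok : allL (Net.ok 48) pM_3_nets = true := by decide +kernel
theorem pM_3_rel_s0 : relsAt pM_3_nets 48 6 (List.range' 0 6) (sqW [3, 4] ++ pM_3_rels) = true := by decide +kernel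
theorem pM_3_rel : ∀ w ∈ (sqW [3, 4] ++ pM_3_rels), ev (netGen pM_3_nets) w = 1 :=
  SlicesOk.rel (K := 6) ((SlicesOk.zero _ _ _ _).step 6 pM_3_rel_s0)
    pM_3_nets_ok (by norm_num)
theorem pM_3_model : Model 48 pM_3_nets (imOf [3, 4]) pM_3_rels := Model.of_rel pM_3_nets_ok pM_3_rel
def pM_3_t : Tr := (Tr.node (Tr.node (Tr.node (Tr.node Tr.leaf [3] 0 0 0 Tr.leaf) [6] 0 0 0 Tr.leaf) [2] 0 0 0 (Tr.node (Tr.node Tr.leaf [11] 0 0 0 Tr.leaf) [10] 0 0 0 Tr.leaf)) [0] 0 0 0 (Tr.node (Tr.node (Tr.node Tr.leaf [5] 0 0 0 Tr.leaf) [8] 0 0 0 Tr.leaf) [4] 0 0 0 (Tr.node Tr.leaf [1] 0 0 0 Tr.leaf)))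
def pM_3_m0 : ℕ := (nat_lit 0)
def pM_3_m1 : ℕ := (nat_lit 0xc3c33c010000)
def pM_3_m2 : ℕ := (nat_lit 0)
def pM_3_m3 : ℕ := (nat_lit 0x20202)
def pM_3_m4 : ℕ := (nat_lit 0x303030)
def pM_3_m5 : ℕ := (nat_lit 0x888888)
def pM_3_m6 : ℕ := (nat_lit 0)
def pM_3_m7 : ℕ := (nat_lit 0x3c3cc3000100)
def pM_3_m8 : ℕ := (nat_lit 0)
def pM_3_m9 : ℕ := (nat_lit 0x444444)
def pM_3_p0 : List ℕ := [nat_lit 0x101300300f,
  nat_lit 0x1013007007,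
  nat_lit 0x1013009009,
  nat_lit 0x101300b013,
  nat_lit 0xc00600d00700c,
  nat_lit 0x1013007007,
  nat_lit 0x300100c003003,
  nat_lit 0x900700200f00700a,
  nat_lit 0xb00500d00b008,
  nat_lit 0x700300d00b00b,
  nat_lit 0xb00900700401100900c,
  nat_lit 0x300700600e007004,
  nat_lit 0x400700200e007003,
  nat_lit 0x700400500e003008,
  nat_lit 0x900300101000300a,
  nat_lit 0x400a002010009004,
  nat_lit 0x1013009009,
  nat_lit 0x400c00400c00401200c004,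
  nat_lit 0xb00500d00b008,
  nat_lit 0x7001001006001008,
  nat_lit 0x7005001007005008,
  nat_lit 0x900200500800100a,
  nat_lit 0x900500100900500a,
  nat_lit 0xb00600500a00100c,
  nat_lit 0xb00100500b00500c,
  nat_lit 0x3006005005005004,
  nat_lit 0x3002006005004001004,
  nat_lit 0x4006008005005003,
  nat_lit 0xb00600500a00100c,
  nat_lit 0x900200500800100a,
  nat_lit 0xb00100500b00500c,
  nat_lit 0x3002006005004001004,
  nat_lit 0xb00100500b00500c]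
noncomputable def pM_3 : CE where
  p0 := 0
  F := (Nat.sub (Nat.shiftLeft 1 48) 1)
  masks := [pM_3_m0, pM_3_m1, pM_3_m2, pM_3_m3, pM_3_m4, pM_3_m5, pM_3_m6, pM_3_m7, pM_3_m8, pM_3_m9]
  gprog := [1, 3, 4, 5, 7, 9, 1, 3, 4, 5, 7, 9, 1, 7]
  cprog := []
  sids := [0, 2]
  t0 := pM_3_t
  s := 12
  progs := [pM_3_p0]
  O := (Nat.sub (Nat.shiftLeft 1 48) 1)
  yids := [0, 1, 2, 3, 4, 5]
theorem pM_3_chk : ∃ progs, CE.check { pM_3 with progs := progs } pM_3_nets (imOf [3, 4]) pM_3_rels [[0], [4]] [[0], [2], [4], [6], [8], [10]] = true :=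
  ⟨pM_3.progs, by decide +kernel⟩
theorem pM_3_idx {Γ : Type*} [Group Γ] {g : ℕ → Γ} (hi : InvOk g (imOf [3, 4])) (hr : ∀ r ∈ pM_3_rels, ev g r = 1)
    {H : Subgroup Γ} (hs : ∀ u ∈ ([[0], [4]] : List (List ℕ)), ev g u ∈ H) :
    H.relIndex (gen g [[0], [2], [4], [6], [8], [10]]) ≠ 0 ∧ H.relIndex (gen g [[0], [2], [4], [6], [8], [10]]) ≤ 48 :=
  Reach.relIndex_le pM_3_model hi hr hs pM_3_chk (by decide +kernel)

def pM_4_nets_n0_0 : ℕ := (nat_lit 0x10000000000000000a0a88222)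
def pM_4_nets_n0_1 : ℕ := (nat_lit 0x33330030000000000023100110313332202020101102206620002)
def pM_4_nets_n0_2 : ℕ := (nat_lit 0xc0300000c030000000060c09080000000f0a0905060000e0608020)
def pM_4_nets_n0_3 : ℕ := (nat_lit 0xc30000000300f000e00c200130009000500b400000001e00080)
def pM_4_nets_n0_4 : ℕ := (nat_lit 0xc0000000c300000000a10000095c2000005a200000a3560)
def pM_4_nets_n0_5 : ℕ := (nat_lit 0x33f333c000000000342000000009986000000000000e0)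
def pM_4_nets_n0_6 : ℕ := (nat_lit 0xf30000000000000000cd1b9d673a20000000000)
def pM_4_nets_n0_7 : ℕ := (nat_lit 0xf00000000053c00000000f52cf1720000000000)
def pM_4_nets_n0_8 : ℕ := (nat_lit 0xffc30000c03f00000009671000004c000000e1d00000000a0)
def pM_4_nets_n0_9 : ℕ := (nat_lit 0xf3000c00cf003f003001b006300f9006a001000f200008009e0)
def pM_4_nets_n0_10 : ℕ := (nat_lit 0x3030c030f030c030c00d0a0e0d0f07070400090c0c000100016160)
def pM_4_nets_n0_11 : ℕ := (nat_lit 0x3300003300000000001300202323232300012100123222040066000)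
def pM_4_nets_n0_12 : ℕ := (nat_lit 0x40001000001045444110000404000040040040a02028820)
def pM_4_nets_n1_0 : ℕ := (nat_lit 0x440000000000001140114444000000444500100405500100400)
def pM_4_nets_n1_1 : ℕ := (nat_lit 0x330000330000000000048840c4048080480048080001008c8000100)
def pM_4_nets_n1_2 : ℕ := (nat_lit 0xb0607020040200050280800804000800004000405000300405000)
def pM_4_nets_n1_3 : ℕ := (nat_lit 0x5000a0008500020013800360001400318001c000f002d8000f0)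
def pM_4_nets_n1_4 : ℕ := (nat_lit 0xd3e500000d32d0000c000023d6800001963800030000c00030)
def pM_4_nets_n1_5 : ℕ := (nat_lit 0xf00000000f0000000000003c00000003c00000000000000)
def pM_4_nets_n1_6 : ℕ := (nat_lit 0xa00000000e0000000000001400000003400000000000000)
def pM_4_nets_n1_7 : ℕ := (nat_lit 0xba00750007a003d000040004c02f8000f8007800030000400030)
def pM_4_nets_n1_8 : ℕ := (nat_lit 0x7090b0100c09000a0243000804000800400000c0a030303c0a030)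
def pM_4_nets_n1_9 : ℕ := (nat_lit 0x33000033000000000008c08c44048c0000484808000100840800100)
def pM_4_nets_n1_10 : ℕ := (nat_lit 0x440000000000001104114015000000440010100105140100100)
def pM_4_nets_n2_0 : ℕ := (nat_lit 0x44000000000000001400040005400001100040040000010040000)
def pM_4_nets_n2_1 : ℕ := (nat_lit 0x3300003300000000000048084084808000484840000000800c00000)
def pM_4_nets_n2_2 : ℕ := (nat_lit 0x8020401002080006004000000c000000000080005030000805030)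
def pM_4_nets_n2_3 : ℕ := (nat_lit 0xc900060001600080024c0031400180002c000400e1000e400e10)
def pM_4_nets_n2_4 : ℕ := (nat_lit 0x9f69000007c870000c00000bf6400002633800030000c00030)
def pM_4_nets_n2_5 : ℕ := (nat_lit 0xf00000000f0000000000003c00000003c00000000000000)
def pM_4_nets_n2_6 : ℕ := (nat_lit 0x600000000b0000000000000c00000001c00000000000000)
def pM_4_nets_n2_7 : ℕ := (nat_lit 0x3e00fd000e900c70000c0017801f4001d4023c00020000800020)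
def pM_4_nets_n2_8 : ℕ := (nat_lit 0x405080a003050009038080000804040000008040b010041c0b010)
def pM_4_nets_n2_9 : ℕ := (nat_lit 0x33000033000000000004084c4084848048004840000010400c00010)
def pM_4_nets_n2_10 : ℕ := (nat_lit 0x44000000000000001411041101000001111004041040100041040)
def pM_4_nets_n3_0 : ℕ := (nat_lit 0x440040000400000000000000000001040000401044)
def pM_4_nets_n3_1 : ℕ := (nat_lit 0x3003300000000000003300000000000c00000000c00003003000000)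
def pM_4_nets_n3_2 : ℕ := (nat_lit 0xf000f0f0f0f000f0000f03c3c3c3c03c3c3c3c03c0000f003c000)
def pM_4_nets_n3_3 : ℕ := (nat_lit 0x444444004405500001104510111111110044000110044000)
def pM_4_nets_n4_0 : ℕ := (nat_lit 0x5555555555555555555555155555554155555554155545555155540)
def pM_4_nets_n5_0 : ℕ := (nat_lit 0x228a8aa2a280020000028220000a888a028028820202a22820aa00)
def pM_4_nets_n5_1 : ℕ := (nat_lit 0x1040004022202422040640424242202666046242624602242000200)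
def pM_4_nets_n5_2 : ℕ := (nat_lit 0x410041a1018060010001a1a1c0218141e0a121a14080814160200)
def pM_4_nets_n5_3 : ℕ := (nat_lit 0x1b400dc01b000da013600100080000600360000013000480000)
def pM_4_nets_n5_4 : ℕ := (nat_lit 0xc20000c5200000ad04000003f40001a96c000063640000e100)
def pM_4_nets_n5_5 : ℕ := (nat_lit 0xc2f14dac00000001c01c250000000000004b16ae)
def pM_4_nets_n5_6 : ℕ := (nat_lit 0x8081400000000000000001f09781600a000000)
def pM_4_nets_n5_7 : ℕ := (nat_lit 0xa87afff9ffa5618b7fb1ae)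
def pM_4_nets_n5_8 : ℕ := (nat_lit 0xcbfc6e0000000000000000b943a4201b3c328e)
def pM_4_nets_n5_9 : ℕ := (nat_lit 0x86ef4fb4000000006144070000000001f6bd978e)
def pM_4_nets_n5_10 : ℕ := (nat_lit 0x6400010dc000005c82000183b40001914c000100820001a420)
def pM_4_nets_n5_11 : ℕ := (nat_lit 0xfc01b400f8006e00de01cc0124011a01d2001000d2018a0020)
def pM_4_nets_n5_12 : ℕ := (nat_lit 0x8141a10120a181c14040e001216160a0202080e0c08041c12020c)
def pM_4_nets_n5_13 : ℕ := (nat_lit 0x224602024064466622462424600040062424424446202260222406)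
def pM_4_nets_n5_14 : ℕ := (nat_lit 0x5202a088282282a82220aa00288a008002aa0a8a22282aa202a000a)
def pM_4_nets_n6_0 : ℕ := (nat_lit 0x400000001400000001400010000400015)
def pM_4_nets_n6_1 : ℕ := (nat_lit 0x33333333333333333333330cccccccc0cccccccc0cccc33330cccc0)
def pM_4_nets_n6_2 : ℕ := (nat_lit 0x1144441111111111111441104451044044444444044441444044440)
def pM_4_nets_n0 : Net :=
  (Net.cons pM_4_nets_n0_0 (nat_lit 1) (Net.cons pM_4_nets_n0_1 (nat_lit 2) (Net.cons pM_4_nets_n0_2 (nat_lit 4) (Net.cons pM_4_nets_n0_3 (nat_lit 8) (Net.cons pM_4_nets_n0_4 (nat_lit 16) (Net.cons pM_4_nets_n0_5 (nat_lit 32) (Net.cons pM_4_nets_n0_6 (nat_lit 64) (Net.cons pM_4_nets_n0_7 (nat_lit 32) (Net.cons pM_4_nets_n0_8 (nat_lit 16) (Net.cons pM_4_nets_n0_9 (nat_lit 8) (Net.cons pM_4_nets_n0_10 (nat_lit 4) (Net.cons pM_4_nets_n0_11 (nat_lit 2) (Net.cons pM_4_nets_n0_12 (nat_lit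 1) Net.nil)))))))))))))
def pM_4_nets_n1 : Net :=
  (Net.cons pM_4_nets_n1_0 (nat_lit 1) (Net.cons pM_4_nets_n1_1 (nat_lit 2) (Net.cons pM_4_nets_n1_2 (nat_lit 4) (Net.cons pM_4_nets_n1_3 (nat_lit 8) (Net.cons pM_4_nets_n1_4 (nat_lit 16) (Net.cons pM_4_nets_n1_5 (nat_lit 32) (Net.cons pM_4_nets_n1_6 (nat_lit 16) (Net.cons pM_4_nets_n1_7 (nat_lit 8) (Net.cons pM_4_nets_n1_8 (nat_lit 4) (Net.cons pM_4_nets_n1_9 (nat_lit 2) (Net.cons pM_4_nets_n1_10 (nat_lit 1) Net.nil)))))))))))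
def pM_4_nets_n2 : Net :=
  (Net.cons pM_4_nets_n2_0 (nat_lit 1) (Net.cons pM_4_nets_n2_1 (nat_lit 2) (Net.cons pM_4_nets_n2_2 (nat_lit 4) (Net.cons pM_4_nets_n2_3 (nat_lit 8) (Net.cons pM_4_nets_n2_4 (nat_lit 16) (Net.cons pM_4_nets_n2_5 (nat_lit 32) (Net.cons pM_4_nets_n2_6 (nat_lit 16) (Net.cons pM_4_nets_n2_7 (nat_lit 8) (Net.cons pM_4_nets_n2_8 (nat_lit 4) (Net.cons pM_4_nets_n2_9 (nat_lit 2) (Net.cons pM_4_nets_n2_10 (nat_lit 1) Net.nil)))))))))))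
def pM_4_nets_n3 : Net :=
  (Net.cons pM_4_nets_n3_0 (nat_lit 1) (Net.cons pM_4_nets_n3_1 (nat_lit 2) (Net.cons pM_4_nets_n3_2 (nat_lit 4) (Net.cons pM_4_nets_n3_3 (nat_lit 1) Net.nil))))
def pM_4_nets_n4 : Net :=
  (Net.cons pM_4_nets_n4_0 (nat_lit 1) Net.nil)
def pM_4_nets_n5 : Net :=
  (Net.cons pM_4_nets_n5_0 (nat_lit 1) (Net.cons pM_4_nets_n5_1 (nat_lit 2) (Net.cons pM_4_nets_n5_2 (nat_lit 4) (Net.cons pM_4_nets_n5_3 (nat_lit 8) (Net.cons pM_4_nets_n5_4 (nat_lit 16) (Net.cons pM_4_nets_n5_5 (nat_lit 32) (Net.cons pM_4_nets_n5_6 (nat_lit 64) (Net.cons pM_4_nets_n5_7 (nat_lit 128) (Net.cons pM_4_nets_n5_8 (nat_lit 64) (Net.cons pM_4_nets_n5_9 (nat_lit 32) (Net.cons pM_4_nets_n5_10 (nat_lit 16) (Net.cons pM_4_nets_n5_11 (nat_lit 8) (Net.cons pM_4_nets_n5_12 (nat_lit 4) (Net.cons pM_4_nets_n5_13 (nat_lit 2) (Net.cons pM_4_nets_n5_14 (nat_lit 1) Net.nil)))))))))))))))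
def pM_4_nets_n6 : Net :=
  (Net.cons pM_4_nets_n6_0 (nat_lit 1) (Net.cons pM_4_nets_n6_1 (nat_lit 2) (Net.cons pM_4_nets_n6_2 (nat_lit 1) Net.nil)))
def pM_4_nets : List Net := [pM_4_nets_n0, pM_4_nets_n1, pM_4_nets_n2, pM_4_nets_n3, pM_4_nets_n4, pM_4_nets_n5, pM_4_nets_n6]
def pM_4_rels : List (List ℕ) := [[0, 0, 0],
  [4, 4, 4],
  [0, 4, 1, 5],
  [2, 0, 3, 5, 1],
  [2, 4, 3, 5],
  [6, 0, 6, 0],
  [6, 4, 6, 4],
  [8, 0, 8, 1],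
  [8, 4, 8, 4],
  [10, 0, 11, 5],
  [10, 4, 11, 0],
  [2, 2, 2],
  [10, 10, 6],
  [6, 2, 6, 3],
  [6, 8, 6, 8],
  [8, 2, 8, 2],
  [10, 8, 11, 8, 6],
  [2, 10, 2, 10, 2, 10],
  [12, 2, 13, 4],
  [12, 5, 13, 2],
  [12, 12, 8],
  [12, 6, 13, 6, 8],
  [0, 12, 0, 12, 0, 12],
  [10, 12, 10, 12, 11, 13, 2, 10, 12, 10, 12, 11, 13, 2, 10, 12, 10, 12, 11, 13, 2]]
theorem pM_4_nets_ok : allL (Net.ok 220) pM_4_nets = true := by decide +kernel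
theorem pM_4_rel_s0 : relsAt pM_4_nets 220 8 (List.range' 0 8) (sqW [3, 4] ++ pM_4_rels) = true := by decide +kernel
theorem pM_4_rel : ∀ w ∈ (sqW [3, 4] ++ pM_4_rels), ev (netGen pM_4_nets) w = 1 :=
  SlicesOk.rel (K := 8) ((SlicesOk.zero _ _ _ _).step 8 pM_4_rel_s0)
    pM_4_nets_ok (by norm_num)
theorem pM_4_model : Model 220 pM_4_nets (imOf [3, 4]) pM_4_rels := Model.of_rel pM_4_nets_ok pM_4_rel
def pM_4_t_31 : Tr := (Tr.node (Tr.node (Tr.node (Tr.node (Tr.node (Tr.node Tr.leaf [12] 346 340 0 Tr.leaf) [3] 92 14 0 Tr.leaf) [4] 70 31 0 (Tr.node Tr.leaf [8] 229 228 0 Tr.leaf)) [3] 13 13 0 (Tr.node (Tr.node (Tr.node Tr.leaf [11] 226 322 0 Tr.leaf) [3] 159 99 0 Tr.leaf) [0] 3 22 0 (Tr.node Tr.leaf [11] 191 289 0 Tr.leaf))) [6] 15 14 0 (Tr.node (Tr.node (Tr.node (Tr.node Tr.leaf [] 82 5 0 Tr.leaf) [10] 50 127 0 Tr.leaf) [13] 244 331 0 (Tr.node Tr.leaf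 [4] 256 163 0 Tr.leaf)) [5] 2 2 0 (Tr.node (Tr.node Tr.leaf [8] 194 191 0 Tr.leaf) [0] 16 60 0 (Tr.node Tr.leaf [13] 220 317 0 Tr.leaf)))) [3] 2 18 0 (Tr.node (Tr.node (Tr.node (Tr.node (Tr.node Tr.leaf [] 345 208 0 Tr.leaf) [0] 110 89 0 Tr.leaf) [8] 154 153 0 (Tr.node Tr.leaf [4] 240 132 0 Tr.leaf)) [10] 33 88 0 (Tr.node (Tr.node Tr.leaf [11] 175 93 0 Tr.leaf) [8] 33 34 0 (Tr.node Tr.leaf [0] 206 304 0 Tr.leaf))) [12] 11 47 0 (Tr.node (Tr.node (Tr.node (Tr.node Tr.leaf [12] 1 18 0 Tr.leaf) [1] 144 55 0 Tr.leaf) [0] 6 0 0 (Tr.node Tr.leaf [6] 273 272 0 Tr.leaf)) [11] 3 39 0 (Tr.node (Tr.node Tr.leaf [12] 214 111 0 Tr.leaf) [8] 70 69 0 (Tr.node Tr.leaf [13] 247 334 0 Tr.leaf)))))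
def pM_4_t_47 : Tr := (Tr.node (Tr.node (Tr.node (Tr.node (Tr.node (Tr.node Tr.leaf [0] 352 326 0 Tr.leaf) [3] 40 105 0 Tr.leaf) [5] 73 85 0 (Tr.node Tr.leaf [11] 141 236 0 Tr.leaf)) [0] 14 53 0 (Tr.node (Tr.node Tr.leaf [3] 71 168 0 Tr.leaf) [0] 3 25 0 (Tr.node Tr.leaf [11] 200 296 0 Tr.leaf))) [11] 55 138 0 (Tr.node (Tr.node (Tr.node (Tr.node Tr.leaf [5] 11 4 0 Tr.leaf) [4] 136 64 0 Tr.leaf) [2] 1 0 0 (Tr.node Tr.leaf [12] 265 258 0 Tr.leaf)) [3] 14 13 0 (Tr.node (Tr.node Tr.leaf [8] 207 206 0 Tr.leaf) [12] 53 65 0 (Tr.node Tr.leaf [8] 326 325 0 Tr.leaf)))) [] 2 0 0 (Tr.node (Tr.node (Tr.node (Tr.node (Tr.node Tr.leaf [12] 324 298 0 Tr.leaf) [8] 119 118 0 Tr.leaf) [12] 73 210 0 (Tr.node Tr.leaf [6] 249 247 0 Tr.leaf)) [11] 106 199 0 (Tr.node (Tr.node Tr.leaf [0] 185 80 0 Tr.leaf) [8] 46 26 0 (Tr.node Tr.leaf [0] 212 310 0 Tr.leaf))) [6] 1 1 0 (Tr.node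 (Tr.node (Tr.node (Tr.node Tr.leaf [3] 58 363 0 Tr.leaf) [11] 154 149 0 Tr.leaf) [5] 14 4 0 (Tr.node Tr.leaf [13] 185 282 0 Tr.leaf)) [3] 55 48 0 (Tr.node (Tr.node Tr.leaf [11] 218 145 0 Tr.leaf) [4] 70 38 0 (Tr.node Tr.leaf [3] 339 306 0 Tr.leaf)))))
def pM_4_t_39 : Tr := (Tr.node (Tr.node (Tr.node (Tr.node (Tr.node (Tr.node Tr.leaf [10] 320 348 0 Tr.leaf) [5] 97 72 0 Tr.leaf) [10] 89 45 0 (Tr.node Tr.leaf [12] 232 140 0 Tr.leaf)) [0] 24 9 0 (Tr.node (Tr.node Tr.leaf [2] 85 164 0 Tr.leaf) [8] 26 26 0 (Tr.node Tr.leaf [1] 292 199 0 Tr.leaf))) [13] 12 56 0 (Tr.node (Tr.node (Tr.node (Tr.node Tr.leaf [] 55 0 0 Tr.leaf) [3] 60 135 0 Tr.leaf) [11] 7 357 0 (Tr.node Tr.leaf [12] 167 262 0 Tr.leaf)) [3] 9 6 0 (Tr.node (Tr.node Tr.leaf [5] 198 106 0 Tr.leaf) [12] 62 11 0 (Tr.node Tr.leaf [10] 227 323 0 Tr.leaf)))) [12] 6 0 0 (Tr.node (Tr.node (Tr.node (Tr.node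 (Tr.node Tr.leaf [] 325 301 0 Tr.leaf) [12] 51 116 0 Tr.leaf) [6] 181 180 0 (Tr.node Tr.leaf [3] 140 246 0 Tr.leaf)) [4] 123 54 0 (Tr.node (Tr.node Tr.leaf [8] 182 181 0 Tr.leaf) [2] 7 44 0 (Tr.node Tr.leaf [1] 150 307 0 Tr.leaf))) [11] 34 90 0 (Tr.node (Tr.node (Tr.node (Tr.node Tr.leaf [8] 362 41 0 Tr.leaf) [13] 147 123 0 Tr.leaf) [3] 6 10 0 (Tr.node Tr.leaf [12] 278 183 0 Tr.leaf)) [5] 47 13 0 (Tr.node (Tr.node Tr.leaf [13] 121 216 0 Tr.leaf) [3] 54 79 0 (Tr.node Tr.leaf [12] 250 337 0 Tr.leaf)))))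
def pM_4_t_55 : Tr := (Tr.node (Tr.node (Tr.node (Tr.node (Tr.node (Tr.node Tr.leaf [11] 355 350 0 Tr.leaf) [1] 76 97 0 Tr.leaf) [0] 131 56 0 (Tr.node Tr.leaf [11] 238 142 0 Tr.leaf)) [1] 15 64 0 (Tr.node (Tr.node Tr.leaf [3] 86 172 0 Tr.leaf) [5] 35 1 0 (Tr.node Tr.leaf [6] 300 298 0 Tr.leaf))) [13] 14 2 0 (Tr.node (Tr.node (Tr.node (Tr.node Tr.leaf [6] 358 21 0 Tr.leaf) [0] 56 141 0 Tr.leaf) [2] 1 2 0 (Tr.node Tr.leaf [8] 269 268 0 Tr.leaf)) [13] 7 32 0 (Tr.node (Tr.node Tr.leaf [4] 200 109 0 Tr.leaf) [5] 66 23 0 (Tr.node Tr.leaf [10] 242 329 0 Tr.leaf)))) [2] 27 77 0 (Tr.node (Tr.node (Tr.node (Tr.node (Tr.node Tr.leaf [] 293 0 0 Tr.leaf) [3] 53 114 0 Tr.leaf) [0] 130 249 0 (Tr.node Tr.leaf [6] 252 251 0 Tr.leaf)) [0] 142 238 0 (Tr.node (Tr.node Tr.leaf [0] 100 190 0 Tr.leaf) [10] 51 15 0 (Tr.node Tr.leaf [2] 312 276 0 Tr.leaf))) [12] 10 0 0 (Tr.node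 (Tr.node (Tr.node (Tr.node Tr.leaf [0] 77 152 0 Tr.leaf) [3] 52 156 0 Tr.leaf) [10] 12 11 0 (Tr.node Tr.leaf [5] 285 254 0 Tr.leaf)) [4] 76 28 0 (Tr.node (Tr.node Tr.leaf [4] 223 138 0 Tr.leaf) [10] 29 86 0 (Tr.node Tr.leaf [11] 259 343 0 Tr.leaf)))))
def pM_4_t_35 : Tr := (Tr.node (Tr.node (Tr.node (Tr.node (Tr.node (Tr.node Tr.leaf [0] 347 266 0 Tr.leaf) [6] 95 91 0 Tr.leaf) [8] 86 72 0 (Tr.node Tr.leaf [11] 131 231 0 Tr.leaf)) [1] 18 12 0 (Tr.node (Tr.node Tr.leaf [0] 161 113 0 Tr.leaf) [2] 22 2 0 (Tr.node Tr.leaf [11] 194 291 0 Tr.leaf))) [12] 8 25 0 (Tr.node (Tr.node (Tr.node (Tr.node Tr.leaf [] 312 0 0 Tr.leaf) [8] 131 126 0 Tr.leaf) [4] 337 320 0 (Tr.node Tr.leaf [13] 165 260 0 Tr.leaf)) [11] 7 0 0 (Tr.node (Tr.node Tr.leaf [6] 196 194 0 Tr.leaf) [8] 54 51 0 (Tr.node Tr.leaf [6] 319 318 0 Tr.leaf)))) [2] 28 80 0 (Tr.node (Tr.node (Tr.node (Tr.node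 (Tr.node Tr.leaf [] 347 259 0 Tr.leaf) [11] 82 104 0 Tr.leaf) [13] 89 177 0 (Tr.node Tr.leaf [6] 243 242 0 Tr.leaf)) [13] 27 109 0 (Tr.node (Tr.node Tr.leaf [3] 178 84 0 Tr.leaf) [8] 37 38 0 (Tr.node Tr.leaf [2] 305 257 0 Tr.leaf))) [10] 24 69 0 (Tr.node (Tr.node (Tr.node (Tr.node Tr.leaf [12] 12 359 0 Tr.leaf) [3] 73 146 0 Tr.leaf) [12] 4 0 0 (Tr.node Tr.leaf [1] 179 277 0 Tr.leaf)) [10] 4 42 0 (Tr.node (Tr.node Tr.leaf [10] 215 117 0 Tr.leaf) [10] 23 75 0 (Tr.node Tr.leaf [1] 272 335 0 Tr.leaf)))))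
def pM_4_t_51 : Tr := (Tr.node (Tr.node (Tr.node (Tr.node (Tr.node (Tr.node Tr.leaf [11] 354 276 0 Tr.leaf) [8] 88 90 0 Tr.leaf) [11] 116 48 0 (Tr.node Tr.leaf [11] 227 143 0 Tr.leaf)) [8] 58 51 0 (Tr.node (Tr.node Tr.leaf [2] 72 170 0 Tr.leaf) [1] 6 32 0 (Tr.node Tr.leaf [3] 298 297 0 Tr.leaf))) [8] 3 4 0 (Tr.node (Tr.node (Tr.node (Tr.node Tr.leaf [5] 360 21 0 Tr.leaf) [8] 139 138 0 Tr.leaf) [10] 8 0 0 (Tr.node Tr.leaf [6] 267 266 0 Tr.leaf)) [13] 8 29 0 (Tr.node (Tr.node Tr.leaf [5] 209 164 0 Tr.leaf) [6] 64 53 0 (Tr.node Tr.leaf [2] 327 238 0 Tr.leaf)))) [12] 25 8 0 (Tr.node (Tr.node (Tr.node (Tr.node (Tr.node Tr.leaf [3] 353 295 0 Tr.leaf) [10] 53 123 0 Tr.leaf) [0] 227 143 0 (Tr.node Tr.leaf [3] 223 250 0 Tr.leaf)) [4] 225 130 0 (Tr.node (Tr.node Tr.leaf [1] 165 186 0 Tr.leaf) [13] 48 12 0 (Tr.node Tr.leaf [2] 213 311 0 Tr.leaf))) [4] 2 1 0 (Tr.node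 (Tr.node (Tr.node (Tr.node Tr.leaf [12] 35 91 0 Tr.leaf) [1] 138 52 0 Tr.leaf) [2] 16 6 0 (Tr.node Tr.leaf [1] 188 284 0 Tr.leaf)) [6] 70 69 0 (Tr.node (Tr.node Tr.leaf [2] 123 221 0 Tr.leaf) [10] 69 25 0 (Tr.node Tr.leaf [0] 259 341 0 Tr.leaf)))))
def pM_4_t_43 : Tr := (Tr.node (Tr.node (Tr.node (Tr.node (Tr.node (Tr.node Tr.leaf [11] 271 351 0 Tr.leaf) [12] 39 103 0 Tr.leaf) [6] 94 92 0 (Tr.node Tr.leaf [13] 234 139 0 Tr.leaf)) [11] 8 36 0 (Tr.node (Tr.node Tr.leaf [6] 162 165 0 Tr.leaf) [4] 12 18 0 (Tr.node Tr.leaf [11] 241 207 0 Tr.leaf))) [11] 49 119 0 (Tr.node (Tr.node (Tr.node (Tr.node Tr.leaf [3] 3 4 0 Tr.leaf) [11] 121 124 0 Tr.leaf) [4] 2 13 0 (Tr.node Tr.leaf [4] 263 169 0 Tr.leaf)) [4] 6 4 0 (Tr.node (Tr.node Tr.leaf [10] 109 204 0 Tr.leaf) [13] 48 18 0 (Tr.node Tr.leaf [8] 324 318 0 Tr.leaf)))) [13] 2 16 0 (Tr.node (Tr.node (Tr.node (Tr.node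 (Tr.node Tr.leaf [] 299 247 0 Tr.leaf) [10] 49 118 0 Tr.leaf) [11] 79 202 0 (Tr.node Tr.leaf [11] 247 240 0 Tr.leaf)) [12] 77 150 0 (Tr.node (Tr.node Tr.leaf [3] 96 184 0 Tr.leaf) [0] 9 45 0 (Tr.node Tr.leaf [4] 308 258 0 Tr.leaf))) [3] 70 162 0 (Tr.node (Tr.node (Tr.node (Tr.node Tr.leaf [11] 48 358 0 Tr.leaf) [4] 149 80 0 Tr.leaf) [6] 11 11 0 (Tr.node Tr.leaf [13] 280 182 0 Tr.leaf)) [12] 49 50 0 (Tr.node (Tr.node Tr.leaf [12] 118 218 0 Tr.leaf) [11] 83 77 0 (Tr.node Tr.leaf [4] 338 286 0 Tr.leaf)))))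
def pM_4_t_59 : Tr := (Tr.node (Tr.node (Tr.node (Tr.node (Tr.node (Tr.node Tr.leaf [12] 356 291 0 Tr.leaf) [8] 109 79 0 Tr.leaf) [13] 51 142 0 (Tr.node Tr.leaf [11] 144 239 0 Tr.leaf)) [3] 30 82 0 (Tr.node (Tr.node Tr.leaf [8] 173 167 0 Tr.leaf) [10] 3 38 0 (Tr.node Tr.leaf [3] 204 302 0 Tr.leaf))) [8] 30 28 0 (Tr.node (Tr.node (Tr.node (Tr.node Tr.leaf [0] 18 12 0 Tr.leaf) [12] 52 143 0 Tr.leaf) [11] 8 8 0 (Tr.node Tr.leaf [0] 176 271 0 Tr.leaf)) [3] 8 34 0 (Tr.node (Tr.node Tr.leaf [0] 109 213 0 Tr.leaf) [2] 67 47 0 (Tr.node Tr.leaf [13] 331 246 0 Tr.leaf)))) [4] 1 2 0 (Tr.node (Tr.node (Tr.node (Tr.node (Tr.node Tr.leaf [] 43 14 0 Tr.leaf) [4] 122 53 0 Tr.leaf) [1] 178 276 0 (Tr.node Tr.leaf [1] 159 254 0 Tr.leaf)) [13] 4 358 0 (Tr.node (Tr.node Tr.leaf [10] 101 192 0 Tr.leaf) [12] 55 17 0 (Tr.node Tr.leaf [1] 314 269 0 Tr.leaf))) [8] 13 13 0 (Tr.node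 (Tr.node (Tr.node (Tr.node Tr.leaf [10] 126 222 0 Tr.leaf) [6] 157 124 0 Tr.leaf) [5] 4 20 0 (Tr.node Tr.leaf [13] 190 287 0 Tr.leaf)) [6] 80 77 0 (Tr.node (Tr.node Tr.leaf [2] 128 225 0 Tr.leaf) [11] 90 45 0 (Tr.node Tr.leaf [8] 344 342 0 Tr.leaf)))))
def pM_4_t_33 : Tr := (Tr.node (Tr.node (Tr.node (Tr.node (Tr.node (Tr.node Tr.leaf [10] 263 347 0 Tr.leaf) [13] 36 95 0 Tr.leaf) [1] 71 70 0 (Tr.node Tr.leaf [10] 131 230 0 Tr.leaf)) [12] 15 1 0 (Tr.node (Tr.node (Tr.node Tr.leaf [12] 3 360 0 Tr.leaf) [5] 160 111 0 Tr.leaf) [10] 22 20 0 (Tr.node Tr.leaf [12] 192 290 0 Tr.leaf))) [1] 4 19 0 (Tr.node (Tr.node (Tr.node (Tr.node Tr.leaf [] 207 0 0 Tr.leaf) [11] 50 128 0 Tr.leaf) [11] 335 270 0 (Tr.node Tr.leaf [2] 257 150 0 Tr.leaf)) [10] 4 3 0 (Tr.node (Tr.node Tr.leaf [8] 195 192 0 Tr.leaf) [8] 60 59 0 (Tr.node Tr.leaf [2] 222 318 0 Tr.leaf)))) [10] 14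 54 0 (Tr.node (Tr.node (Tr.node (Tr.node (Tr.node Tr.leaf [] 344 269 0 Tr.leaf) [3] 28 112 0 Tr.leaf) [3] 89 175 0 (Tr.node Tr.leaf [12] 153 243 0 Tr.leaf)) [11] 19 97 0 (Tr.node (Tr.node Tr.leaf [8] 177 176 0 Tr.leaf) [11] 37 4 0 (Tr.node Tr.leaf [12] 304 286 0 Tr.leaf))) [4] 55 13 0 (Tr.node (Tr.node (Tr.node (Tr.node Tr.leaf [13] 17 2 0 Tr.leaf) [12] 145 72 0 Tr.leaf) [1] 0 9 0 (Tr.node Tr.leaf [10] 275 178 0 Tr.leaf)) [6] 41 40 0 (Tr.node (Tr.node Tr.leaf [12] 208 196 0 Tr.leaf) [5] 74 28 0 (Tr.node Tr.leaf [13] 248 335 0 Tr.leaf)))))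
def pM_4_t_49 : Tr := (Tr.node (Tr.node (Tr.node (Tr.node (Tr.node (Tr.node Tr.leaf [8] 353 351 0 Tr.leaf) [3] 41 107 0 Tr.leaf) [1] 47 115 0 (Tr.node Tr.leaf [2] 119 237 0 Tr.leaf)) [5] 56 14 0 (Tr.node (Tr.node Tr.leaf [13] 71 169 0 Tr.leaf) [8] 32 24 0 (Tr.node Tr.leaf [2] 201 297 0 Tr.leaf))) [11] 126 223 0 (Tr.node (Tr.node (Tr.node (Tr.node Tr.leaf [8] 358 21 0 Tr.leaf) [10] 56 139 0 Tr.leaf) [10] 5 0 0 (Tr.node Tr.leaf [11] 169 267 0 Tr.leaf)) [1] 23 26 0 (Tr.node (Tr.node Tr.leaf [6] 208 203 0 Tr.leaf) [8] 63 62 0 (Tr.node Tr.leaf [12] 237 327 0 Tr.leaf)))) [4] 0 10 0 (Tr.node (Tr.node (Tr.node (Tr.node (Tr.node Tr.leaf [4] 320 300 0 Tr.leaf) [12] 120 51 0 Tr.leaf) [6] 223 222 0 (Tr.node Tr.leaf [0] 156 250 0 Tr.leaf)) [13] 80 207 0 (Tr.node (Tr.node Tr.leaf [5] 186 158 0 Tr.leaf) [1] 28 42 0 (Tr.node Tr.leaf [12] 310 308 0 Tr.leaf))) [5] 1 0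 0 (Tr.node (Tr.node (Tr.node (Tr.node Tr.leaf [12] 363 362 0 Tr.leaf) [8] 155 152 0 Tr.leaf) [2] 15 9 0 (Tr.node Tr.leaf [13] 186 283 0 Tr.leaf)) [13] 56 17 0 (Tr.node (Tr.node Tr.leaf [11] 122 220 0 Tr.leaf) [5] 69 30 0 (Tr.node Tr.leaf [4] 340 306 0 Tr.leaf)))))
def pM_4_t_41 : Tr := (Tr.node (Tr.node (Tr.node (Tr.node (Tr.node (Tr.node Tr.leaf [2] 267 350 0 Tr.leaf) [2] 38 100 0 Tr.leaf) [8] 92 91 0 (Tr.node Tr.leaf [8] 233 232 0 Tr.leaf)) [5] 25 25 0 (Tr.node (Tr.node Tr.leaf [3] 69 165 0 Tr.leaf) [11] 28 6 0 (Tr.node Tr.leaf [0] 293 199 0 Tr.leaf))) [11] 26 74 0 (Tr.node (Tr.node (Tr.node (Tr.node Tr.leaf [0] 7 0 0 Tr.leaf) [8] 135 134 0 Tr.leaf) [1] 3 359 0 (Tr.node Tr.leaf [13] 167 263 0 Tr.leaf)) [12] 3 0 0 (Tr.node (Tr.node Tr.leaf [10] 79 201 0 Tr.leaf) [5] 63 16 0 (Tr.node Tr.leaf [3] 231 324 0 Tr.leaf)))) [8] 14 13 0 (Tr.node (Tr.node (Tr.node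 (Tr.node (Tr.node Tr.leaf [] 333 205 0 Tr.leaf) [6] 117 114 0 Tr.leaf) [5] 150 79 0 (Tr.node Tr.leaf [0] 225 245 0 Tr.leaf)) [6] 133 132 0 (Tr.node (Tr.node Tr.leaf [11] 183 94 0 Tr.leaf) [8] 45 44 0 (Tr.node Tr.leaf [3] 307 258 0 Tr.leaf))) [3] 54 132 0 (Tr.node (Tr.node (Tr.node (Tr.node Tr.leaf [10] 47 21 0 Tr.leaf) [5] 148 77 0 Tr.leaf) [4] 9 9 0 (Tr.node Tr.leaf [8] 279 278 0 Tr.leaf)) [6] 48 47 0 (Tr.node (Tr.node Tr.leaf [8] 217 216 0 Tr.leaf) [10] 80 78 0 (Tr.node Tr.leaf [0] 273 337 0 Tr.leaf)))))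
def pM_4_t_57 : Tr := (Tr.node (Tr.node (Tr.node (Tr.node (Tr.node (Tr.node Tr.leaf [1] 325 355 0 Tr.leaf) [10] 105 77 0 Tr.leaf) [11] 56 140 0 (Tr.node Tr.leaf [12] 238 132 0 Tr.leaf)) [6] 72 71 0 (Tr.node (Tr.node Tr.leaf [3] 87 173 0 Tr.leaf) [1] 19 25 0 (Tr.node Tr.leaf [10] 301 208 0 Tr.leaf))) [11] 28 9 0 (Tr.node (Tr.node (Tr.node (Tr.node Tr.leaf [2] 359 357 0 Tr.leaf) [11] 119 65 0 Tr.leaf) [4] 7 0 0 (Tr.node Tr.leaf [3] 270 264 0 Tr.leaf)) [2] 8 33 0 (Tr.node (Tr.node Tr.leaf [13] 212 113 0 Tr.leaf) [13] 22 67 0 (Tr.node Tr.leaf [12] 329 323 0 Tr.leaf)))) [1] 1 1 0 (Tr.node (Tr.node (Tr.node (Tr.node (Tr.node Tr.leaf [] 197 2 0 Tr.leaf) [0] 55 125 0 Tr.leaf) [5] 257 163 0 (Tr.node Tr.leaf [13] 158 253 0 Tr.leaf)) [] 199 0 0 (Tr.node (Tr.node Tr.leaf [3] 190 110 0 Tr.leaf) [8] 52 51 0 (Tr.node Tr.leaf [4] 313 208 0 Tr.leaf))) [12] 5 0 0 (Tr.node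 (Tr.node (Tr.node (Tr.node Tr.leaf [10] 91 180 0 Tr.leaf) [8] 124 156 0 Tr.leaf) [3] 19 2 0 (Tr.node Tr.leaf [3] 286 285 0 Tr.leaf)) [12] 54 74 0 (Tr.node (Tr.node Tr.leaf [2] 127 224 0 Tr.leaf) [5] 88 54 0 (Tr.node Tr.leaf [11] 260 344 0 Tr.leaf)))))
def pM_4_t_37 : Tr := (Tr.node (Tr.node (Tr.node (Tr.node (Tr.node (Tr.node Tr.leaf [4] 348 271 0 Tr.leaf) [0] 96 88 0 Tr.leaf) [8] 87 71 0 (Tr.node Tr.leaf [8] 231 222 0 Tr.leaf)) [12] 4 21 0 (Tr.node (Tr.node Tr.leaf [13] 163 85 0 Tr.leaf) [8] 24 24 0 (Tr.node Tr.leaf [8] 291 288 0 Tr.leaf))) [11] 5 41 0 (Tr.node (Tr.node (Tr.node (Tr.node Tr.leaf [] 276 0 0 Tr.leaf) [2] 59 134 0 Tr.leaf) [] 336 204 0 (Tr.node Tr.leaf [5] 260 166 0 Tr.leaf)) [6] 6 6 0 (Tr.node (Tr.node Tr.leaf [4] 197 106 0 Tr.leaf) [13] 17 61 0 (Tr.node Tr.leaf [13] 225 321 0 Tr.leaf)))) [6] 2 1 0 (Tr.node (Tr.node (Tr.node (Tr.node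 (Tr.node Tr.leaf [] 349 304 0 Tr.leaf) [8] 113 78 0 Tr.leaf) [6] 179 176 0 (Tr.node Tr.leaf [2] 138 245 0 Tr.leaf)) [0] 47 114 0 (Tr.node (Tr.node Tr.leaf [11] 181 95 0 Tr.leaf) [11] 43 5 0 (Tr.node Tr.leaf [1] 210 306 0 Tr.leaf))) [12] 27 79 0 (Tr.node (Tr.node (Tr.node (Tr.node Tr.leaf [10] 10 362 0 Tr.leaf) [12] 146 123 0 Tr.leaf) [13] 10 0 0 (Tr.node Tr.leaf [8] 277 276 0 Tr.leaf)) [6] 45 34 0 (Tr.node (Tr.node Tr.leaf [6] 216 215 0 Tr.leaf) [5] 75 27 0 (Tr.node Tr.leaf [3] 336 332 0 Tr.leaf)))))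
def pM_4_t_53 : Tr := (Tr.node (Tr.node (Tr.node (Tr.node (Tr.node (Tr.node Tr.leaf [3] 275 355 0 Tr.leaf) [6] 108 88 0 Tr.leaf) [6] 130 129 0 (Tr.node Tr.leaf [0] 132 232 0 Tr.leaf)) [12] 18 62 0 (Tr.node (Tr.node Tr.leaf [12] 72 171 0 Tr.leaf) [4] 24 24 0 (Tr.node Tr.leaf [12] 299 205 0 Tr.leaf))) [6] 4 4 0 (Tr.node (Tr.node (Tr.node (Tr.node Tr.leaf [10] 361 18 0 Tr.leaf) [3] 49 141 0 Tr.leaf) [2] 6 6 0 (Tr.node Tr.leaf [6] 268 263 0 Tr.leaf)) [0] 24 3 0 (Tr.node (Tr.node Tr.leaf [12] 150 83 0 Tr.leaf) [8] 65 64 0 (Tr.node Tr.leaf [11] 328 280 0 Tr.leaf)))) [10] 6 27 0 (Tr.node (Tr.node (Tr.node (Tr.node (Tr.node Tr.leaf [] 294 0 0 Tr.leaf) [5] 114 49 0 Tr.leaf) [11] 241 151 0 (Tr.node Tr.leaf [8] 251 250 0 Tr.leaf)) [4] 227 142 0 (Tr.node (Tr.node Tr.leaf [2] 187 99 0 Tr.leaf) [6] 50 49 0 (Tr.node Tr.leaf [1] 311 264 0 Tr.leaf))) [8] 8 8 0 (Tr.node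 (Tr.node (Tr.node (Tr.node Tr.leaf [12] 38 101 0 Tr.leaf) [10] 132 129 0 Tr.leaf) [5] 11 17 0 (Tr.node Tr.leaf [2] 284 254 0 Tr.leaf)) [6] 74 73 0 (Tr.node (Tr.node Tr.leaf [12] 221 149 0 Tr.leaf) [11] 72 24 0 (Tr.node Tr.leaf [3] 304 341 0 Tr.leaf)))))
def pM_4_t_45 : Tr := (Tr.node (Tr.node (Tr.node (Tr.node (Tr.node (Tr.node Tr.leaf [0] 351 320 0 Tr.leaf) [6] 103 102 0 Tr.leaf) [13] 102 37 0 (Tr.node Tr.leaf [10] 141 235 0 Tr.leaf)) [3] 7 45 0 (Tr.node (Tr.node Tr.leaf [0] 132 162 0 Tr.leaf) [2] 16 16 0 (Tr.node Tr.leaf [10] 200 295 0 Tr.leaf))) [2] 51 129 0 (Tr.node (Tr.node (Tr.node (Tr.node Tr.leaf [0] 357 1 0 Tr.leaf) [12] 69 121 0 Tr.leaf) [1] 41 2 0 (Tr.node Tr.leaf [3] 264 200 0 Tr.leaf)) [6] 15 13 0 (Tr.node (Tr.node Tr.leaf [5] 206 81 0 Tr.leaf) [12] 49 64 0 (Tr.node Tr.leaf [12] 325 239 0 Tr.leaf)))) [13] 11 48 0 (Tr.node (Tr.node (Tr.node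 (Tr.node (Tr.node Tr.leaf [13] 247 201 0 Tr.leaf) [11] 119 50 0 Tr.leaf) [6] 205 204 0 (Tr.node Tr.leaf [11] 248 225 0 Tr.leaf)) [12] 90 178 0 (Tr.node (Tr.node Tr.leaf [0] 162 184 0 Tr.leaf) [0] 26 32 0 (Tr.node Tr.leaf [0] 200 309 0 Tr.leaf))) [13] 77 200 0 (Tr.node (Tr.node (Tr.node (Tr.node Tr.leaf [5] 55 47 0 Tr.leaf) [2] 151 123 0 Tr.leaf) [6] 14 13 0 (Tr.node Tr.leaf [2] 182 281 0 Tr.leaf)) [1] 14 57 0 (Tr.node (Tr.node Tr.leaf [3] 218 120 0 Tr.leaf) [3] 56 56 0 (Tr.node Tr.leaf [1] 257 339 0 Tr.leaf)))))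
def pM_4_t_61 : Tr := (Tr.node (Tr.node (Tr.node (Tr.node (Tr.node (Tr.node Tr.leaf [11] 317 356 0 Tr.leaf) [12] 79 31 0 Tr.leaf) [12] 78 151 0 (Tr.node Tr.leaf [8] 239 235 0 Tr.leaf)) [8] 83 77 0 (Tr.node (Tr.node Tr.leaf [5] 174 132 0 Tr.leaf) [6] 39 38 0 (Tr.node Tr.leaf [6] 303 302 0 Tr.leaf))) [6] 25 24 0 (Tr.node (Tr.node (Tr.node (Tr.node Tr.leaf [12] 1 12 0 Tr.leaf) [2] 53 144 0 Tr.leaf) [4] 4 7 0 (Tr.node Tr.leaf [11] 176 273 0 Tr.leaf)) [0] 25 34 0 (Tr.node (Tr.node Tr.leaf [4] 207 84 0 Tr.leaf) [4] 68 65 0 (Tr.node Tr.leaf [6] 332 330 0 Tr.leaf)))) [5] 7 0 0 (Tr.node (Tr.node (Tr.node (Tr.node (Tr.node Tr.leaf [] 105 13 0 Tr.leaf) [4] 126 50 0 Tr.leaf) [12] 223 320 0 (Tr.node Tr.leaf [13] 255 133 0 Tr.leaf)) [8] 2 2 0 (Tr.node (Tr.node Tr.leaf [6] 193 192 0 Tr.leaf) [0] 15 59 0 (Tr.node Tr.leaf [13] 219 316 0 Tr.leaf))) [8] 16 15 0 (Tr.node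 (Tr.node (Tr.node (Tr.node Tr.leaf [13] 152 242 0 Tr.leaf) [3] 72 158 0 Tr.leaf) [12] 21 3 0 (Tr.node Tr.leaf [10] 191 288 0 Tr.leaf)) [13] 28 84 0 (Tr.node (Tr.node Tr.leaf [12] 130 228 0 Tr.leaf) [4] 90 30 0 (Tr.node Tr.leaf [0] 262 346 0 Tr.leaf)))))
def pM_4_t_32 : Tr := (Tr.node (Tr.node (Tr.node (Tr.node (Tr.node (Tr.node Tr.leaf [3] 271 346 0 Tr.leaf) [2] 36 93 0 Tr.leaf) [8] 85 70 0 (Tr.node Tr.leaf [6] 229 226 0 Tr.leaf)) [4] 18 3 0 (Tr.node (Tr.node (Tr.node Tr.leaf [12] 244 330 0 Tr.leaf) [2] 69 160 0 Tr.leaf) [4] 22 18 0 (Tr.node Tr.leaf [6] 289 288 0 Tr.leaf))) [8] 18 11 0 (Tr.node (Tr.node (Tr.node (Tr.node Tr.leaf [] 77 51 0 Tr.leaf) [5] 127 51 0 Tr.leaf) [8] 331 330 0 (Tr.node Tr.leaf [13] 257 164 0 Tr.leaf)) [1] 2 2 0 (Tr.node (Tr.node Tr.leaf [11] 102 195 0 Tr.leaf) [6] 60 50 0 (Tr.node Tr.leaf [6] 317 315 0 Tr.leaf)))) [11] 6 28 0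 (Tr.node (Tr.node (Tr.node (Tr.node (Tr.node Tr.leaf [] 314 261 0 Tr.leaf) [8] 110 73 0 Tr.leaf) [0] 83 155 0 (Tr.node Tr.leaf [8] 240 237 0 Tr.leaf)) [13] 35 92 0 (Tr.node (Tr.node Tr.leaf [13] 177 108 0 Tr.leaf) [10] 42 4 0 (Tr.node Tr.leaf [5] 304 208 0 Tr.leaf))) [10] 51 13 0 (Tr.node (Tr.node (Tr.node (Tr.node Tr.leaf [5] 17 361 0 Tr.leaf) [8] 123 119 0 Tr.leaf) [6] 9 9 0 (Tr.node Tr.leaf [10] 177 275 0 Tr.leaf)) [10] 5 40 0 (Tr.node (Tr.node Tr.leaf [4] 214 81 0 Tr.leaf) [4] 73 27 0 (Tr.node Tr.leaf [8] 334 333 0 Tr.leaf)))))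
def pM_4_t_48 : Tr := (Tr.node (Tr.node (Tr.node (Tr.node (Tr.node (Tr.node Tr.leaf [10] 274 353 0 Tr.leaf) [13] 106 43 0 Tr.leaf) [11] 46 110 0 (Tr.node Tr.leaf [6] 236 235 0 Tr.leaf)) [12] 47 18 0 (Tr.node (Tr.node Tr.leaf [4] 168 83 0 Tr.leaf) [2] 24 6 0 (Tr.node Tr.leaf [6] 296 295 0 Tr.leaf))) [12] 71 145 0 (Tr.node (Tr.node (Tr.node (Tr.node Tr.leaf [3] 12 11 0 Tr.leaf) [11] 138 63 0 Tr.leaf) [5] 2 0 0 (Tr.node Tr.leaf [10] 169 266 0 Tr.leaf)) [0] 17 11 0 (Tr.node (Tr.node Tr.leaf [6] 207 150 0 Tr.leaf) [6] 62 56 0 (Tr.node Tr.leaf [3] 326 320 0 Tr.leaf)))) [5] 0 5 0 (Tr.node (Tr.node (Tr.node (Tr.node (Tr.node Tr.leaf [13] 300 319 0 Tr.leaf) [12] 51 120 0 Tr.leaf) [12] 210 110 0 (Tr.node Tr.leaf [3] 249 239 0 Tr.leaf)) [12] 80 206 0 (Tr.node (Tr.node Tr.leaf [3] 97 186 0 Tr.leaf) [1] 31 38 0 (Tr.node Tr.leaf [5] 310 213 0 Tr.leaf))) [8] 1 1 0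 (Tr.node (Tr.node (Tr.node (Tr.node Tr.leaf [12] 41 363 0 Tr.leaf) [6] 155 154 0 Tr.leaf) [3] 14 10 0 (Tr.node Tr.leaf [4] 282 187 0 Tr.leaf)) [12] 52 51 0 (Tr.node (Tr.node Tr.leaf [10] 122 219 0 Tr.leaf) [5] 72 37 0 (Tr.node Tr.leaf [3] 258 340 0 Tr.leaf)))))
def pM_4_t_40 : Tr := (Tr.node (Tr.node (Tr.node (Tr.node (Tr.node (Tr.node Tr.leaf [2] 266 349 0 Tr.leaf) [4] 97 37 0 Tr.leaf) [6] 90 89 0 (Tr.node Tr.leaf [13] 137 233 0 Tr.leaf)) [8] 29 25 0 (Tr.node (Tr.node Tr.leaf [8] 164 162 0 Tr.leaf) [10] 27 6 0 (Tr.node Tr.leaf [11] 198 293 0 Tr.leaf))) [10] 25 71 0 (Tr.node (Tr.node (Tr.node (Tr.node Tr.leaf [] 13 0 0 Tr.leaf) [6] 135 126 0 Tr.leaf) [4] 357 2 0 (Tr.node Tr.leaf [5] 262 145 0 Tr.leaf)) [8] 10 5 0 (Tr.node (Tr.node Tr.leaf [8] 200 150 0 Tr.leaf) [4] 62 15 0 (Tr.node Tr.leaf [8] 323 322 0 Tr.leaf)))) [1] 13 50 0 (Tr.node (Tr.node (Tr.node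 (Tr.node (Tr.node Tr.leaf [] 332 302 0 Tr.leaf) [1] 48 117 0 Tr.leaf) [4] 188 99 0 (Tr.node Tr.leaf [8] 246 244 0 Tr.leaf)) [2] 54 124 0 (Tr.node (Tr.node Tr.leaf [11] 92 183 0 Tr.leaf) [6] 44 33 0 (Tr.node Tr.leaf [5] 307 211 0 Tr.leaf))) [3] 50 126 0 (Tr.node (Tr.node (Tr.node (Tr.node Tr.leaf [10] 358 47 0 Tr.leaf) [2] 75 148 0 Tr.leaf) [4] 9 3 0 (Tr.node Tr.leaf [13] 180 279 0 Tr.leaf)) [8] 48 47 0 (Tr.node (Tr.node Tr.leaf [11] 115 217 0 Tr.leaf) [8] 80 78 0 (Tr.node Tr.leaf [11] 270 337 0 Tr.leaf)))))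
def pM_4_t_56 : Tr := (Tr.node (Tr.node (Tr.node (Tr.node (Tr.node (Tr.node Tr.leaf [11] 349 355 0 Tr.leaf) [10] 77 107 0 Tr.leaf) [8] 132 130 0 (Tr.node Tr.leaf [10] 238 143 0 Tr.leaf)) [1] 16 65 0 (Tr.node (Tr.node Tr.leaf [8] 172 170 0 Tr.leaf) [11] 36 7 0 (Tr.node Tr.leaf [10] 203 301 0 Tr.leaf))) [6] 16 13 0 (Tr.node (Tr.node (Tr.node (Tr.node Tr.leaf [10] 359 11 0 Tr.leaf) [0] 141 131 0 Tr.leaf) [2] 10 0 0 (Tr.node Tr.leaf [3] 269 214 0 Tr.leaf)) [6] 29 32 0 (Tr.node (Tr.node Tr.leaf [13] 78 212 0 Tr.leaf) [3] 66 65 0 (Tr.node Tr.leaf [10] 329 243 0 Tr.leaf)))) [3] 58 133 0 (Tr.node (Tr.node (Tr.node (Tr.node (Tr.node Tr.leaf [] 106 1 0 Tr.leaf) [3] 115 50 0 Tr.leaf) [13] 162 257 0 (Tr.node Tr.leaf [8] 252 248 0 Tr.leaf)) [1] 163 258 0 (Tr.node (Tr.node Tr.leaf [0] 190 167 0 Tr.leaf) [11] 52 15 0 (Tr.node Tr.leaf [0] 214 313 0 Tr.leaf))) [13] 4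 0 0 (Tr.node (Tr.node (Tr.node (Tr.node Tr.leaf [1] 80 153 0 Tr.leaf) [11] 156 129 0 Tr.leaf) [6] 17 11 0 (Tr.node Tr.leaf [3] 189 286 0 Tr.leaf)) [12] 79 28 0 (Tr.node (Tr.node Tr.leaf [1] 223 128 0 Tr.leaf) [11] 29 87 0 (Tr.node Tr.leaf [6] 343 342 0 Tr.leaf)))))
def pM_4_t_36 : Tr := (Tr.node (Tr.node (Tr.node (Tr.node (Tr.node (Tr.node Tr.leaf [2] 265 348 0 Tr.leaf) [10] 19 96 0 Tr.leaf) [6] 87 86 0 (Tr.node Tr.leaf [4] 231 140 0 Tr.leaf)) [6] 18 12 0 (Tr.node (Tr.node Tr.leaf [4] 162 83 0 Tr.leaf) [12] 24 7 0 (Tr.node Tr.leaf [11] 291 196 0 Tr.leaf))) [10] 9 30 0 (Tr.node (Tr.node (Tr.node (Tr.node Tr.leaf [] 296 48 0 Tr.leaf) [8] 133 129 0 Tr.leaf) [6] 337 335 0 (Tr.node Tr.leaf [8] 260 259 0 Tr.leaf)) [8] 6 6 0 (Tr.node (Tr.node Tr.leaf [13] 104 197 0 Tr.leaf) [13] 52 54 0 (Tr.node Tr.leaf [12] 320 230 0 Tr.leaf)))) [11] 2 0 0 (Tr.node (Tr.node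 (Tr.node (Tr.node (Tr.node Tr.leaf [] 341 266 0 Tr.leaf) [2] 31 113 0 Tr.leaf) [8] 179 178 0 (Tr.node Tr.leaf [2] 137 244 0 Tr.leaf)) [2] 30 111 0 (Tr.node (Tr.node Tr.leaf [13] 90 179 0 Tr.leaf) [11] 10 43 0 (Tr.node Tr.leaf [5] 305 210 0 Tr.leaf))) [3] 27 78 0 (Tr.node (Tr.node (Tr.node (Tr.node Tr.leaf [12] 18 361 0 Tr.leaf) [4] 146 78 0 Tr.leaf) [13] 3 0 0 (Tr.node Tr.leaf [6] 277 271 0 Tr.leaf)) [8] 42 39 0 (Tr.node (Tr.node Tr.leaf [11] 114 216 0 Tr.leaf) [4] 75 73 0 (Tr.node Tr.leaf [4] 336 325 0 Tr.leaf)))))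
def pM_4_t_52 : Tr := (Tr.node (Tr.node (Tr.node (Tr.node (Tr.node (Tr.node Tr.leaf [6] 354 353 0 Tr.leaf) [11] 33 108 0 Tr.leaf) [12] 116 51 0 (Tr.node Tr.leaf [0] 234 133 0 Tr.leaf)) [11] 58 15 0 (Tr.node (Tr.node Tr.leaf [5] 170 111 0 Tr.leaf) [2] 24 24 0 (Tr.node Tr.leaf [12] 201 299 0 Tr.leaf))) [6] 6 9 0 (Tr.node (Tr.node (Tr.node (Tr.node Tr.leaf [0] 4 361 0 Tr.leaf) [0] 140 58 0 Tr.leaf) [2] 9 6 0 (Tr.node Tr.leaf [12] 170 268 0 Tr.leaf)) [6] 31 30 0 (Tr.node (Tr.node Tr.leaf [2] 210 163 0 Tr.leaf) [6] 65 49 0 (Tr.node Tr.leaf [12] 241 328 0 Tr.leaf)))) [0] 6 26 0 (Tr.node (Tr.node (Tr.node (Tr.node (Tr.node Tr.leaf [2] 296 354 0 Tr.leaf) [13] 124 75 0 Tr.leaf) [11] 150 241 0 (Tr.node Tr.leaf [0] 124 251 0 Tr.leaf)) [13] 129 227 0 (Tr.node (Tr.node Tr.leaf [13] 97 187 0 Tr.leaf) [8] 49 49 0 (Tr.node Tr.leaf [4] 311 265 0 Tr.leaf))) [8] 7 7 0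 (Tr.node (Tr.node (Tr.node (Tr.node Tr.leaf [2] 37 98 0 Tr.leaf) [10] 129 133 0 Tr.leaf) [2] 15 15 0 (Tr.node Tr.leaf [4] 284 189 0 Tr.leaf)) [8] 72 71 0 (Tr.node (Tr.node Tr.leaf [2] 221 151 0 Tr.leaf) [0] 71 70 0 (Tr.node Tr.leaf [12] 341 338 0 Tr.leaf)))))
def pM_4_t_44 : Tr := (Tr.node (Tr.node (Tr.node (Tr.node (Tr.node (Tr.node Tr.leaf [11] 351 277 0 Tr.leaf) [12] 103 42 0 Tr.leaf) [13] 37 99 0 (Tr.node Tr.leaf [6] 234 232 0 Tr.leaf)) [6] 36 35 0 (Tr.node (Tr.node Tr.leaf [11] 162 160 0 Tr.leaf) [3] 13 14 0 (Tr.node Tr.leaf [0] 241 202 0 Tr.leaf))) [3] 51 121 0 (Tr.node (Tr.node (Tr.node (Tr.node Tr.leaf [0] 0 6 0 Tr.leaf) [12] 121 70 0 Tr.leaf) [12] 12 2 0 (Tr.node Tr.leaf [12] 168 264 0 Tr.leaf)) [4] 6 3 0 (Tr.node (Tr.node Tr.leaf [11] 109 205 0 Tr.leaf) [3] 48 55 0 (Tr.node Tr.leaf [12] 235 325 0 Tr.leaf)))) [2] 2 17 0 (Tr.node (Tr.node (Tr.node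 (Tr.node (Tr.node Tr.leaf [] 331 297 0 Tr.leaf) [4] 118 51 0 Tr.leaf) [6] 202 201 0 (Tr.node Tr.leaf [1] 121 248 0 Tr.leaf)) [2] 71 167 0 (Tr.node (Tr.node Tr.leaf [0] 184 132 0 Tr.leaf) [4] 23 19 0 (Tr.node Tr.leaf [0] 308 256 0 Tr.leaf))) [13] 70 163 0 (Tr.node (Tr.node (Tr.node (Tr.node Tr.leaf [2] 55 358 0 Tr.leaf) [5] 149 147 0 Tr.leaf) [8] 12 11 0 (Tr.node Tr.leaf [6] 280 278 0 Tr.leaf)) [11] 52 16 0 (Tr.node (Tr.node Tr.leaf [12] 218 119 0 Tr.leaf) [11] 84 81 0 (Tr.node Tr.leaf [0] 338 283 0 Tr.leaf)))))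
def pM_4_t_60 : Tr := (Tr.node (Tr.node (Tr.node (Tr.node (Tr.node (Tr.node Tr.leaf [3] 356 290 0 Tr.leaf) [6] 81 109 0 Tr.leaf) [12] 143 54 0 (Tr.node Tr.leaf [5] 239 138 0 Tr.leaf)) [8] 82 80 0 (Tr.node (Tr.node Tr.leaf [3] 88 174 0 Tr.leaf) [11] 39 3 0 (Tr.node Tr.leaf [3] 205 303 0 Tr.leaf))) [8] 31 27 0 (Tr.node (Tr.node (Tr.node (Tr.node Tr.leaf [10] 13 6 0 Tr.leaf) [6] 143 142 0 Tr.leaf) [1] 9 0 0 (Tr.node Tr.leaf [10] 176 272 0 Tr.leaf)) [0] 34 6 0 (Tr.node (Tr.node Tr.leaf [13] 207 82 0 Tr.leaf) [3] 23 68 0 (Tr.node Tr.leaf [13] 245 332 0 Tr.leaf)))) [6] 8 7 0 (Tr.node (Tr.node (Tr.node (Tr.node (Tr.node Tr.leaf [] 104 15 0 Tr.leaf) [1] 122 48 0 Tr.leaf) [6] 276 274 0 (Tr.node Tr.leaf [11] 142 255 0 Tr.leaf)) [13] 358 3 0 (Tr.node (Tr.node Tr.leaf [11] 101 193 0 Tr.leaf) [8] 57 50 0 (Tr.node Tr.leaf [12] 219 315 0 Tr.leaf))) [6] 13 13 0 (Tr.node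 (Tr.node (Tr.node (Tr.node Tr.leaf [12] 129 226 0 Tr.leaf) [8] 157 121 0 Tr.leaf) [1] 20 11 0 (Tr.node Tr.leaf [4] 287 210 0 Tr.leaf)) [6] 83 82 0 (Tr.node (Tr.node Tr.leaf [8] 227 226 0 Tr.leaf) [5] 90 72 0 (Tr.node Tr.leaf [3] 261 345 0 Tr.leaf)))))
def pM_4_t_34 : Tr := (Tr.node (Tr.node (Tr.node (Tr.node (Tr.node (Tr.node Tr.leaf [10] 347 268 0 Tr.leaf) [8] 95 94 0 Tr.leaf) [4] 71 31 0 (Tr.node Tr.leaf [8] 230 223 0 Tr.leaf)) [5] 12 3 0 (Tr.node (Tr.node (Tr.node Tr.leaf [11] 360 363 0 Tr.leaf) [2] 70 161 0 Tr.leaf) [4] 12 22 0 (Tr.node Tr.leaf [12] 290 195 0 Tr.leaf))) [1] 6 23 0 (Tr.node (Tr.node (Tr.node (Tr.node Tr.leaf [] 200 116 0 Tr.leaf) [4] 128 52 0 Tr.leaf) [13] 249 336 0 (Tr.node Tr.leaf [12] 165 259 0 Tr.leaf)) [11] 4 3 0 (Tr.node (Tr.node Tr.leaf [1] 103 196 0 Tr.leaf) [12] 51 51 0 (Tr.node Tr.leaf [2] 223 319 0 Tr.leaf)))) [11] 25 72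 0 (Tr.node (Tr.node (Tr.node (Tr.node (Tr.node Tr.leaf [] 342 268 0 Tr.leaf) [8] 111 112 0 Tr.leaf) [12] 89 176 0 (Tr.node Tr.leaf [12] 243 154 0 Tr.leaf)) [13] 40 106 0 (Tr.node (Tr.node Tr.leaf [2] 178 171 0 Tr.leaf) [6] 37 42 0 (Tr.node Tr.leaf [12] 209 305 0 Tr.leaf))) [8] 54 52 0 (Tr.node (Tr.node (Tr.node (Tr.node Tr.leaf [11] 41 10 0 Tr.leaf) [6] 145 145 0 Tr.leaf) [2] 8 8 0 (Tr.node Tr.leaf [8] 275 273 0 Tr.leaf)) [8] 35 36 0 (Tr.node (Tr.node Tr.leaf [10] 114 215 0 Tr.leaf) [8] 74 73 0 (Tr.node Tr.leaf [13] 335 252 0 Tr.leaf)))))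
def pM_4_t_50 : Tr := (Tr.node (Tr.node (Tr.node (Tr.node (Tr.node (Tr.node Tr.leaf [11] 274 354 0 Tr.leaf) [6] 107 105 0 Tr.leaf) [5] 115 50 0 (Tr.node Tr.leaf [5] 237 130 0 Tr.leaf)) [6] 58 54 0 (Tr.node (Tr.node Tr.leaf [13] 169 87 0 Tr.leaf) [3] 32 9 0 (Tr.node Tr.leaf [3] 201 298 0 Tr.leaf))) [6] 3 3 0 (Tr.node (Tr.node (Tr.node (Tr.node Tr.leaf [3] 1 359 0 Tr.leaf) [1] 139 54 0 Tr.leaf) [11] 8 0 0 (Tr.node Tr.leaf [11] 267 171 0 Tr.leaf)) [8] 28 27 0 (Tr.node (Tr.node Tr.leaf [2] 73 209 0 Tr.leaf) [6] 63 55 0 (Tr.node Tr.leaf [12] 327 240 0 Tr.leaf)))) [3] 7 7 0 (Tr.node (Tr.node (Tr.node (Tr.node (Tr.node Tr.leaf [3] 241 351 0 Tr.leaf) [12] 122 115 0 Tr.leaf) [13] 130 229 0 (Tr.node Tr.leaf [11] 250 224 0 Tr.leaf)) [0] 81 208 0 (Tr.node (Tr.node Tr.leaf [6] 186 184 0 Tr.leaf) [11] 31 6 0 (Tr.node Tr.leaf [3] 265 310 0 Tr.leaf))) [4] 1 1 0 (Tr.node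 (Tr.node (Tr.node (Tr.node Tr.leaf [] 41 0 0 Tr.leaf) [11] 155 148 0 Tr.leaf) [4] 12 12 0 (Tr.node Tr.leaf [3] 283 253 0 Tr.leaf)) [8] 56 55 0 (Tr.node (Tr.node Tr.leaf [6] 220 219 0 Tr.leaf) [10] 32 85 0 (Tr.node Tr.leaf [0] 340 287 0 Tr.leaf)))))
def pM_4_t_42 : Tr := (Tr.node (Tr.node (Tr.node (Tr.node (Tr.node (Tr.node Tr.leaf [6] 350 349 0 Tr.leaf) [13] 38 102 0 Tr.leaf) [12] 36 94 0 (Tr.node Tr.leaf [13] 138 234 0 Tr.leaf)) [0] 6 25 0 (Tr.node (Tr.node Tr.leaf [13] 69 166 0 Tr.leaf) [2] 29 25 0 (Tr.node Tr.leaf [3] 199 294 0 Tr.leaf))) [12] 28 81 0 (Tr.node (Tr.node (Tr.node (Tr.node Tr.leaf [1] 2 0 0 Tr.leaf) [11] 132 111 0 Tr.leaf) [5] 359 12 0 (Tr.node Tr.leaf [13] 263 173 0 Tr.leaf)) [3] 6 5 0 (Tr.node (Tr.node Tr.leaf [1] 109 203 0 Tr.leaf) [2] 63 21 0 (Tr.node Tr.leaf [4] 324 246 0 Tr.leaf)))) [12] 13 2 0 (Tr.node (Tr.node (Tr.node (Tr.node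 (Tr.node Tr.leaf [] 330 303 0 Tr.leaf) [8] 117 115 0 Tr.leaf) [13] 200 83 0 (Tr.node Tr.leaf [1] 129 247 0 Tr.leaf)) [6] 138 137 0 (Tr.node (Tr.node Tr.leaf [8] 183 180 0 Tr.leaf) [0] 45 24 0 (Tr.node Tr.leaf [3] 211 308 0 Tr.leaf))) [13] 142 58 0 (Tr.node (Tr.node (Tr.node (Tr.node Tr.leaf [4] 48 14 0 Tr.leaf) [2] 76 149 0 Tr.leaf) [2] 6 5 0 (Tr.node Tr.leaf [13] 181 280 0 Tr.leaf)) [8] 51 51 0 (Tr.node (Tr.node Tr.leaf [12] 121 217 0 Tr.leaf) [11] 82 80 0 (Tr.node Tr.leaf [2] 254 338 0 Tr.leaf)))))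
def pM_4_t_58 : Tr := (Tr.node (Tr.node (Tr.node (Tr.node (Tr.node (Tr.node Tr.leaf [12] 288 356 0 Tr.leaf) [13] 109 31 0 Tr.leaf) [8] 140 137 0 (Tr.node Tr.leaf [12] 130 238 0 Tr.leaf)) [10] 26 73 0 (Tr.node (Tr.node Tr.leaf [6] 173 172 0 Tr.leaf) [4] 19 33 0 (Tr.node Tr.leaf [5] 301 204 0 Tr.leaf))) [10] 30 6 0 (Tr.node (Tr.node (Tr.node (Tr.node Tr.leaf [0] 12 12 0 Tr.leaf) [5] 119 52 0 Tr.leaf) [5] 7 7 0 (Tr.node Tr.leaf [4] 270 176 0 Tr.leaf)) [0] 33 14 0 (Tr.node (Tr.node Tr.leaf [5] 212 109 0 Tr.leaf) [5] 67 13 0 (Tr.node Tr.leaf [12] 322 329 0 Tr.leaf)))) [8] 9 6 0 (Tr.node (Tr.node (Tr.node (Tr.node (Tr.node Tr.leaf [] 198 1 0 Tr.leaf) [4] 125 49 0 Tr.leaf) [12] 175 270 0 (Tr.node Tr.leaf [5] 253 159 0 Tr.leaf)) [] 1 0 0 (Tr.node (Tr.node Tr.leaf [0] 101 191 0 Tr.leaf) [10] 54 14 0 (Tr.node Tr.leaf [2] 208 314 0 Tr.leaf))) [13] 5 0 0 (Tr.node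 (Tr.node (Tr.node (Tr.node Tr.leaf [13] 98 188 0 Tr.leaf) [2] 58 157 0 Tr.leaf) [4] 11 19 0 (Tr.node Tr.leaf [0] 286 282 0 Tr.leaf)) [12] 73 54 0 (Tr.node (Tr.node Tr.leaf [5] 224 129 0 Tr.leaf) [4] 89 71 0 (Tr.node Tr.leaf [0] 344 261 0 Tr.leaf)))))
def pM_4_t_38 : Tr := (Tr.node (Tr.node (Tr.node (Tr.node (Tr.node (Tr.node Tr.leaf [1] 348 270 0 Tr.leaf) [6] 97 96 0 Tr.leaf) [10] 34 89 0 (Tr.node Tr.leaf [12] 137 232 0 Tr.leaf)) [6] 28 27 0 (Tr.node (Tr.node Tr.leaf [2] 163 79 0 Tr.leaf) [8] 25 25 0 (Tr.node Tr.leaf [11] 197 292 0 Tr.leaf))) [12] 12 55 0 (Tr.node (Tr.node (Tr.node (Tr.node Tr.leaf [] 354 55 0 Tr.leaf) [6] 134 131 0 Tr.leaf) [11] 3 0 0 (Tr.node Tr.leaf [11] 166 261 0 Tr.leaf)) [4] 8 8 0 (Tr.node (Tr.node Tr.leaf [13] 105 198 0 Tr.leaf) [4] 61 16 0 (Tr.node Tr.leaf [2] 321 229 0 Tr.leaf)))) [8] 2 1 0 (Tr.node (Tr.node (Tr.node (Tr.node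 (Tr.node Tr.leaf [11] 304 355 0 Tr.leaf) [11] 47 116 0 Tr.leaf) [11] 91 181 0 (Tr.node Tr.leaf [6] 245 244 0 Tr.leaf)) [2] 49 122 0 (Tr.node (Tr.node Tr.leaf [10] 92 182 0 Tr.leaf) [8] 43 40 0 (Tr.node Tr.leaf [13] 306 271 0 Tr.leaf))) [3] 31 83 0 (Tr.node (Tr.node (Tr.node (Tr.node Tr.leaf [10] 362 5 0 Tr.leaf) [2] 74 147 0 Tr.leaf) [0] 7 6 0 (Tr.node Tr.leaf [12] 180 278 0 Tr.leaf)) [0] 9 46 0 (Tr.node (Tr.node Tr.leaf [5] 216 116 0 Tr.leaf) [5] 76 74 0 (Tr.node Tr.leaf [6] 336 333 0 Tr.leaf)))))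
def pM_4_t_54 : Tr := (Tr.node (Tr.node (Tr.node (Tr.node (Tr.node (Tr.node Tr.leaf [8] 355 352 0 Tr.leaf) [8] 108 89 0 Tr.leaf) [2] 57 131 0 (Tr.node Tr.leaf [5] 238 143 0 Tr.leaf)) [13] 18 63 0 (Tr.node (Tr.node Tr.leaf [6] 171 169 0 Tr.leaf) [10] 8 35 0 (Tr.node Tr.leaf [3] 202 300 0 Tr.leaf))) [12] 13 1 0 (Tr.node (Tr.node (Tr.node (Tr.node Tr.leaf [3] 361 357 0 Tr.leaf) [12] 141 136 0 Tr.leaf) [0] 2 5 0 (Tr.node Tr.leaf [13] 170 269 0 Tr.leaf)) [0] 4 25 0 (Tr.node (Tr.node Tr.leaf [1] 79 211 0 Tr.leaf) [1] 21 66 0 (Tr.node Tr.leaf [11] 278 328 0 Tr.leaf)))) [11] 9 31 0 (Tr.node (Tr.node (Tr.node (Tr.node (Tr.node Tr.leaf [] 292 0 0 Tr.leaf) [12] 114 68 0 Tr.leaf) [13] 242 155 0 (Tr.node Tr.leaf [1] 157 252 0 Tr.leaf)) [11] 142 227 0 (Tr.node (Tr.node Tr.leaf [1] 99 189 0 Tr.leaf) [10] 51 14 0 (Tr.node Tr.leaf [1] 207 312 0 Tr.leaf))) [13] 9 0 0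 (Tr.node (Tr.node (Tr.node (Tr.node Tr.leaf [10] 55 137 0 Tr.leaf) [11] 121 130 0 Tr.leaf) [10] 11 18 0 (Tr.node Tr.leaf [2] 189 285 0 Tr.leaf)) [11] 23 76 0 (Tr.node (Tr.node Tr.leaf [11] 223 135 0 Tr.leaf) [5] 72 30 0 (Tr.node Tr.leaf [10] 259 342 0 Tr.leaf)))))
def pM_4_t_46 : Tr := (Tr.node (Tr.node (Tr.node (Tr.node (Tr.node (Tr.node Tr.leaf [2] 273 352 0 Tr.leaf) [2] 40 104 0 Tr.leaf) [8] 102 101 0 (Tr.node Tr.leaf [5] 235 230 0 Tr.leaf)) [6] 52 51 0 (Tr.node (Tr.node Tr.leaf [0] 167 100 0 Tr.leaf) [1] 17 11 0 (Tr.node Tr.leaf [8] 295 241 0 Tr.leaf))) [2] 52 130 0 (Tr.node (Tr.node (Tr.node (Tr.node Tr.leaf [5] 357 2 0 Tr.leaf) [1] 62 136 0 Tr.leaf) [0] 363 47 0 (Tr.node Tr.leaf [0] 145 265 0 Tr.leaf)) [6] 14 14 0 (Tr.node (Tr.node Tr.leaf [6] 206 200 0 Tr.leaf) [8] 53 49 0 (Tr.node Tr.leaf [13] 235 326 0 Tr.leaf)))) [11] 24 70 0 (Tr.node (Tr.node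 (Tr.node (Tr.node (Tr.node Tr.leaf [13] 297 246 0 Tr.leaf) [6] 119 118 0 Tr.leaf) [8] 205 201 0 (Tr.node Tr.leaf [5] 249 245 0 Tr.leaf)) [6] 178 177 0 (Tr.node (Tr.node Tr.leaf [2] 97 185 0 Tr.leaf) [5] 46 45 0 (Tr.node Tr.leaf [4] 309 213 0 Tr.leaf))) [13] 227 133 0 (Tr.node (Tr.node (Tr.node (Tr.node Tr.leaf [0] 58 358 0 Tr.leaf) [6] 151 150 0 Tr.leaf) [12] 15 2 0 (Tr.node Tr.leaf [10] 281 133 0 Tr.leaf)) [10] 54 15 0 (Tr.node (Tr.node Tr.leaf [11] 145 218 0 Tr.leaf) [10] 51 16 0 (Tr.node Tr.leaf [5] 339 258 0 Tr.leaf)))))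
def pM_4_t_62 : Tr := (Tr.node (Tr.node (Tr.node (Tr.node (Tr.node (Tr.node Tr.leaf [11] 356 315 0 Tr.leaf) [5] 110 31 0 Tr.leaf) [1] 82 154 0 (Tr.node Tr.leaf [3] 123 240 0 Tr.leaf)) [11] 70 25 0 (Tr.node (Tr.node Tr.leaf [4] 175 168 0 Tr.leaf) [10] 40 10 0 (Tr.node Tr.leaf [8] 303 297 0 Tr.leaf))) [11] 4 37 0 (Tr.node (Tr.node (Tr.node (Tr.node Tr.leaf [5] 18 359 0 Tr.leaf) [8] 144 141 0 Tr.leaf) [1] 4 0 0 (Tr.node Tr.leaf [11] 273 179 0 Tr.leaf)) [10] 38 3 0 (Tr.node (Tr.node Tr.leaf [12] 112 214 0 Tr.leaf) [0] 68 61 0 (Tr.node Tr.leaf [12] 247 333 0 Tr.leaf)))) [6] 5 10 0 (Tr.node (Tr.node (Tr.node (Tr.node (Tr.node Tr.leaf [] 58 5 0 Tr.leaf) [0] 126 55 0 Tr.leaf) [11] 322 229 0 (Tr.node Tr.leaf [13] 161 256 0 Tr.leaf)) [4] 2 0 0 (Tr.node (Tr.node Tr.leaf [0] 102 194 0 Tr.leaf) [6] 59 57 0 (Tr.node Tr.leaf [8] 316 315 0 Tr.leaf))) [8] 17 12 0 (Tr.node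 (Tr.node (Tr.node (Tr.node Tr.leaf [0] 177 274 0 Tr.leaf) [13] 72 159 0 Tr.leaf) [5] 21 6 0 (Tr.node Tr.leaf [4] 288 192 0 Tr.leaf)) [13] 84 30 0 (Tr.node (Tr.node Tr.leaf [6] 228 227 0 Tr.leaf) [13] 92 36 0 (Tr.node Tr.leaf [5] 346 265 0 Tr.leaf)))))
def pM_4_t : Tr := (Tr.node (Tr.node (Tr.node (Tr.node (Tr.node pM_4_t_31 [3] 1 12 0 pM_4_t_47) [1] 0 0 0 (Tr.node pM_4_t_39 [2] 0 4 0 pM_4_t_55)) [6] 0 0 0 (Tr.node (Tr.node pM_4_t_35 [0] 0 7 0 pM_4_t_51) [13] 0 0 0 (Tr.node pM_4_t_43 [11] 14 58 0 pM_4_t_59))) [2] 0 0 0 (Tr.node (Tr.node (Tr.node pM_4_t_33 [10] 1 0 0 pM_4_t_49) [5] 0 0 0 (Tr.node pM_4_t_41 [12] 7 24 0 pM_4_t_57)) [10] 0 0 0 (Tr.node (Tr.node pM_4_t_37 [1] 0 8 0 pM_4_t_53) [11] 0 2 0 (Tr.node pM_4_t_45 [0] 13 49 0 pM_4_t_61)))) [0] 0 0 0 (Tr.node (Tr.node (Tr.node (Tr.node pM_4_t_32 [13] 1 14 0 pM_4_t_48) [3] 0 0 0 (Tr.node pM_4_t_40 [13]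 0 9 0 pM_4_t_56)) [8] 0 0 0 (Tr.node (Tr.node pM_4_t_36 [10] 13 51 0 pM_4_t_52) [10] 0 1 0 (Tr.node pM_4_t_44 [3] 0 3 0 pM_4_t_60))) [4] 0 0 0 (Tr.node (Tr.node (Tr.node pM_4_t_34 [12] 0 6 0 pM_4_t_50) [11] 0 0 0 (Tr.node pM_4_t_42 [12] 2 15 0 pM_4_t_58)) [12] 0 0 0 (Tr.node (Tr.node pM_4_t_38 [2] 1 11 0 pM_4_t_54) [12] 1 13 0 (Tr.node pM_4_t_46 [11] 13 52 0 pM_4_t_62)))))
def pM_4_m0 : ℕ := (nat_lit 0xc00c000000c00000330030030c0f1800c0000000000c30c800008)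
def pM_4_m1 : ℕ := (nat_lit 0x511a0000011221200000880008a2000088008800048800880048800)
def pM_4_m2 : ℕ := (nat_lit 0)
def pM_4_m3 : ℕ := (nat_lit 0)
def pM_4_m4 : ℕ := (nat_lit 0)
def pM_4_m5 : ℕ := (nat_lit 0x6121200000012000308480000000000000c1000080000000080)
def pM_4_m6 : ℕ := (nat_lit 0x888800888880000000000000222222220222200000222200)
def pM_4_m7 : ℕ := (nat_lit 0xc0000c0000c000000cc00033000f0e4000c0000000003033400004)
def pM_4_m8 : ℕ := (nat_lit 0xa225000002211210000044000451000044004400084400440084400)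
def pM_4_m9 : ℕ := (nat_lit 0)
def pM_4_m10 : ℕ := (nat_lit 0x92121000000213000348400000000000000c400050000000050)
def pM_4_m11 : ℕ := (nat_lit 0x444400444440000000000000111111112911120000111122)
def pM_4_p0 : List ℕ := [nat_lit 0x101900100f,
  nat_lit 0x1019003011,
  nat_lit 0x101900b015,
  nat_lit 0x101900d017,
  nat_lit 0xe00601500900e,
  nat_lit 0x1019009009,
  nat_lit 0x300100c003003,
  nat_lit 0xc00600d00700c,
  nat_lit 0x1019007007,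
  nat_lit 0x1001001001001,
  nat_lit 0xd00400401400500e,
  nat_lit 0x1009006008009002,
  nat_lit 0x300700600e007004,
  nat_lit 0x900500100900500a,
  nat_lit 0x2009002008009001,
  nat_lit 0x400700200e007003,
  nat_lit 0xb00100500b00500c,
  nat_lit 0xe00700d00901600700a,
  nat_lit 0x1019007007,
  nat_lit 0x7005001007005008,
  nat_lit 0x1006005003005002,
  nat_lit 0x2008002006007002,
  nat_lit 0x1019007007,
  nat_lit 0xd00500501300300e,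
  nat_lit 0xc00a00b009011009008,
  nat_lit 0x1019009009,
  nat_lit 0x2006008003005001,
  nat_lit 0x3006005005005004,
  nat_lit 0x4006008005005003,
  nat_lit 0xb00600500a00100c,
  nat_lit 0xd00501500d00a,
  nat_lit 0xb00500d00b008,
  nat_lit 0xd00501500d00a,
  nat_lit 0x400a002010009004,
  nat_lit 0x1019009009,
  nat_lit 0x900301500d00d,
  nat_lit 0xe00600101400300d,
  nat_lit 0xd00500501300300e,
  nat_lit 0x7001001006001008,
  nat_lit 0x5001004006004003002,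
  nat_lit 0xd00501500d00a,
  nat_lit 0x3006005005005004,
  nat_lit 0x3002006005004001004,
  nat_lit 0xb00500d00b008,
  nat_lit 0xe00601500900e,
  nat_lit 0x2006004003004003001,
  nat_lit 0x200e00200e00401700e002,
  nat_lit 0xd00501500d00a,
  nat_lit 0x900301500d00d,
  nat_lit 0x900300101000300a,
  nat_lit 0x6002003003001005,
  nat_lit 0x2006008003005001,
  nat_lit 0xd00500501300300e,
  nat_lit 0xd00501500d00a,
  nat_lit 0x900300101000300a,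
  nat_lit 0x1006005003005002,
  nat_lit 0x300e00301400d006,
  nat_lit 0x7001001006001008,
  nat_lit 0x400d00201300e006,
  nat_lit 0x1001001001001,
  nat_lit 0xb00600500a00100c,
  nat_lit 0xd00900700501600700e,
  nat_lit 0x900200500800100a,
  nat_lit 0x1009006008009002,
  nat_lit 0xc00500100b00100b,
  nat_lit 0x300b00300b00101200b003,
  nat_lit 0x300100c003003,
  nat_lit 0x4001003009004006002,
  nat_lit 0x3006005005005004,
  nat_lit 0x2009002008009001,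
  nat_lit 0x4006008005005003,
  nat_lit 0x5001004006004003002,
  nat_lit 0xb00500d00b008,
  nat_lit 0x700300d00b00b,
  nat_lit 0xd00501500d00a,
  nat_lit 0x400e00601400d005,
  nat_lit 0x6004003005003005,
  nat_lit 0xb00500d00b008,
  nat_lit 0x400d00201300e006,
  nat_lit 0xc00600d00700c,
  nat_lit 0x600c00300a00b001,
  nat_lit 0x2008002006007002,
  nat_lit 0x1019007007,
  nat_lit 0xd00501500d00a,
  nat_lit 0x700300d00b00b,
  nat_lit 0xc00a00b009011009008,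
  nat_lit 0xd00501500d00a,
  nat_lit 0x400a002010009004,
  nat_lit 0x1019009009,
  nat_lit 0xd00900700501600700e,
  nat_lit 0x900301500d00d,
  nat_lit 0xb00100500b00500c,
  nat_lit 0xd00501500d00a,
  nat_lit 0x900700200f00700a,
  nat_lit 0x2008002006007002,
  nat_lit 0x1019007007,
  nat_lit 0xb00500d00b008,
  nat_lit 0xd00500501300300e,
  nat_lit 0x3006005005005004,
  nat_lit 0x900500100900500a,
  nat_lit 0xe00601500900e,
  nat_lit 0xb00500d00b008,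
  nat_lit 0xc00200800a00500b,
  nat_lit 0xc00500100b00100b,
  nat_lit 0x400700200e007003,
  nat_lit 0xc00600d00700c,
  nat_lit 0xd00500501300300e,
  nat_lit 0x300700600e007004,
  nat_lit 0x2008002006007002,
  nat_lit 0x1019007007,
  nat_lit 0x4006008005005003,
  nat_lit 0x3006005005005004,
  nat_lit 0xb00900700401100900c,
  nat_lit 0x3002006005004001004,
  nat_lit 0xb00500d00b008,
  nat_lit 0x1009006008009002,
  nat_lit 0x7005001007005008,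
  nat_lit 0x300700600e007004,
  nat_lit 0x2006004003004003001,
  nat_lit 0x300b00300b00101200b003,
  nat_lit 0x700300d00b00b,
  nat_lit 0x400200300a004001005,
  nat_lit 0x1001001001001,
  nat_lit 0x6002003003001005,
  nat_lit 0x600a002009009006,
  nat_lit 0x1019009009,
  nat_lit 0x4001003009004006002,
  nat_lit 0x5001004006004003002,
  nat_lit 0xe00700d00901600700a,
  nat_lit 0x1019007007,
  nat_lit 0x400700200e007003,
  nat_lit 0x2009002008009001,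
  nat_lit 0xc00a00b009011009008,
  nat_lit 0x1019009009,
  nat_lit 0xd00501500d00a,
  nat_lit 0x900301500d00d,
  nat_lit 0x400a002010009004,
  nat_lit 0x1019009009,
  nat_lit 0xd00501500d00a,
  nat_lit 0xd00500501300300e,
  nat_lit 0x900500100900500a,
  nat_lit 0xe00600101400300d,
  nat_lit 0x900301500d00d,
  nat_lit 0xd00400401400500e,
  nat_lit 0x900200500800100a,
  nat_lit 0xd00900700501600700e,
  nat_lit 0x600e00601300d004,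
  nat_lit 0xe00601500900e,
  nat_lit 0x500c00600a00b002,
  nat_lit 0x200c00600b00b006,
  nat_lit 0x2008002006007002,
  nat_lit 0x1019007007,
  nat_lit 0x800400500e003008,
  nat_lit 0x800a00e00601600d008,
  nat_lit 0x1006005003005002,
  nat_lit 0x1009006008009002,
  nat_lit 0x7005001007005008,
  nat_lit 0x300700600e007004,
  nat_lit 0x2006004003004003001,
  nat_lit 0x900300101000300a,
  nat_lit 0x200e00200e00401700e002,
  nat_lit 0x700900100f009008,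
  nat_lit 0x600e00601300d004,
  nat_lit 0x400a002010009004,
  nat_lit 0x1019009009,
  nat_lit 0x400d00201300e006,
  nat_lit 0x400e00601400d005,
  nat_lit 0x4006008005005003,
  nat_lit 0x3002006005004001004,
  nat_lit 0x6002003003001005,
  nat_lit 0x800400500e003008,
  nat_lit 0x300700600e007004,
  nat_lit 0xa00200500800100a,
  nat_lit 0x900500100900500a,
  nat_lit 0xb00500d00b008,
  nat_lit 0x2500501504f00a,
  nat_lit 0x12d0060153a312c,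
  nat_lit 0xdb006015591158,
  nat_lit 0x2100601505301e,
  nat_lit 0x570060150fb036,
  nat_lit 0x16300601559f162,
  nat_lit 0x31006015075026,
  nat_lit 0x310020150ed00a,
  nat_lit 0x8f0060151e508e,
  nat_lit 0x54900601524915c,
  nat_lit 0x247006015543246,
  nat_lit 0x1690060155f98fa,
  nat_lit 0x2650060155ff5fc,
  nat_lit 0x61100601561360e,
  nat_lit 0x1470060154370cc,
  nat_lit 0x687006015689686,
  nat_lit 0x5b0060151d10c0,
  nat_lit 0x6ad0060156af6aa,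
  nat_lit 0x41500601521d8ec,
  nat_lit 0x6d10060156d36ce,
  nat_lit 0x1af006015323034,
  nat_lit 0x1a7006015111088,
  nat_lit 0x77b00601577d77a,
  nat_lit 0x79d00601579f79a,
  nat_lit 0x27f006015281902]
def pM_4_p1 : List ℕ := [nat_lit 0x7bf0060157c17be,
  nat_lit 0x403006015405216,
  nat_lit 0x1410060152138e8,
  nat_lit 0x6f100200c6f36ee,
  nat_lit 0x72500200c727724,
  nat_lit 0x850020011a306a,
  nat_lit 0x5d00600d1e70c8,
  nat_lit 0x3700600d125044,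
  nat_lit 0x57900600d57b578,
  nat_lit 0x1900500d023008,
  nat_lit 0x9300600d1eb136,
  nat_lit 0x3d00600d11d02a,
  nat_lit 0x3f100600d2093f0,
  nat_lit 0xbd00600d3451c8,
  nat_lit 0xcf00600d21120e,
  nat_lit 0x8b00600d1c31c2,
  nat_lit 0x1bf00600d33b338,
  nat_lit 0x5e300600d5e55e2,
  nat_lit 0x82500600d829822,
  nat_lit 0x7ef00600d7f17ee,
  nat_lit 0x71f00600d72171c,
  nat_lit 0x6ff00600d7016fc,
  nat_lit 0x6bb00600d6bf6ba,
  nat_lit 0x6a300600d6a76a2,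
  nat_lit 0x61f00600d62161c,
  nat_lit 0xa300600d2638f8,
  nat_lit 0x14300600d40d40a,
  nat_lit 0x5c900600d5cb5c6,
  nat_lit 0x59900600d25b598,
  nat_lit 0x25700600d259594,
  nat_lit 0x4500600d133092,
  nat_lit 0x24d00600d24f8f4,
  nat_lit 0x9f00600d1558ee,
  nat_lit 0x9700600d45d458,
  nat_lit 0x42900600d42b140,
  nat_lit 0x11700600d11932e,
  nat_lit 0x6300a003009191062,
  nat_lit 0x390090020100a7030,
  nat_lit 0x1b00600d04b01a,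
  nat_lit 0x2500900700501618b026,
  nat_lit 0x4100600d10d06c,
  nat_lit 0x6d00600d1a908a,
  nat_lit 0x1b00200d049008,
  nat_lit 0xdb06f0010135af148,
  nat_lit 0x5b10c90080135b5148,
  nat_lit 0x1630470010135bb1fc,
  nat_lit 0x5bd4430040145c1096,
  nat_lit 0x16909b00101316b238,
  nat_lit 0x15706f0050142530cc,
  nat_lit 0x6734fb0080136754fe,
  nat_lit 0x67d50500101367f0da,
  nat_lit 0x2710d70080132730da,
  nat_lit 0x68751300801368b516,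
  nat_lit 0x16104700501459b096,
  nat_lit 0x58d41f00801358f146,
  nat_lit 0x693159001013697524,
  nat_lit 0x58941d00101358b146,
  nat_lit 0x2752430040146b5246,
  nat_lit 0x6df55d0010136e156a,
  nat_lit 0xbf02d0050141cf01e,
  nat_lit 0x7455a5005014749260,
  nat_lit 0x8f58e900101325121a,
  nat_lit 0x12d03f008013393058,
  nat_lit 0x68f1590050146910a2,
  nat_lit 0x8d01f0040140c301e,
  nat_lit 0x12b03f004014391036,
  nat_lit 0x38b05900101338d058,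
  nat_lit 0x10b02f0050142fd026,
  nat_lit 0x8f01f008013123022,
  nat_lit 0x270090060080e9028,
  nat_lit 0x2b0090020080eb02c,
  nat_lit 0x6100700200707d064,
  nat_lit 0x2f00700600e0ab030,
  nat_lit 0x3900700200e0a503a,
  nat_lit 0x2b008002006079028,
  nat_lit 0x310030010132d3032,
  nat_lit 0x250050050132ab026,
  nat_lit 0x190090070040110e101a,
  nat_lit 0x6300d0020142cb004,
  nat_lit 0x6100e0060130f3004,
  nat_lit 0x3900d0020132c9006,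
  nat_lit 0x2f00e0030142c7006,
  nat_lit 0x32d02b00400b32f01a,
  nat_lit 0x73159500400b735598,
  nat_lit 0x6fb57500500b6fd578,
  nat_lit 0x13506900500b3c106c,
  nat_lit 0x9306900100a3c3042,
  nat_lit 0x3c708500400b3cb06c,
  nat_lit 0x1ed08500800a1ef042,
  nat_lit 0x14308300800a4110be,
  nat_lit 0x2211cd00100a43d06e,
  nat_lit 0x45703b00500b45902a,
  nat_lit 0x5c914b00100a5cd44e,
  nat_lit 0x46711f00500b14f044,
  nat_lit 0x47f05100400b48102a,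
  nat_lit 0x48305100800a48503e,
  nat_lit 0x9703b00100a4b503e,
  nat_lit 0x2b00600800318d02c,
  nat_lit 0x270050040032b5028,
  nat_lit 0x1d0050150ad0e2,
  nat_lit 0x330050153090ea,
  nat_lit 0x870050150670ec,
  nat_lit 0x50006015189026,
  nat_lit 0x10b0050152fb0a7,
  nat_lit 0x8707a0e90040160bb034,
  nat_lit 0x750310070080160a9032,
  nat_lit 0x1bf00200d3390a6,
  nat_lit 0x33700500d1bd0a6,
  nat_lit 0x11700200d33107a,
  nat_lit 0x1c100500d33d07e,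
  nat_lit 0x1b30eb00301033f1b8,
  nat_lit 0x4100200d31318c,
  nat_lit 0x6b00500d31118c,
  nat_lit 0x1c700500d3410ac,
  nat_lit 0xbd00200d3430ac,
  nat_lit 0x11b0ea002010353350,
  nat_lit 0x760500070080162c1032,
  nat_lit 0x1f0e20020102d902e,
  nat_lit 0x6d52506d20090166d96d4,
  nat_lit 0x2400600d0df01a,
  nat_lit 0x5704c0220090160b1054,
  nat_lit 0x615156612009016619614,
  nat_lit 0x40311a142009016407214,
  nat_lit 0x54921224800901624b544,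
  nat_lit 0x77f5e677c00901678177e,
  nat_lit 0x56941200101456b21a,
  nat_lit 0x1db054002008379052,
  nat_lit 0x37f0fc00600838337c,
  nat_lit 0x1cd07600600835f06a,
  nat_lit 0x11f05400600839d03c,
  nat_lit 0x1310fc0020083ab130,
  nat_lit 0x57d21e00600857f576,
  nat_lit 0x6c724a0020086cb278,
  nat_lit 0x1413300080143ff022,
  nat_lit 0x8356fe004013839704,
  nat_lit 0x5d745a0040135db462,
  nat_lit 0x4511d2002008455224,
  nat_lit 0x53320a00200e535530,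
  nat_lit 0xd71e800200e517514,
  nat_lit 0x5904c00600e2f102e,
  nat_lit 0x34f07900600e3511b4,
  nat_lit 0x11b07900200e1cb1b8,
  nat_lit 0x78526400600e787784,
  nat_lit 0x8136a800600e815812,
  nat_lit 0x56140e00200e565558,
  nat_lit 0x4f512600600e4f7152,
  nat_lit 0x3f04c00200e109020,
  nat_lit 0x4710e00600e1f7070,
  nat_lit 0xcd1aa00200e1f9138,
  nat_lit 0x64b15600600e64d64a,
  nat_lit 0x7112600200e1530d4,
  nat_lit 0x73925c00200e73b738,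
  nat_lit 0x72d25a00200e72f726,
  nat_lit 0x4231c400200e425420,
  nat_lit 0x9d11e00600e22b09c,
  nat_lit 0x34900200d34b07d,
  nat_lit 0x332b6005013329034,
  nat_lit 0x4c73c20080054c90ca,
  nat_lit 0x5f748600500516709e,
  nat_lit 0x4d13cc0040054d3070,
  nat_lit 0x4d51f00050054d7048,
  nat_lit 0x5f34820040055f509c,
  nat_lit 0x63d15000800563f0d4,
  nat_lit 0x6234b600400562509e,
  nat_lit 0x3100500801418f04f,
  nat_lit 0x310060010142a904f,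
  nat_lit 0x1191170eb0080111c5118,
  nat_lit 0x4a00900700401104d01a,
  nat_lit 0x75f5b60040037615b8,
  nat_lit 0x75b5b000500375d5b8,
  nat_lit 0x74f2540010037515ae,
  nat_lit 0x73f59c004003741166,
  nat_lit 0x7715c2005003773166,
  nat_lit 0x7db2740010037dd172,
  nat_lit 0x3ad2fe0010033af086,
  nat_lit 0x4730c400500347503c,
  nat_lit 0x49d39200800349f130,
  nat_lit 0x7fb6920040037fd69e,
  nat_lit 0x14b1d000400346b03c,
  nat_lit 0x6e72520080036e956e,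
  nat_lit 0x4c02400900801117b01c,
  nat_lit 0x2231d0001003225052,
  nat_lit 0x25925743700801125e59a,
  nat_lit 0x57b57921d008011584582,
  nat_lit 0x15509f1e5008011236234,
  nat_lit 0x24f24d213008011556552,
  nat_lit 0x13304511100801120c3f2,
  nat_lit 0x11d03d053008011128038,
  nat_lit 0x1c308b19100801134e34a,
  nat_lit 0x33b1bf0a80080113480be,
  nat_lit 0x7f17ef6890080117f87f4,
  nat_lit 0x10d0410750080110ba06e,
  nat_lit 0x4a312400400a4a5044,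
  nat_lit 0x23312400100b4a9038,
  nat_lit 0x71159000100b713160,
  nat_lit 0x26925400100b719258,
  nat_lit 0x9f0c400800b4e703e,
  nat_lit 0x80369800500a8076a2,
  nat_lit 0x70d58c00800b70f160,
  nat_lit 0x7f368c00100b7f568e]
def pM_4_p2 : List ℕ := [nat_lit 0x1ed1a400100a3cd094,
  nat_lit 0x3c71a400500b3c9136,
  nat_lit 0x3500501510304e,
  nat_lit 0x1410020153fd1c6,
  nat_lit 0x350050152dd17c,
  nat_lit 0x6800601530d088,
  nat_lit 0x30a00601530b034,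
  nat_lit 0xae0060150f701e,
  nat_lit 0x2370020150d5127,
  nat_lit 0x1d00501505504d,
  nat_lit 0x5b0020153672d9,
  nat_lit 0x72900501572b25d,
  nat_lit 0x60d00501560f235,
  nat_lit 0x703005015705583,
  nat_lit 0x210020150af04d,
  nat_lit 0x6cd0050156cf555,
  nat_lit 0xcb00501543b0b9,
  nat_lit 0x1470020154350b9,
  nat_lit 0x14500201542134d,
  nat_lit 0x41500201521b347,
  nat_lit 0x52300201552520b,
  nat_lit 0x3517c04c00501619b01e,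
  nat_lit 0x11206807a0080161b11b0,
  nat_lit 0x4100200d0b30aa,
  nat_lit 0x4500200d3eb0bc,
  nat_lit 0x1d0e10df0050160f901e,
  nat_lit 0x5904e0030100fd020,
  nat_lit 0x3f04e00201008102e,
  nat_lit 0x64f23600201065164a,
  nat_lit 0xcd0ba00201013b070,
  nat_lit 0x4490ba00301044b0ca,
  nat_lit 0x22d37a0030104870d2,
  nat_lit 0x7112800201048909c,
  nat_lit 0x48f38400201049348c,
  nat_lit 0x73925e00201073d724,
  nat_lit 0x4bb39e0030104bd4ac,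
  nat_lit 0x4f51280030104f909a,
  nat_lit 0x53320c00201053715a,
  nat_lit 0x12d10a0900090163a51e6,
  nat_lit 0x1631f80dc0090165a1592,
  nat_lit 0x26522c16a0090166015fa,
  nat_lit 0x7b964e2800090167bb282,
  nat_lit 0x210e00220090162db054,
  nat_lit 0x78b16800101478d266,
  nat_lit 0x6918900600830f06a,
  nat_lit 0x2d0df00600e2d702e,
  nat_lit 0x66d4f800200666f66a,
  nat_lit 0xc700500d3e70bb,
  nat_lit 0x1310b20020063a903c,
  nat_lit 0x6bb00200d6bd24b,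
  nat_lit 0x2900500d3dd0b1,
  nat_lit 0x5d00200d13d0bb,
  nat_lit 0x20d00500d20f1cb,
  nat_lit 0xcf00200d3f71cb,
  nat_lit 0x6c724c0020066c96b8,
  nat_lit 0x2411fa0030064e123e,
  nat_lit 0x24d00200d54b407,
  nat_lit 0x3d00200d1d90b1,
  nat_lit 0x37f0b2003006381052,
  nat_lit 0x8900500d0b50a9,
  nat_lit 0x26f22c00300665f656,
  nat_lit 0x6d00200d3650a9,
  nat_lit 0x4d53ce0040054d94ce,
  nat_lit 0x1a718e001014315067,
  nat_lit 0x33a0a80ac0040111ca1c8,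
  nat_lit 0x10d0411890080111a6042,
  nat_lit 0x2110cf33f00801142e42a,
  nat_lit 0x1eb09335f008011442222,
  nat_lit 0x7016ff57f00801170c708,
  nat_lit 0x12b00501538f082,
  nat_lit 0x4170050154191c9,
  nat_lit 0x1690020150dd489,
  nat_lit 0x5b10020155b344b,
  nat_lit 0xbf005015121081,
  nat_lit 0x8d0050153770fd,
  nat_lit 0x693002015695537,
  nat_lit 0x5b002015397081,
  nat_lit 0x8f0020151e30fd,
  nat_lit 0x27f0020157b7651,
  nat_lit 0xcb0050151f11a5,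
  nat_lit 0x1570050155ab13b,
  nat_lit 0x25f005015261441,
  nat_lit 0xdb00201525513b,
  nat_lit 0x24700201554142d,
  nat_lit 0x83500501583770b,
  nat_lit 0x471a60030103d10ca,
  nat_lit 0x2900500d0c10fa,
  nat_lit 0x5405604c00801619d022,
  nat_lit 0x2856607c00090167cd7c2,
  nat_lit 0x5b2d805c0090161d31d2,
  nat_lit 0x24113c0060084e38f0,
  nat_lit 0x66d4fa00200867165a,
  nat_lit 0x2151c51190050162173fd,
  nat_lit 0x4171c934500501641b21b,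
  nat_lit 0x3504e04b00501607f0af,
  nat_lit 0x3b0f700600836903c,
  nat_lit 0x48f38200200e4910d2,
  nat_lit 0x8ff00200d27d601,
  nat_lit 0x9f00200d4a13a5,
  nat_lit 0x3d00200d37119b,
  nat_lit 0x2900500d36f19b,
  nat_lit 0x2900500d36d2db,
  nat_lit 0x510fa00200636b03c,
  nat_lit 0x26900200d7175a1,
  nat_lit 0x81700200d8196c9,
  nat_lit 0x9700200d4b33a9,
  nat_lit 0x290f90f70050111d502a,
  nat_lit 0x3ec3231b10040112083f0,
  nat_lit 0x1e705d30b0080113c005e,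
  nat_lit 0x13304530d0080111ea046,
  nat_lit 0x1eb09330f0080113c6094,
  nat_lit 0x3f8354352004011428140,
  nat_lit 0x13e1111b20040112023e6,
  nat_lit 0x62161f4bd00801163c638,
  nat_lit 0x11d03d0f700801137403e,
  nat_lit 0xb40760aa0040110b808a,
  nat_lit 0x2630a348700801160c608,
  nat_lit 0x4610050154631d6,
  nat_lit 0xa10050154c31e9,
  nat_lit 0xd900201550b201,
  nat_lit 0x1fb0020151fd0b7,
  nat_lit 0x8fb00201526d4e3,
  nat_lit 0x7c30020157c5671,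
  nat_lit 0x79900501579b63b,
  nat_lit 0x23b3d11f80050164dd158,
  nat_lit 0x79360c002010797784,
  nat_lit 0x52f208002010531528,
  nat_lit 0x1490b8003010445444,
  nat_lit 0x4300500d37519e,
  nat_lit 0x1370b8002010139048,
  nat_lit 0xa11331ea0040164c50a2,
  nat_lit 0x50f2020030105110d8,
  nat_lit 0x52b20720900501652d525,
  nat_lit 0x12b0822f10050163a11e3,
  nat_lit 0x15b42742b00501615d541,
  nat_lit 0x950b71a9005016439435,
  nat_lit 0x55100200d553217,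
  nat_lit 0x58541c00200658757e,
  nat_lit 0xa300200d5ed491,
  nat_lit 0x44d00200d2271d3,
  nat_lit 0x12f0800020063a7120,
  nat_lit 0x4511d400200645314c,
  nat_lit 0x3700200d12907f,
  nat_lit 0x4300500d1dd07f,
  nat_lit 0x37b08000300637d1dc,
  nat_lit 0x9700200d45b36b,
  nat_lit 0x4319e05400501138702a,
  nat_lit 0x1da0fc0800040110c6044,
  nat_lit 0x54c40621800401155054e,
  nat_lit 0x45d097369008011460098,
  nat_lit 0x271002015681511,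
  nat_lit 0x5d70050155d945f,
  nat_lit 0x4b70050152390c5,
  nat_lit 0x1630020155b9139,
  nat_lit 0x5bd0050155bf445,
  nat_lit 0x6d50020156d754f,
  nat_lit 0xd30c600201023109e,
  nat_lit 0x1510c60030104f34f0,
  nat_lit 0x23d13a00200823f8f2,
  nat_lit 0x48b37e00600e48d22e,
  nat_lit 0x6a95315350050166ab695,
  nat_lit 0x4b70c51250050164b90d5,
  nat_lit 0x1611391f900501659d255,
  nat_lit 0x26900200d26b4dd,
  nat_lit 0x6a300200d6a552d,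
  nat_lit 0x6c100500d6c315d,
  nat_lit 0x70700200d709587,
  nat_lit 0x16543a0030065a3596,
  nat_lit 0x5c500500d5c7453,
  nat_lit 0x27715e0020062798fe,
  nat_lit 0x6be24a15e0040116c66c2,
  nat_lit 0x4b43ac3a80040114c2468,
  nat_lit 0x4a23a43a20040114a84a4,
  nat_lit 0x400d0020130f0064,
  nat_lit 0x400e0060140f6062,
  nat_lit 0x630040060052b1006,
  nat_lit 0x600e0060130f2030,
  nat_lit 0x600d00701419403a,
  nat_lit 0x1900500400a07301a,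
  nat_lit 0x1b00600800b18101c,
  nat_lit 0x250040040141992c9,
  nat_lit 0x250060040132cf2cb,
  nat_lit 0x270060050032b3002,
  nat_lit 0x2700500400307b002,
  nat_lit 0x2400200800a07701c,
  nat_lit 0x1b00100100a17f01c,
  nat_lit 0x4a00100500b0e701a,
  nat_lit 0x1900100500b0e501a,
  nat_lit 0x64300501564523f,
  nat_lit 0x6150020156174a7,
  nat_lit 0x82b6c600201082d81e,
  nat_lit 0x63d4c2002010641624,
  nat_lit 0x6694f400600866b664,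
  nat_lit 0x64323f4e100501664726d,
  nat_lit 0x5fb2311530050165fd0dd,
  nat_lit 0x82500200d827279,
  nat_lit 0x80300500d8056ab,
  nat_lit 0x73100500d7335a3,
  nat_lit 0x5717f00101431b058,
  nat_lit 0x351800050132e9036]
def pM_4_p3 : List ℕ := [nat_lit 0xb00e800401319f01e,
  nat_lit 0x1d0e60040130ff01e,
  nat_lit 0x1af07c008014325032,
  nat_lit 0x3307c005013321026,
  nat_lit 0x81a6cc27a004011824822,
  nat_lit 0x7185a059e00401171e71c,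
  nat_lit 0x1d0780040133190af,
  nat_lit 0x5ee49448e004011606604,
  nat_lit 0x5cc5c84560080115d45d2,
  nat_lit 0x1f0e60080052e5020,
  nat_lit 0x1f078008005317040,
  nat_lit 0x2d0e70040052eb05a,
  nat_lit 0x310030010132d1193,
  nat_lit 0x250060040131950f5,
  nat_lit 0x250050050132d50f5,
  nat_lit 0x250040040141970f1,
  nat_lit 0x7a30050157a5641,
  nat_lit 0x27b005015789605,
  nat_lit 0x7cf66b66f0050162897c5,
  nat_lit 0x7af00500d7b1647,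
  nat_lit 0x8f2e50080143db090,
  nat_lit 0x27e6005fe004011792790,
  nat_lit 0x8d3180040131df397,
  nat_lit 0x5b2ec008014399377,
  nat_lit 0x85198008003359084,
  nat_lit 0x11f0b018205800101739f132,
  nat_lit 0x3b01d07410300101739b130,
  nat_lit 0x3b01d0740ad0010171d7052,
  nat_lit 0x6f156d56b00a0046f56e1,
  nat_lit 0x2b0060040030042c502c,
  nat_lit 0x5907707400400431d02e,
  nat_lit 0x591810e80050041a102e,
  nat_lit 0x6db54d4000380010126dd072,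
  nat_lit 0x24321011b33100401253f402,
  nat_lit 0x2b00c00600b2a7006,
  nat_lit 0x2700b00700a187006,
  nat_lit 0x2f2b30270040042bd004,
  nat_lit 0x1900200400b0e300c,
  nat_lit 0x22d1db12300500422f3db,
  nat_lit 0xd105110000a00447d0c3,
  nat_lit 0x14d475473004004479399,
  nat_lit 0x3302700d00100301710f032,
  nat_lit 0x1be2d100100b36206e,
  nat_lit 0x34219700100b364042,
  nat_lit 0x2d01900301c0010122ed040,
  nat_lit 0xcd06d2aa06c0040123d7070,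
  nat_lit 0xd705d32a0c8004012519502,
  nat_lit 0x1370b62ac3130040123d5048,
  nat_lit 0x470b41903110010123d30ca,
  nat_lit 0x4ef03d0ff02a0040124f109c,
  nat_lit 0x993de31c1d90040124ed09e,
  nat_lit 0x9b02931a0380010124e9072,
  nat_lit 0x990c219f044004012497152,
  nat_lit 0x7c001004006004066028,
  nat_lit 0x2b00b00200a2a5005,
  nat_lit 0xc00100100a17e01c,
  nat_lit 0xc00200800a2a201c,
  nat_lit 0x6100c00300a2a3001,
  nat_lit 0x1b702b03a00a0041b9199,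
  nat_lit 0x3100200e0020020172b900e,
  nat_lit 0xf200100d02c0030171ad067,
  nat_lit 0x3302700d0010030171ab193,
  nat_lit 0x2500100d0010030172bf00d,
  nat_lit 0x6f06b19608c001012431424,
  nat_lit 0x1370b62d61c200401244741e,
  nat_lit 0x1900300b0030030122af01c,
  nat_lit 0x2f00b00300b00101218303a,
  nat_lit 0xc00400c0040020122a001a,
  nat_lit 0x872c5005014113088,
  nat_lit 0x10900300d2ef2ed,
  nat_lit 0x4a039b0070144ae4ac,
  nat_lit 0x2261d700201446614e,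
  nat_lit 0x821a10010081070fe,
  nat_lit 0x15300300d4eb4e9,
  nat_lit 0x830020013331ae,
  nat_lit 0x42500300d433431,
  nat_lit 0x18400200d1850a6,
  nat_lit 0xa347e00800a5ef0a0,
  nat_lit 0x60723000800a609234,
  nat_lit 0x5717e0010142e704f,
  nat_lit 0x352a20050132e30ed,
  nat_lit 0x82b90040062c32c2,
  nat_lit 0x1ed35a00800b42f144,
  nat_lit 0x23d3d600200a4df4d7,
  nat_lit 0x2413d800700a4e54d3,
  nat_lit 0x3f17e00800510103a,
  nat_lit 0x1f0e400100510503a,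
  nat_lit 0xc711000400b3e308a,
  nat_lit 0x5d11000800a1ff06e,
  nat_lit 0xa61ab00100631f0bb,
  nat_lit 0x6634f200700a6655f5,
  nat_lit 0x6594ee00200a65b167,
  nat_lit 0x2f07b0050052bb065,
  nat_lit 0x270010012cd2bf,
  nat_lit 0x451ad00100a3e10be,
  nat_lit 0x1650953644190010175c3586,
  nat_lit 0xb61b900100a3fc0d0,
  nat_lit 0x210e40080142e10ef,
  nat_lit 0x212a00080132df2c7,
  nat_lit 0x43e362414006004574570,
  nat_lit 0x1be1ab00100a3e005e,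
  nat_lit 0x2a400600800b2ae01c,
  nat_lit 0x2b2a700200a2b718d,
  nat_lit 0x79360a008005795650,
  nat_lit 0x6f75740010136f9261,
  nat_lit 0x15b3fc0040135471fd,
  nat_lit 0xd920000101450d43b,
  nat_lit 0x4fd3e20080144ff21a,
  nat_lit 0xd72000080055090ce,
  nat_lit 0x5013e400400550314a,
  nat_lit 0x12d1020010143952fb,
  nat_lit 0x6554eb00200a65763f,
  nat_lit 0x13e11300500a204092,
  nat_lit 0x13e11400400a3ea092,
  nat_lit 0x1e431e38f49e0030174af4ad,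
  nat_lit 0x14333400100a40f046,
  nat_lit 0x55d42f1f000500455f048,
  nat_lit 0x19a320003003115114,
  nat_lit 0x2ff18500300b3032f8,
  nat_lit 0x108106004003302300,
  nat_lit 0x6665f347f0d20030126680a4,
  nat_lit 0x3b90852e700a0043bd38d,
  nat_lit 0x2ae0610300030042f4084,
  nat_lit 0xd31de2e408a00401249514a,
  nat_lit 0x2d00632c4004004327325,
  nat_lit 0x7cf66700401428727c,
  nat_lit 0x27150a0010146835ab,
  nat_lit 0x6900100135b328,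
  nat_lit 0x4af0010014b122f,
  nat_lit 0x3b33020010143b7121,
  nat_lit 0x69d0a12040da00101769f172,
  nat_lit 0x5614100010055634fc,
  nat_lit 0x76d5bc54700300476f278,
  nat_lit 0x1150010011bb1b9,
  nat_lit 0x6f66df560162004017744740,
  nat_lit 0x3ad3953940020043b1132,
  nat_lit 0x2f40770040052f602e,
  nat_lit 0x6e72524ff0030046eb678,
  nat_lit 0x7555ad50d00a00475967f,
  nat_lit 0x1593ea3e000500451d414,
  nat_lit 0x3be38b1a20c000401746e14c,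
  nat_lit 0xb611600800a3ee046,
  nat_lit 0x36611600400b206092,
  nat_lit 0x6e35640080146e5674,
  nat_lit 0x61b4b200400b61d604,
  nat_lit 0x3b93af0080053bb3b2,
  nat_lit 0x6ed6e90040056ef6ec,
  nat_lit 0x5273ee00400552914a,
  nat_lit 0x51f2060080055210ce,
  nat_lit 0x74f683274002004753172,
  nat_lit 0x56f00100157151d,
  nat_lit 0xcf1bb00100a3f9046,
  nat_lit 0x20d1bb00500b3f5092,
  nat_lit 0x13535c00400b21f3e6,
  nat_lit 0x2f70840020032f92f5,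
  nat_lit 0x50520320600500450744a,
  nat_lit 0x49650300500a51b519,
  nat_lit 0x1b302b0640050041b52e1,
  nat_lit 0x79d61e0080147a1789,
  nat_lit 0x755751008005757754,
  nat_lit 0x15b3fa00501354552c,
  nat_lit 0x3a03bb00801446f46d,
  nat_lit 0x6ad52a0080146b15bf,
  nat_lit 0x69952200401369b255,
  nat_lit 0x25f2200050135a950b,
  nat_lit 0x2433f600800553d520,
  nat_lit 0x5a52200040055a7510,
  nat_lit 0x7d56ef0050057d76f3,
  nat_lit 0x13f1b600400b3f3044,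
  nat_lit 0x7d56776750050047d96e5,
  nat_lit 0x2f02f900800a305303,
  nat_lit 0x75a67d5085b3004017764760,
  nat_lit 0x1b62e0001003336084,
  nat_lit 0x27553e0040136b369a,
  nat_lit 0x7455a8005013747681,
  nat_lit 0x6a0757008014765763,
  nat_lit 0x30501f006005307078,
  nat_lit 0x5393f400100553b0d4,
  nat_lit 0x14d46b00500547746f,
  nat_lit 0x40933600500a40b140,
  nat_lit 0x7757737710040047776b1,
  nat_lit 0x76775d75b00400476b69b,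
  nat_lit 0x7e11715a900a0047e56f9,
  nat_lit 0x82b6c45466a500401282f814,
  nat_lit 0x81500400d83182f,
  nat_lit 0x3b33080080133b5055,
  nat_lit 0x767761005005769765,
  nat_lit 0x7db74774a0020047df74c,
  nat_lit 0x4bb47747a0040044bf1df,
  nat_lit 0x7e66f75726900040178007fc,
  nat_lit 0x55740c53a00a00455953c,
  nat_lit 0x7e17dd0080057e37e0,
  nat_lit 0x6374c000100a6390a0,
  nat_lit 0x2233b73b6002004471052,
  nat_lit 0x51b00100155b559,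
  nat_lit 0x80976976c00400480d6b3,
  nat_lit 0xd122500800547b472,
  nat_lit 0x63a4e809e006004662270,
  nat_lit 0x51755c004006567565,
  nat_lit 0x2856620010137c979b]
def pM_4_p4 : List ℕ := [nat_lit 0xa347c00800b5f1484,
  nat_lit 0x7da6e35676860040177ea7e8,
  nat_lit 0x7447d70080147eb7e9,
  nat_lit 0x5f75f15f000500465364c,
  nat_lit 0x26f16700400365d654,
  nat_lit 0x28565e0080147cb7ba,
  nat_lit 0x270032bd0070040652bc,
  nat_lit 0x6790d612a03504a00300e00c00d00b00d00b00300e00c00d02302203800d01867b072,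
  nat_lit 0x4c40450682a600d00400c00e00c00e00b00d00400c00e01a01e0c14630020185dd5db,
  nat_lit 0x1fb0b40ee00400c00e00c00e00b00d00400c00e00c00e00b04f18f0b30060183d9096,
  nat_lit 0x5dd00200d5df4c6,
  nat_lit 0x6500200c065065,
  nat_lit 0x3306500401432b034,
  nat_lit 0x11b2ce32100a00435532b,
  nat_lit 0x7a926c23b3d30470963d91fe0890ee01c2af01e02a23867a67c6dd6db00b0187ab6d7,
  nat_lit 0x6d900400d7ad7ab,
  nat_lit 0x10f001001357355,
  nat_lit 0x1cd2d300400335d358,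
  nat_lit 0x21035d00800b440222,
  nat_lit 0x74b26244024600401774d6b8,
  nat_lit 0x74d7e30080148017ff,
  nat_lit 0x8097fd00500580b801,
  nat_lit 0x3702de04a00d00400c00e00c00e00b00d00400c00e00c00e0230ad0ff00401838602a,
  nat_lit 0x22836801f02400e00c00e00b00d00400c00e00c00e00b00d00401a01e00801845002a,
  nat_lit 0x37602102400e00b00d00400c00e00c00e00b00d00400c00e00c02604200e0183cf1f1,
  nat_lit 0x44f0050152291d6,
  nat_lit 0x3740030151e1385,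
  nat_lit 0x3d01f20030141f33c3,
  nat_lit 0x1e2002015389387,
  nat_lit 0x3c50030151f51f3,
  nat_lit 0x1501f40060134d04ce,
  nat_lit 0x5ce22a0030135d009a,
  nat_lit 0x5d00050155d55d3,
  nat_lit 0x3ca1f600601346a152,
  nat_lit 0x1501f50070144cc4c8,
  nat_lit 0x4da4d00020145ec5e8,
  nat_lit 0x23b4c90050134db4cc,
  nat_lit 0x5e700100c5e94db,
  nat_lit 0x990c205601b00e01c05519f04438903d0ae01900d00400c00e18703400c01849905e,
  nat_lit 0xd612a03504a00300e0490550c11e13722e910402400d02302203807200b01816d0dd,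
  nat_lit 0x77f5e34665d25d509936e02102400e00b00d00400c0f134321b58270500201883b839,
  nat_lit 0x3bf00301549b499,
  nat_lit 0x83b00200d83d782,
  nat_lit 0x16d00200d6274b9,
  nat_lit 0x16f16e00700a62f16c,
  nat_lit 0x16d16b00100b267628,
  nat_lit 0x16f16b00400362d268,
  nat_lit 0x6184a62392670030176290de,
  nat_lit 0x15362900100662b61a,
  nat_lit 0x16f62f00300b63162e,
  nat_lit 0x62c6104aa0d5004017634170,
  nat_lit 0x231003015635633,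
  nat_lit 0x7a36260050137a7636,
  nat_lit 0x7af26e4e64d146949749b0c70331882b10f000c00d0230220380720dd0090187b3790,
  nat_lit 0x5c470983783e7795e114d1d845b5d95e00a10913151a72b70673e751668e00d0188407fa,
  nat_lit 0x7910030157b57b3,
  nat_lit 0x7fa840001019842776,
  nat_lit 0x7f6841001019843778,
  nat_lit 0x6af8430010198467f8,
  nat_lit 0x8068450010198477ed,
  nat_lit 0x7e7847001019849808,
  nat_lit 0x7ec84a00101984c812,
  nat_lit 0x84b00101984d832,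
  nat_lit 0x7c365c78c78e27d7b67b26464e05eb5ea26b7aa7ad6d055421540253f006018283276,
  nat_lit 0x28300200d7d1289,
  nat_lit 0x2846b600500a7c86ba,
  nat_lit 0x6c07c80010067d3289,
  nat_lit 0x2877d100600a80f80d,
  nat_lit 0x81080c00800b81c818,
  nat_lit 0x81d7d428800500481f7a1,
  nat_lit 0x79f81f00100883382d,
  nat_lit 0x83484d74200100b84f733,
  nat_lit 0x7ca85000101928b736,
  nat_lit 0x25c28b0010198547ce,
  nat_lit 0x73728b0010198527cc,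
  nat_lit 0x73c8510010198567bc,
  nat_lit 0x7be85400101985872b,
  nat_lit 0x28285600101985973e,
  nat_lit 0x85700101985b729,
  nat_lit 0x85900101985d7b8,
  nat_lit 0x79685d00601385f727,
  nat_lit 0x73085f798007016861787,
  nat_lit 0x27b786004014863861,
  nat_lit 0x71a72e86300200486581b,
  nat_lit 0xe01a1031dd2396317a77a665785c5930cb06b1960f400c0ef33d14616000d01886c716,
  nat_lit 0x71686c001019173004,
  nat_lit 0x82486500401086771d,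
  nat_lit 0x71017400101986d002,
  nat_lit 0x16017400101987101a,
  nat_lit 0x72286700500e869829,
  nat_lit 0x71417400101986f001,
  nat_lit 0x21871001019878422,
  nat_lit 0x71287000101987501a,
  nat_lit 0x70e86e001019873049,
  nat_lit 0x58a874001019879036,
  nat_lit 0x58e87600101987b01e,
  nat_lit 0x34b87800101987e038,
  nat_lit 0x2987b001019882434,
  nat_lit 0x44887a12900101987f87e,
  nat_lit 0x5ba8800010198830f4,
  nat_lit 0x22a8810010198860dc,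
  nat_lit 0x288300101988876e,
  nat_lit 0x22788500101988a720,
  nat_lit 0x388700101988c770,
  nat_lit 0x1e088900101988e86a,
  nat_lit 0x88d82888c00101988f00c,
  nat_lit 0x588f0010198920c4,
  nat_lit 0xd891001019060056,
  nat_lit 0x1c06000101917601a,
  nat_lit 0x17500101900b024,
  nat_lit 0xb00500d00b008,
  nat_lit 0x700300d00b00b,
  nat_lit 0x900700c00601100b00a,
  nat_lit 0x500c00600a00b002,
  nat_lit 0x200c00600b00b006,
  nat_lit 0x600c00300a00b001,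
  nat_lit 0xd00400c00e00c00e00b00d00400c00e00c00e00b00d00400c00e00c00a01800b00e,
  nat_lit 0x300e00c00d00b00d00b00300e00c00d00b00d00b00300e00c00d00b00301800b00d,
  nat_lit 0xd00b00300e00c00d00b00d00b00300e00c00d00b00d00b00300e00c00701800b00d,
  nat_lit 0xb00500d00b008,
  nat_lit 0x700300d00b00b,
  nat_lit 0x600c00300a00b001,
  nat_lit 0xb00600500a00100c,
  nat_lit 0x800a00c00301100b00a,
  nat_lit 0x500c00600a00b002,
  nat_lit 0x200c00600b00b006,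
  nat_lit 0x800a00c00301100b00a,
  nat_lit 0x5002006003001006,
  nat_lit 0x6002003003001005,
  nat_lit 0x5001004006004003002,
  nat_lit 0x3006005005005004,
  nat_lit 0x900500100900500a,
  nat_lit 0x1900500400a07301a,
  nat_lit 0x400d00201300e006,
  nat_lit 0x5002006003001006,
  nat_lit 0xd00501500d00a,
  nat_lit 0x900300101000300a,
  nat_lit 0x600e00601300d004,
  nat_lit 0x1770060158a310c,
  nat_lit 0x1770020151790a7,
  nat_lit 0x3900200c897030,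
  nat_lit 0x1f00200c8a102e,
  nat_lit 0x8b00200d8c507e,
  nat_lit 0x5b02d0010138d5022,
  nat_lit 0x8cb00500d8cd07d,
  nat_lit 0x8b06100800b29b01c,
  nat_lit 0x28f02700100a89d01c,
  nat_lit 0x27001001893001,
  nat_lit 0x1770ac1780090168af8a4,
  nat_lit 0x8d8a20050148db0c0,
  nat_lit 0x9038980050148a710c,
  nat_lit 0x8c619207e0040118d08cc,
  nat_lit 0x8d1060050138d9179,
  nat_lit 0x28f89400800a29101c,
  nat_lit 0x2d0e400400589f030,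
  nat_lit 0x293101001003295108,
  nat_lit 0x2407b00800b89c290,
  nat_lit 0xc00500100b89601c,
  nat_lit 0x8a918400300b8ab101,
  nat_lit 0xd00100d00100301789904f,
  nat_lit 0xe50200070058a5295,
  nat_lit 0x29318500600b8b189f,
  nat_lit 0x89e8960300060048ae8aa,
  nat_lit 0x89c0201060020048b4294,
  nat_lit 0x3900c00400c00401228d004,
  nat_lit 0x592910040058c18ad,
  nat_lit 0x3f2910010058bd8b3,
  nat_lit 0x1f0738a600a0048b5296,
  nat_lit 0x1080010018b78b5,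
  nat_lit 0x1d01900300e00c00d00b00d00b00300e00c00d00b00d00b00300e00c0070188b904f,
  nat_lit 0x8ba89900100a29801c,
  nat_lit 0x29801d00701429a020,
  nat_lit 0x2980560060138c405a,
  nat_lit 0x4d0030158bb299,
  nat_lit 0x3f8c30060148c98c2,
  nat_lit 0x4d04c8bc0030168bf109,
  nat_lit 0x1f8c00060148c78be,
  nat_lit 0x17a28e00300e00c00d00b00d00b00300e00c00d00b00d01c0408ca8ac0070188d1121,
  nat_lit 0x5b8b18c701f02400e00c00e00b00d00400c00e00c00e00b00d00428d0060188d7179,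
  nat_lit 0x8d100500d8d38b0,
  nat_lit 0x378d500100b8dd8d8,
  nat_lit 0x8d48a700800b29e906,
  nat_lit 0x29c2998b71210010178e129d,
  nat_lit 0x8e10050158e38cf,
  nat_lit 0x8de8d98dc0020048df29d,
  nat_lit 0x300e00c00d00b00d00b00300e00c00d0230220388e08e48ce0f600b0f30010188e608c,
  nat_lit 0x28e500101906029c,
  nat_lit 0x5f00101900b01b,
  nat_lit 0x1c06000101917601a,
  nat_lit 0x1b05f00101905f04a,
  nat_lit 0x17500101900b024,
  nat_lit 0x5f00101900b01b,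
  nat_lit 0xb00600500a00100c,
  nat_lit 0xb00100500b00500c,
  nat_lit 0xb00500d00b008,
  nat_lit 0x800a00c00301100b00a,
  nat_lit 0x900500100900500a,
  nat_lit 0xa00200500800100a,
  nat_lit 0x7005001007005008,
  nat_lit 0x7001001006001008]
def pM_4_p5 : List ℕ := [nat_lit 0x5004006005003006,
  nat_lit 0x300e00301400d006,
  nat_lit 0x600e00601300d004,
  nat_lit 0x400d00201300e006,
  nat_lit 0xd00100d00100301700100d,
  nat_lit 0x1006005003005002,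
  nat_lit 0x500c00600a00b002,
  nat_lit 0x200c00600b00b006,
  nat_lit 0x2006008003005001,
  nat_lit 0x600c00300a00b001,
  nat_lit 0x200e00200e00401700e002,
  nat_lit 0xd00501500d00a,
  nat_lit 0x5004006005003006,
  nat_lit 0x300b00300b00101200b003,
  nat_lit 0xb00500d00b008,
  nat_lit 0xb00600500a00100c,
  nat_lit 0xb00100500b00500c,
  nat_lit 0x5004006005003006,
  nat_lit 0x600e00601300d004,
  nat_lit 0xd00501500d00a,
  nat_lit 0x900300101000300a]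
noncomputable def pM_4 : CE where
  p0 := 0
  F := (Nat.sub (Nat.shiftLeft 1 220) 1)
  masks := [pM_4_m0, pM_4_m1, pM_4_m2, pM_4_m3, pM_4_m4, pM_4_m5, pM_4_m6, pM_4_m7, pM_4_m8, pM_4_m9, pM_4_m10, pM_4_m11]
  gprog := [11, 0, 7, 10, 11, 0, 1, 5, 6, 7, 8, 10, 11, 0, 1, 5, 6, 7, 8, 10, 11, 0, 1, 5, 6, 7, 8, 10, 11, 0, 1, 5, 6, 7, 0]
  cprog := (digs 24 400 (nat_lit 0x39700039500039300039200039000038e00038b00038900038700038400038200038000037e00037c00037900037700037400037200037000036e00036b00036900036700036400013c00036100047f00035e00035d00035c00013b00035700035500035200035100034f00034d00034a0003480003470003440003430000b900013900033f00033d00033c00033a00033700033500033200013800032d00032b00032800032600032500032200047e00013500031f00031c0000b800031200031000030e00030b0003090003070003040003020001330002fe0000b500047d0002fc0002fa00005200047c0002f40002f20002f10002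ec0002e90002e50002e30002df0002dc0002d90002d70001300002d30000b30000b20000b10002cd0002cc0002cb00012c0002ca00006e0000b00002c70002c50002c30002c10002bf0002bd0002bc0002bb0002b80002b700047b0002b50002b10002af0002ac0002a90002a700012700047a0002a50000ae00012400012300012200029d00029a0002980002960002940002920002900000ad00028b00028a00028800006d00006c00028300028100027f00027e00027b00027800012100011f00047900047800011e0000ac00026b00026900026700026400005100025e00025c00011c00025600011a00025200005000047700024f00024800024600003900006a00011700004f00004e00024200024000006900023a0000a90002340000a700004d00023100004c00022c0002290002270001120000a60002250002220000a50001110000a40002150002120000a300021000020f00020c00020b00047600020a00010d0004750000a200020500020200010b0002010000a10004740000680001070000a00001f90001f80001f30000fe00006700009c00004b0000240000660000650000380000f70001e400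004a00009b00002300004900002f0000640001dd0001da0001d70000990000980000970000960001c60001c00001be00001c0000ee00004800004700002200009000001f00001500002900001e00002e0000600000e700008e0001a80001a50000e40000460000e10000e000019c00005f00008c0001970000dc0000da0000d80000370000450000d400002100003600003500004400001a00004300018000008600017c00004200002000002d00002c00001b00001100000f00001000001700003200001900001600001400001300003100001800001d00000e00000d) ++ digs 24 400 (nat_lit 0x48300046600045500048200014a0000bc00014800041b00041600041300041100040f00040c00040a0004090004050004020003fe0003fd0003fa0003f80003f70003f40003f10003ee0003eb0003e80001430003e20003e00003df0003dd0001400004810003d80003d50003d20003cf0003cd0003ca0003c80004800003c600013e0003c30003c20003c00003be0003bd0003bb0003b90003b70003b40003b00003ae0003ab0003a80003a60003a30003a000039d00039c000399))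
  sids := [0, 1, 2, 3, 4, 5]
  t0 := pM_4_t
  s := 12
  progs := [pM_4_p0, pM_4_p1, pM_4_p2, pM_4_p3, pM_4_p4, pM_4_p5]
  O := (Nat.sub (Nat.shiftLeft 1 220) 1)
  yids := [0, 1, 2, 3, 4, 5, 6]
theorem pM_4_chk : ∃ progs, CE.check { pM_4 with progs := progs } pM_4_nets (imOf [3, 4]) pM_4_rels [[0], [2], [4], [6], [8], [10]] [[0], [2], [4], [6], [8], [10], [12]] = true :=
  ⟨pM_4.progs, by decide +kernel⟩
theorem pM_4_idx {Γ : Type*} [Group Γ] {g : ℕ → Γ} (hi : InvOk g (imOf [3, 4])) (hr : ∀ r ∈ pM_4_rels, ev g r = 1)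
    {H : Subgroup Γ} (hs : ∀ u ∈ ([[0], [2], [4], [6], [8], [10]] : List (List ℕ)), ev g u ∈ H) :
    H.relIndex (gen g [[0], [2], [4], [6], [8], [10], [12]]) ≠ 0 ∧ H.relIndex (gen g [[0], [2], [4], [6], [8], [10], [12]]) ≤ 220 :=
  Reach.relIndex_le pM_4_model hi hr hs pM_4_chk (by decide +kernel)

theorem pM_pres : CfsgLib.W2.Pres [3, 4] pM_rels [[0], [2], [4], [6], [8], [10], [12]] 95040 := fun {_} _ {g} hi hr =>
  (Bound.of_idx (n := 220) (m := 432) (Bound.of_idx (n := 48) (m := 9) (Bound.of_idx (n := 3) (m := 3) (Bound.of_idx (n := 3) (m := 1) (bound_nil g)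
    (pM_1_idx hi (conseq_sound hi hr (hs := [1025]) (by decide +kernel))))
    (pM_2_idx hi (conseq_sound hi hr (hs := [1, 1025, 2049]) (by decide +kernel))))
    (pM_3_idx hi (conseq_sound hi hr (hs := [1, 1025, 2049, 3073, 4097, 5121, 6145, 7169, 8193, 9217, 10241, 11265, 12289, 13313, 14337, 15361, 16385, 17409]) (by decide +kernel))))
    (pM_4_idx hi (conseq_sound hi hr (hs := [1, 1025, 2049, 3073, 4097, 5121, 6145, 7169, 8193, 9217, 10241, 11265, 12289, 13313, 14337, 15361, 16385, 17409, 18433, 19457, 20481, 21505, 22529, 23553]) (by decide +kernel))))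

/-- generators a b z s t w v; relators aaa zzz aza^-1z^-1 bab^-1z^-1a^-1 bzb^-1z^-1 sasa szsz tata^-1 tztz waw^-1z^-1 wzw^-1a bbb wws sbsb^-1 stst tbtb wtw^-1ts (bw)^3 vbv^-1z vz^-1v^-1b vvt vsv^-1st (av)^3 (wvwvw^-1v^-1b)^3s -/
def pL_rels : List (List ℕ) := [[0, 0, 0],
  [4, 4, 4],
  [0, 4, 1, 5],
  [2, 0, 3, 5, 1],
  [2, 4, 3, 5],
  [6, 0, 6, 0],
  [6, 4, 6, 4],
  [8, 0, 8, 1],
  [8, 4, 8, 4],
  [10, 0, 11, 5],
  [10, 4, 11, 0],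
  [2, 2, 2],
  [10, 10, 6],
  [6, 2, 6, 3],
  [6, 8, 6, 8],
  [8, 2, 8, 2],
  [10, 8, 11, 8, 6],
  [2, 10, 2, 10, 2, 10],
  [12, 2, 13, 4],
  [12, 5, 13, 2],
  [12, 12, 8],
  [12, 6, 13, 6, 8],
  [0, 12, 0, 12, 0, 12],
  [10, 12, 10, 12, 11, 13, 2, 10, 12, 10, 12, 11, 13, 2, 10, 12, 10, 12, 11, 13, 2, 6]]

def pL_1_nets_n2_0 : ℕ := (nat_lit 0x1)
def pL_1_nets_n2_1 : ℕ := (nat_lit 0x1)
def pL_1_nets_n2 : Net :=
  (Net.cons pL_1_nets_n2_0 (nat_lit 1) (Net.cons pL_1_nets_n2_1 (nat_lit 2) Net.nil))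
def pL_1_nets : List Net := [Net.nil, Net.nil, pL_1_nets_n2, Net.nil, Net.nil, Net.nil, Net.nil]
def pL_1_rels : List (List ℕ) := [[4, 4, 4]]
theorem pL_1_nets_ok : allL (Net.ok 3) pL_1_nets = true := by decide +kernel
theorem pL_1_rel_s0 : relsAt pL_1_nets 3 2 (List.range' 0 2) (sqW [3, 4] ++ pL_1_rels) = true := by decide +kernel
theorem pL_1_rel : ∀ w ∈ (sqW [3, 4] ++ pL_1_rels), ev (netGen pL_1_nets) w = 1 :=
  SlicesOk.rel (K := 2) ((SlicesOk.zero _ _ _ _).step 2 pL_1_rel_s0)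
    pL_1_nets_ok (by norm_num)
theorem pL_1_model : Model 3 pL_1_nets (imOf [3, 4]) pL_1_rels := Model.of_rel pL_1_nets_ok pL_1_rel
def pL_1_t : Tr := (Tr.node (Tr.node Tr.leaf [5] 0 0 0 Tr.leaf) [4] 0 0 0 Tr.leaf)
def pL_1_m0 : ℕ := (nat_lit 0x4)
def pL_1_m1 : ℕ := (nat_lit 0x2)
def pL_1_p0 : List ℕ := [nat_lit 0x1002001003,
  nat_lit 0x1001001001001]
noncomputable def pL_1 : CE where
  p0 := 0
  F := (Nat.sub (Nat.shiftLeft 1 3) 1)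
  masks := [pL_1_m0, pL_1_m1]
  gprog := [0, 1]
  cprog := []
  sids := []
  t0 := pL_1_t
  s := 12
  progs := [pL_1_p0]
  O := (Nat.sub (Nat.shiftLeft 1 3) 1)
  yids := [0]
theorem pL_1_chk : ∃ progs, CE.check { pL_1 with progs := progs } pL_1_nets (imOf [3, 4]) pL_1_rels [] [[4]] = true :=
  ⟨pL_1.progs, by decide +kernel⟩
theorem pL_1_idx {Γ : Type*} [Group Γ] {g : ℕ → Γ} (hi : InvOk g (imOf [3, 4])) (hr : ∀ r ∈ pL_1_rels, ev g r = 1)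
    {H : Subgroup Γ} (hs : ∀ u ∈ ([] : List (List ℕ)), ev g u ∈ H) :
    H.relIndex (gen g [[4]]) ≠ 0 ∧ H.relIndex (gen g [[4]]) ≤ 3 :=
  Reach.relIndex_le pL_1_model hi hr hs pL_1_chk (by decide +kernel)

def pL_2_nets_n0_0 : ℕ := (nat_lit 0x1)
def pL_2_nets_n0_1 : ℕ := (nat_lit 0x1)
def pL_2_nets_n0 : Net :=
  (Net.cons pL_2_nets_n0_0 (nat_lit 1) (Net.cons pL_2_nets_n0_1 (nat_lit 2) Net.nil))
def pL_2_nets : List Net := [pL_2_nets_n0, Net.nil, Net.nil, Net.nil, Net.nil, Net.nil, Net.nil]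
def pL_2_rels : List (List ℕ) := [[0, 0, 0],
  [4, 4, 4],
  [0, 4, 1, 5]]
theorem pL_2_nets_ok : allL (Net.ok 3) pL_2_nets = true := by decide +kernel
theorem pL_2_rel_s0 : relsAt pL_2_nets 3 2 (List.range' 0 2) (sqW [3, 4] ++ pL_2_rels) = true := by decide +kernel
theorem pL_2_rel : ∀ w ∈ (sqW [3, 4] ++ pL_2_rels), ev (netGen pL_2_nets) w = 1 :=
  SlicesOk.rel (K := 2) ((SlicesOk.zero _ _ _ _).step 2 pL_2_rel_s0)
    pL_2_nets_ok (by norm_num)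
theorem pL_2_model : Model 3 pL_2_nets (imOf [3, 4]) pL_2_rels := Model.of_rel pL_2_nets_ok pL_2_rel
def pL_2_t : Tr := (Tr.node (Tr.node (Tr.node Tr.leaf [5] 0 0 0 Tr.leaf) [4] 0 0 0 Tr.leaf) [0] 0 0 0 (Tr.node Tr.leaf [1] 0 0 0 Tr.leaf))
def pL_2_m0 : ℕ := (nat_lit 0x4)
def pL_2_m1 : ℕ := (nat_lit 0)
def pL_2_m2 : ℕ := (nat_lit 0x2)
def pL_2_m3 : ℕ := (nat_lit 0)
def pL_2_p0 : List ℕ := [nat_lit 0x1004001005,
  nat_lit 0x1001001001001,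
  nat_lit 0x1004005003003002,
  nat_lit 0x2004008003003001]
noncomputable def pL_2 : CE where
  p0 := 0
  F := (Nat.sub (Nat.shiftLeft 1 3) 1)
  masks := [pL_2_m0, pL_2_m1, pL_2_m2, pL_2_m3]
  gprog := [0, 2]
  cprog := []
  sids := [1]
  t0 := pL_2_t
  s := 12
  progs := [pL_2_p0]
  O := (Nat.sub (Nat.shiftLeft 1 3) 1)
  yids := [0, 1]
theorem pL_2_chk : ∃ progs, CE.check { pL_2 with progs := progs } pL_2_nets (imOf [3, 4]) pL_2_rels [[4]] [[0], [4]] = true :=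
  ⟨pL_2.progs, by decide +kernel⟩
theorem pL_2_idx {Γ : Type*} [Group Γ] {g : ℕ → Γ} (hi : InvOk g (imOf [3, 4])) (hr : ∀ r ∈ pL_2_rels, ev g r = 1)
    {H : Subgroup Γ} (hs : ∀ u ∈ ([[4]] : List (List ℕ)), ev g u ∈ H) :
    H.relIndex (gen g [[0], [4]]) ≠ 0 ∧ H.relIndex (gen g [[0], [4]]) ≤ 3 :=
  Reach.relIndex_le pL_2_model hi hr hs pL_2_chk (by decide +kernel)

def pL_3_nets_n1_0 : ℕ := (nat_lit 0x30330000000)
def pL_3_nets_n1_1 : ℕ := (nat_lit 0x3300030000)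
def pL_3_nets_n1_2 : ℕ := (nat_lit 0x300f)
def pL_3_nets_n1_3 : ℕ := (nat_lit 0xfccf)
def pL_3_nets_n1_4 : ℕ := (nat_lit 0xf333)
def pL_3_nets_n1_5 : ℕ := (nat_lit 0xc00cf00f3)
def pL_3_nets_n1_6 : ℕ := (nat_lit 0x303003000000)
def pL_3_nets_n3_0 : ℕ := (nat_lit 0x555555555555)
def pL_3_nets_n4_0 : ℕ := (nat_lit 0xf0f0f0f0f0f)
def pL_3_nets_n4_1 : ℕ := (nat_lit 0x555555444444)
def pL_3_nets_n5_0 : ℕ := (nat_lit 0x333333333333)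
def pL_3_nets_n5_1 : ℕ := (nat_lit 0x414114111111)
def pL_3_nets_n1 : Net :=
  (Net.cons pL_3_nets_n1_0 (nat_lit 2) (Net.cons pL_3_nets_n1_1 (nat_lit 8) (Net.cons pL_3_nets_n1_2 (nat_lit 16) (Net.cons pL_3_nets_n1_3 (nat_lit 32) (Net.cons pL_3_nets_n1_4 (nat_lit 16) (Net.cons pL_3_nets_n1_5 (nat_lit 8) (Net.cons pL_3_nets_n1_6 (nat_lit 2) Net.nil)))))))
def pL_3_nets_n3 : Net :=
  (Net.cons pL_3_nets_n3_0 (nat_lit 1) Net.nil)
def pL_3_nets_n4 : Net :=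
  (Net.cons pL_3_nets_n4_0 (nat_lit 4) (Net.cons pL_3_nets_n4_1 (nat_lit 1) Net.nil))
def pL_3_nets_n5 : Net :=
  (Net.cons pL_3_nets_n5_0 (nat_lit 2) (Net.cons pL_3_nets_n5_1 (nat_lit 1) Net.nil))
def pL_3_nets : List Net := [Net.nil, pL_3_nets_n1, Net.nil, pL_3_nets_n3, pL_3_nets_n4, pL_3_nets_n5, Net.nil]
def pL_3_rels : List (List ℕ) := [[0, 0, 0],
  [4, 4, 4],
  [0, 4, 1, 5],
  [2, 0, 3, 5, 1],
  [2, 4, 3, 5],
  [6, 0, 6, 0],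
  [6, 4, 6, 4],
  [8, 0, 8, 1],
  [8, 4, 8, 4],
  [10, 0, 11, 5],
  [10, 4, 11, 0],
  [2, 2, 2],
  [10, 10, 6],
  [6, 2, 6, 3],
  [6, 8, 6, 8],
  [8, 2, 8, 2],
  [10, 8, 11, 8, 6],
  [2, 10, 2, 10, 2, 10]]
theorem pL_3_nets_ok : allL (Net.ok 48) pL_3_nets = true := by decide +kernel
theorem pL_3_rel_s0 : relsAt pL_3_nets 48 6 (List.range' 0 6) (sqW [3, 4] ++ pL_3_rels) = true := by decide +kernel
theorem pL_3_rel : ∀ w ∈ (sqW [3, 4] ++ pL_3_rels), ev (netGen pL_3_nets) w = 1 :=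
  SlicesOk.rel (K := 6) ((SlicesOk.zero _ _ _ _).step 6 pL_3_rel_s0)
    pL_3_nets_ok (by norm_num)
theorem pL_3_model : Model 48 pL_3_nets (imOf [3, 4]) pL_3_rels := Model.of_rel pL_3_nets_ok pL_3_rel
def pL_3_t : Tr := (Tr.node (Tr.node (Tr.node (Tr.node Tr.leaf [3] 0 0 0 Tr.leaf) [6] 0 0 0 Tr.leaf) [2] 0 0 0 (Tr.node (Tr.node Tr.leaf [11] 0 0 0 Tr.leaf) [10] 0 0 0 Tr.leaf)) [0] 0 0 0 (Tr.node (Tr.node (Tr.node Tr.leaf [5] 0 0 0 Tr.leaf) [8] 0 0 0 Tr.leaf) [4] 0 0 0 (Tr.node Tr.leaf [1] 0 0 0 Tr.leaf)))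
def pL_3_m0 : ℕ := (nat_lit 0)
def pL_3_m1 : ℕ := (nat_lit 0xc3c33c010000)
def pL_3_m2 : ℕ := (nat_lit 0)
def pL_3_m3 : ℕ := (nat_lit 0x20202)
def pL_3_m4 : ℕ := (nat_lit 0x303030)
def pL_3_m5 : ℕ := (nat_lit 0x888888)
def pL_3_m6 : ℕ := (nat_lit 0)
def pL_3_m7 : ℕ := (nat_lit 0x3c3cc3000100)
def pL_3_m8 : ℕ := (nat_lit 0)
def pL_3_m9 : ℕ := (nat_lit 0x444444)
def pL_3_p0 : List ℕ := [nat_lit 0x101300300f,
  nat_lit 0x1013007007,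
  nat_lit 0x1013009009,
  nat_lit 0x101300b013,
  nat_lit 0xc00600d00700c,
  nat_lit 0x1013007007,
  nat_lit 0x300100c003003,
  nat_lit 0x900700200f00700a,
  nat_lit 0xb00500d00b008,
  nat_lit 0x700300d00b00b,
  nat_lit 0xb00900700401100900c,
  nat_lit 0x300700600e007004,
  nat_lit 0x400700200e007003,
  nat_lit 0x700400500e003008,
  nat_lit 0x900300101000300a,
  nat_lit 0x400a002010009004,
  nat_lit 0x1013009009,
  nat_lit 0x400c00400c00401200c004,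
  nat_lit 0xb00500d00b008,
  nat_lit 0x7001001006001008,
  nat_lit 0x7005001007005008,
  nat_lit 0x900200500800100a,
  nat_lit 0x900500100900500a,
  nat_lit 0xb00600500a00100c,
  nat_lit 0xb00100500b00500c,
  nat_lit 0x3006005005005004,
  nat_lit 0x3002006005004001004,
  nat_lit 0x4006008005005003,
  nat_lit 0xb00600500a00100c,
  nat_lit 0x900200500800100a,
  nat_lit 0xb00100500b00500c,
  nat_lit 0x3002006005004001004,
  nat_lit 0xb00100500b00500c]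
noncomputable def pL_3 : CE where
  p0 := 0
  F := (Nat.sub (Nat.shiftLeft 1 48) 1)
  masks := [pL_3_m0, pL_3_m1, pL_3_m2, pL_3_m3, pL_3_m4, pL_3_m5, pL_3_m6, pL_3_m7, pL_3_m8, pL_3_m9]
  gprog := [1, 3, 4, 5, 7, 9, 1, 3, 4, 5, 7, 9, 1, 7]
  cprog := []
  sids := [0, 2]
  t0 := pL_3_t
  s := 12
  progs := [pL_3_p0]
  O := (Nat.sub (Nat.shiftLeft 1 48) 1)
  yids := [0, 1, 2, 3, 4, 5]
theorem pL_3_chk : ∃ progs, CE.check { pL_3 with progs := progs } pL_3_nets (imOf [3, 4]) pL_3_rels [[0], [4]] [[0], [2], [4], [6], [8], [10]] = true :=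
  ⟨pL_3.progs, by decide +kernel⟩
theorem pL_3_idx {Γ : Type*} [Group Γ] {g : ℕ → Γ} (hi : InvOk g (imOf [3, 4])) (hr : ∀ r ∈ pL_3_rels, ev g r = 1)
    {H : Subgroup Γ} (hs : ∀ u ∈ ([[0], [4]] : List (List ℕ)), ev g u ∈ H) :
    H.relIndex (gen g [[0], [2], [4], [6], [8], [10]]) ≠ 0 ∧ H.relIndex (gen g [[0], [2], [4], [6], [8], [10]]) ≤ 48 :=
  Reach.relIndex_le pL_3_model hi hr hs pL_3_chk (by decide +kernel)

def pL_4_nets_n0_0 : ℕ := (nat_lit 0x402)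
def pL_4_nets_n0_1 : ℕ := (nat_lit 0x482)
def pL_4_nets_n0_2 : ℕ := (nat_lit 0x80)
def pL_4_nets_n1_0 : ℕ := (nat_lit 0x150)
def pL_4_nets_n1_1 : ℕ := (nat_lit 0xd0)
def pL_4_nets_n1_2 : ℕ := (nat_lit 0x10)
def pL_4_nets_n1_3 : ℕ := (nat_lit 0x230)
def pL_4_nets_n2_0 : ℕ := (nat_lit 0x490)
def pL_4_nets_n2_1 : ℕ := (nat_lit 0x490)
def pL_4_nets_n3_0 : ℕ := (nat_lit 0x924)
def pL_4_nets_n4_0 : ℕ := (nat_lit 0x820)
def pL_4_nets_n4_1 : ℕ := (nat_lit 0x80)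
def pL_4_nets_n4_2 : ℕ := (nat_lit 0x180)
def pL_4_nets_n4_3 : ℕ := (nat_lit 0x100)
def pL_4_nets_n4_4 : ℕ := (nat_lit 0x280)
def pL_4_nets_n5_0 : ℕ := (nat_lit 0x20)
def pL_4_nets_n5_1 : ℕ := (nat_lit 0x82)
def pL_4_nets_n5_2 : ℕ := (nat_lit 0x186)
def pL_4_nets_n5_3 : ℕ := (nat_lit 0x104)
def pL_4_nets_n5_4 : ℕ := (nat_lit 0x2aa)
def pL_4_nets_n6_0 : ℕ := (nat_lit 0xa85)
def pL_4_nets_n6_1 : ℕ := (nat_lit 0x600)
def pL_4_nets_n6_2 : ℕ := (nat_lit 0xc0)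
def pL_4_nets_n6_3 : ℕ := (nat_lit 0x260)
def pL_4_nets_n0 : Net :=
  (Net.cons pL_4_nets_n0_0 (nat_lit 1) (Net.cons pL_4_nets_n0_1 (nat_lit 2) (Net.cons pL_4_nets_n0_2 (nat_lit 1) Net.nil)))
def pL_4_nets_n1 : Net :=
  (Net.cons pL_4_nets_n1_0 (nat_lit 1) (Net.cons pL_4_nets_n1_1 (nat_lit 4) (Net.cons pL_4_nets_n1_2 (nat_lit 8) (Net.cons pL_4_nets_n1_3 (nat_lit 2) Net.nil))))
def pL_4_nets_n2 : Net :=
  (Net.cons pL_4_nets_n2_0 (nat_lit 2) (Net.cons pL_4_nets_n2_1 (nat_lit 1) Net.nil))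
def pL_4_nets_n3 : Net :=
  (Net.cons pL_4_nets_n3_0 (nat_lit 1) Net.nil)
def pL_4_nets_n4 : Net :=
  (Net.cons pL_4_nets_n4_0 (nat_lit 1) (Net.cons pL_4_nets_n4_1 (nat_lit 2) (Net.cons pL_4_nets_n4_2 (nat_lit 4) (Net.cons pL_4_nets_n4_3 (nat_lit 2) (Net.cons pL_4_nets_n4_4 (nat_lit 1) Net.nil)))))
def pL_4_nets_n5 : Net :=
  (Net.cons pL_4_nets_n5_0 (nat_lit 1) (Net.cons pL_4_nets_n5_1 (nat_lit 2) (Net.cons pL_4_nets_n5_2 (nat_lit 4) (Net.cons pL_4_nets_n5_3 (nat_lit 2) (Net.cons pL_4_nets_n5_4 (nat_lit 1) Net.nil)))))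
def pL_4_nets_n6 : Net :=
  (Net.cons pL_4_nets_n6_0 (nat_lit 1) (Net.cons pL_4_nets_n6_1 (nat_lit 2) (Net.cons pL_4_nets_n6_2 (nat_lit 4) (Net.cons pL_4_nets_n6_3 (nat_lit 2) Net.nil))))
def pL_4_nets : List Net := [pL_4_nets_n0, pL_4_nets_n1, pL_4_nets_n2, pL_4_nets_n3, pL_4_nets_n4, pL_4_nets_n5, pL_4_nets_n6]
def pL_4_rels : List (List ℕ) := [[0, 0, 0],
  [4, 4, 4],
  [0, 4, 1, 5],
  [2, 0, 3, 5, 1],
  [2, 4, 3, 5],
  [6, 0, 6, 0],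
  [6, 4, 6, 4],
  [8, 0, 8, 1],
  [8, 4, 8, 4],
  [10, 0, 11, 5],
  [10, 4, 11, 0],
  [2, 2, 2],
  [10, 10, 6],
  [6, 2, 6, 3],
  [6, 8, 6, 8],
  [8, 2, 8, 2],
  [10, 8, 11, 8, 6],
  [2, 10, 2, 10, 2, 10],
  [12, 2, 13, 4],
  [12, 5, 13, 2],
  [12, 12, 8],
  [12, 6, 13, 6, 8],
  [0, 12, 0, 12, 0, 12],
  [10, 12, 10, 12, 11, 13, 2, 10, 12, 10, 12, 11, 13, 2, 10, 12, 10, 12, 11, 13, 2, 6]]
theorem pL_4_nets_ok : allL (Net.ok 13) pL_4_nets = true := by decide +kernel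
theorem pL_4_rel_s0 : relsAt pL_4_nets 13 4 (List.range' 0 4) (sqW [3, 4] ++ pL_4_rels) = true := by decide +kernel
theorem pL_4_rel : ∀ w ∈ (sqW [3, 4] ++ pL_4_rels), ev (netGen pL_4_nets) w = 1 :=
  SlicesOk.rel (K := 4) ((SlicesOk.zero _ _ _ _).step 4 pL_4_rel_s0)
    pL_4_nets_ok (by norm_num)
theorem pL_4_model : Model 13 pL_4_nets (imOf [3, 4]) pL_4_rels := Model.of_rel pL_4_nets_ok pL_4_rel
def pL_4_t_31 : Tr := (Tr.node (Tr.node (Tr.node (Tr.node (Tr.node (Tr.node Tr.leaf [1] 200 307 0 Tr.leaf) [0] 412 489 0 Tr.leaf) [10] 313 417 0 (Tr.node (Tr.node Tr.leaf [1] 347 446 0 Tr.leaf) [1] 86 158 0 Tr.leaf)) [10] 129 222 0 (Tr.node (Tr.node (Tr.node Tr.leaf [4] 374 280 0 Tr.leaf) [3] 67 66 0 Tr.leaf) [13] 92 172 0 (Tr.node (Tr.node Tr.leaf [12] 424 498 0 Tr.leaf) [2] 235 147 0 Tr.leaf))) [4] 64 33 0 (Tr.node (Tr.node (Tr.node (Tr.node Tr.leaf [1] 233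 344 0 Tr.leaf) [6] 41 31 0 Tr.leaf) [10] 64 32 0 (Tr.node (Tr.node Tr.leaf [10] 476 439 0 Tr.leaf) [8] 200 199 0 Tr.leaf)) [12] 120 60 0 (Tr.node (Tr.node (Tr.node Tr.leaf [11] 303 407 0 Tr.leaf) [6] 118 117 0 Tr.leaf) [12] 198 302 0 (Tr.node (Tr.node Tr.leaf [] 1 0 0 Tr.leaf) [1] 272 271 0 Tr.leaf)))) [8] 2 1 0 (Tr.node (Tr.node (Tr.node (Tr.node (Tr.node Tr.leaf [2] 215 323 0 Tr.leaf) [2] 8 17 0 Tr.leaf) [13] 16 10 0 (Tr.node (Tr.node Tr.leaf [0] 459 376 0 Tr.leaf) [5] 126 82 0 Tr.leaf)) [10] 33 16 0 (Tr.node (Tr.node (Tr.node Tr.leaf [6] 391 385 0 Tr.leaf) [8] 98 96 0 Tr.leaf) [5] 221 134 0 (Tr.node (Tr.node Tr.leaf [] 395 334 0 Tr.leaf) [8] 252 227 0 Tr.leaf))) [6] 22 15 0 (Tr.node (Tr.node (Tr.node (Tr.node Tr.leaf [10] 352 355 0 Tr.leaf) [10] 60 30 0 Tr.leaf) [4] 115 60 0 (Tr.node (Tr.node Tr.leaf [3] 408 485 0 Tr.leaf) [6] 218 217 0 Tr.leaf))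 [8] 232 231 0 (Tr.node (Tr.node (Tr.node Tr.leaf [0] 425 414 0 Tr.leaf) [0] 73 141 0 Tr.leaf) [11] 251 368 0 (Tr.node Tr.leaf [11] 156 288 0 Tr.leaf)))))
def pL_4_t_47 : Tr := (Tr.node (Tr.node (Tr.node (Tr.node (Tr.node (Tr.node Tr.leaf [12] 313 221 0 Tr.leaf) [3] 4 7 0 Tr.leaf) [4] 6 3 0 (Tr.node (Tr.node Tr.leaf [1] 452 363 0 Tr.leaf) [4] 164 92 0 Tr.leaf)) [8] 8 5 0 (Tr.node (Tr.node (Tr.node Tr.leaf [8] 383 382 0 Tr.leaf) [11] 92 48 0 Tr.leaf) [12] 199 117 0 (Tr.node (Tr.node Tr.leaf [11] 481 504 0 Tr.leaf) [8] 245 243 0 Tr.leaf))) [11] 313 418 0 (Tr.node (Tr.node (Tr.node (Tr.node Tr.leaf [10] 246 350 0 Tr.leaf) [12] 32 31 0 Tr.leaf) [8] 93 92 0 (Tr.node (Tr.node Tr.leaf [] 472 369 0 Tr.leaf) [8] 209 208 0 Tr.leaf)) [13] 67 184 0 (Tr.node (Tr.node (Tr.node Tr.leaf [0] 417 408 0 Tr.leaf) [1] 67 132 0 Tr.leaf) [12] 332 226 0 (Tr.node (Tr.node Tr.leaf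 [11] 297 402 0 Tr.leaf) [3] 280 231 0 Tr.leaf)))) [6] 65 64 0 (Tr.node (Tr.node (Tr.node (Tr.node (Tr.node Tr.leaf [8] 331 330 0 Tr.leaf) [2] 12 28 0 Tr.leaf) [13] 21 48 0 (Tr.node (Tr.node Tr.leaf [8] 468 467 0 Tr.leaf) [8] 186 185 0 Tr.leaf)) [11] 37 78 0 (Tr.node (Tr.node (Tr.node Tr.leaf [13] 289 400 0 Tr.leaf) [6] 105 100 0 Tr.leaf) [3] 133 250 0 (Tr.node (Tr.node Tr.leaf [] 494 6 0 Tr.leaf) [11] 261 180 0 Tr.leaf))) [12] 64 124 0 (Tr.node (Tr.node (Tr.node (Tr.node Tr.leaf [1] 364 248 0 Tr.leaf) [2] 71 29 0 Tr.leaf) [6] 137 136 0 (Tr.node (Tr.node Tr.leaf [10] 492 488 0 Tr.leaf) [0] 227 211 0 Tr.leaf)) [13] 198 303 0 (Tr.node (Tr.node (Tr.node Tr.leaf [10] 434 344 0 Tr.leaf) [12] 148 81 0 Tr.leaf) [10] 338 434 0 (Tr.node Tr.leaf [8] 296 273 0 Tr.leaf)))))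
def pL_4_t_39 : Tr := (Tr.node (Tr.node (Tr.node (Tr.node (Tr.node (Tr.node Tr.leaf [12] 310 227 0 Tr.leaf) [] 425 6 0 Tr.leaf) [] 438 436 0 (Tr.node (Tr.node Tr.leaf [8] 449 446 0 Tr.leaf) [10] 67 111 0 Tr.leaf)) [12] 279 392 0 (Tr.node (Tr.node (Tr.node Tr.leaf [13] 263 379 0 Tr.leaf) [12] 68 39 0 Tr.leaf) [8] 189 175 0 (Tr.node (Tr.node Tr.leaf [3] 431 502 0 Tr.leaf) [1] 240 222 0 Tr.leaf))) [11] 68 151 0 (Tr.node (Tr.node (Tr.node (Tr.node Tr.leaf [11] 333 346 0 Tr.leaf) [11] 39 19 0 Tr.leaf) [8] 74 73 0 (Tr.node (Tr.node Tr.leaf [4] 479 457 0 Tr.leaf) [3] 203 121 0 Tr.leaf)) [13] 130 67 0 (Tr.node (Tr.node (Tr.node Tr.leaf [6] 411 410 0 Tr.leaf) [6] 125 125 0 Tr.leaf) [6] 320 313 0 (Tr.node (Tr.node Tr.leaf [1] 170 268 0 Tr.leaf) [6] 276 273 0 Tr.leaf)))) [8] 16 15 0 (Tr.node (Tr.node (Tr.node (Tr.node (Tr.node Tr.leaf [8] 328 325 0 Tr.leaf) [8]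 23 21 0 Tr.leaf) [2] 11 34 0 (Tr.node (Tr.node Tr.leaf [4] 464 397 0 Tr.leaf) [4] 180 82 0 Tr.leaf)) [10] 27 57 0 (Tr.node (Tr.node (Tr.node Tr.leaf [11] 395 283 0 Tr.leaf) [6] 102 101 0 Tr.leaf) [8] 237 236 0 (Tr.node (Tr.node Tr.leaf [] 499 7 0 Tr.leaf) [6] 256 253 0 Tr.leaf))) [11] 29 61 0 (Tr.node (Tr.node (Tr.node (Tr.node Tr.leaf [13] 242 361 0 Tr.leaf) [8] 63 59 0 Tr.leaf) [6] 124 124 0 (Tr.node (Tr.node Tr.leaf [10] 489 421 0 Tr.leaf) [13] 222 195 0 Tr.leaf)) [2] 150 242 0 (Tr.node (Tr.node (Tr.node Tr.leaf [13] 429 327 0 Tr.leaf) [6] 144 143 0 Tr.leaf) [2] 306 412 0 (Tr.node Tr.leaf [8] 292 289 0 Tr.leaf)))))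
def pL_4_t_55 : Tr := (Tr.node (Tr.node (Tr.node (Tr.node (Tr.node (Tr.node Tr.leaf [5] 316 209 0 Tr.leaf) [1] 4 3 0 Tr.leaf) [6] 15 15 0 (Tr.node (Tr.node Tr.leaf [8] 455 452 0 Tr.leaf) [8] 172 171 0 Tr.leaf)) [8] 15 15 0 (Tr.node (Tr.node (Tr.node Tr.leaf [10] 275 388 0 Tr.leaf) [12] 96 63 0 Tr.leaf) [10] 208 121 0 (Tr.node (Tr.node Tr.leaf [] 501 460 0 Tr.leaf) [0] 130 249 0 Tr.leaf))) [10] 3 11 0 (Tr.node (Tr.node (Tr.node (Tr.node Tr.leaf [11] 354 242 0 Tr.leaf) [0] 19 51 0 Tr.leaf) [3] 54 110 0 (Tr.node (Tr.node Tr.leaf [11] 404 482 0 Tr.leaf) [1] 125 214 0 Tr.leaf)) [10] 120 208 0 (Tr.node (Tr.node (Tr.node Tr.leaf [2] 316 422 0 Tr.leaf) [11] 137 74 0 Tr.leaf) [2] 225 358 0 (Tr.node Tr.leaf [2] 212 184 0 Tr.leaf)))) [12] 11 26 0 (Tr.node (Tr.node (Tr.node (Tr.node (Tr.node Tr.leaf [13] 336 234 0 Tr.leaf) [5] 35 13 0 Tr.leaf) [6] 56 56 0 (Tr.node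 (Tr.node Tr.leaf [10] 392 473 0 Tr.leaf) [11] 190 107 0 Tr.leaf)) [11] 46 94 0 (Tr.node (Tr.node (Tr.node Tr.leaf [0] 302 404 0 Tr.leaf) [3] 110 109 0 Tr.leaf) [2] 177 282 0 (Tr.node (Tr.node Tr.leaf [] 483 2 0 Tr.leaf) [3] 179 267 0 Tr.leaf))) [8] 151 150 0 (Tr.node (Tr.node (Tr.node (Tr.node Tr.leaf [1] 253 369 0 Tr.leaf) [8] 77 77 0 Tr.leaf) [2] 80 154 0 (Tr.node (Tr.node Tr.leaf [12] 495 420 0 Tr.leaf) [2] 136 230 0 Tr.leaf)) [11] 231 341 0 (Tr.node (Tr.node (Tr.node Tr.leaf [2] 341 441 0 Tr.leaf) [6] 153 129 0 Tr.leaf) [13] 378 463 0 (Tr.node Tr.leaf [6] 300 297 0 Tr.leaf)))))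
def pL_4_t_35 : Tr := (Tr.node (Tr.node (Tr.node (Tr.node (Tr.node (Tr.node Tr.leaf [2] 309 219 0 Tr.leaf) [] 474 372 0 Tr.leaf) [4] 488 413 0 (Tr.node (Tr.node Tr.leaf [13] 350 448 0 Tr.leaf) [8] 159 150 0 Tr.leaf)) [2] 176 279 0 (Tr.node (Tr.node (Tr.node Tr.leaf [13] 261 377 0 Tr.leaf) [3] 41 85 0 Tr.leaf) [4] 176 136 0 (Tr.node (Tr.node Tr.leaf [12] 426 500 0 Tr.leaf) [10] 215 148 0 Tr.leaf))) [13] 33 86 0 (Tr.node (Tr.node (Tr.node (Tr.node Tr.leaf [13] 346 237 0 Tr.leaf) [6] 43 42 0 Tr.leaf) [13] 72 42 0 (Tr.node (Tr.node Tr.leaf [4] 456 478 0 Tr.leaf) [4] 201 128 0 Tr.leaf)) [4] 122 66 0 (Tr.node (Tr.node (Tr.node Tr.leaf [5] 409 306 0 Tr.leaf) [8] 121 121 0 Tr.leaf) [3] 206 314 0 (Tr.node (Tr.node Tr.leaf [2] 93 173 0 Tr.leaf) [12] 274 190 0 Tr.leaf)))) [10] 29 60 0 (Tr.node (Tr.node (Tr.node (Tr.node (Tr.node Tr.leaf [1] 325 308 0 Tr.leaf) [12]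 19 9 0 Tr.leaf) [6] 27 27 0 (Tr.node (Tr.node Tr.leaf [8] 461 460 0 Tr.leaf) [11] 97 179 0 Tr.leaf)) [8] 41 32 0 (Tr.node (Tr.node (Tr.node Tr.leaf [13] 279 393 0 Tr.leaf) [0] 100 89 0 Tr.leaf) [8] 226 225 0 (Tr.node (Tr.node Tr.leaf [] 380 46 0 Tr.leaf) [8] 254 253 0 Tr.leaf))) [8] 38 37 0 (Tr.node (Tr.node (Tr.node (Tr.node Tr.leaf [13] 358 225 0 Tr.leaf) [0] 30 62 0 Tr.leaf) [8] 120 120 0 (Tr.node (Tr.node Tr.leaf [4] 487 485 0 Tr.leaf) [3] 221 214 0 Tr.leaf)) [11] 238 149 0 (Tr.node (Tr.node (Tr.node Tr.leaf [12] 427 328 0 Tr.leaf) [8] 142 141 0 Tr.leaf) [12] 267 382 0 (Tr.node Tr.leaf [10] 184 291 0 Tr.leaf)))))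
def pL_4_t_51 : Tr := (Tr.node (Tr.node (Tr.node (Tr.node (Tr.node (Tr.node Tr.leaf [10] 206 315 0 Tr.leaf) [8] 8 9 0 Tr.leaf) [11] 2 10 0 (Tr.node (Tr.node Tr.leaf [10] 361 454 0 Tr.leaf) [6] 170 166 0 Tr.leaf)) [13] 6 7 0 (Tr.node (Tr.node (Tr.node Tr.leaf [8] 386 385 0 Tr.leaf) [12] 58 85 0 Tr.leaf) [13] 116 203 0 (Tr.node (Tr.node Tr.leaf [] 475 344 0 Tr.leaf) [4] 247 156 0 Tr.leaf))) [10] 2 8 0 (Tr.node (Tr.node (Tr.node (Tr.node Tr.leaf [3] 215 353 0 Tr.leaf) [8] 49 39 0 Tr.leaf) [3] 52 107 0 (Tr.node (Tr.node Tr.leaf [] 470 370 0 Tr.leaf) [5] 212 125 0 Tr.leaf)) [10] 112 194 0 (Tr.node (Tr.node (Tr.node Tr.leaf [10] 419 321 0 Tr.leaf) [1] 134 133 0 Tr.leaf) [0] 231 338 0 (Tr.node Tr.leaf [6] 282 279 0 Tr.leaf)))) [11] 133 226 0 (Tr.node (Tr.node (Tr.node (Tr.node (Tr.node Tr.leaf [2] 334 231 0 Tr.leaf) [8] 31 31 0 Tr.leaf) [6] 51 41 0 (Tr.node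 (Tr.node Tr.leaf [2] 388 471 0 Tr.leaf) [11] 98 188 0 Tr.leaf)) [12] 84 39 0 (Tr.node (Tr.node (Tr.node Tr.leaf [6] 401 399 0 Tr.leaf) [3] 53 108 0 Tr.leaf) [1] 168 265 0 (Tr.node (Tr.node Tr.leaf [] 488 6 0 Tr.leaf) [0] 168 264 0 Tr.leaf))) [1] 71 135 0 (Tr.node (Tr.node (Tr.node (Tr.node Tr.leaf [8] 367 366 0 Tr.leaf) [0] 37 75 0 Tr.leaf) [12] 65 148 0 (Tr.node (Tr.node Tr.leaf [3] 419 493 0 Tr.leaf) [6] 229 228 0 Tr.leaf)) [1] 216 324 0 (Tr.node (Tr.node (Tr.node Tr.leaf [11] 339 437 0 Tr.leaf) [12] 82 152 0 Tr.leaf) [11] 300 458 0 (Tr.node Tr.leaf [8] 298 297 0 Tr.leaf)))))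
def pL_4_t_43 : Tr := (Tr.node (Tr.node (Tr.node (Tr.node (Tr.node (Tr.node Tr.leaf [3] 311 307 0 Tr.leaf) [4] 2 2 0 Tr.leaf) [6] 2 2 0 (Tr.node (Tr.node Tr.leaf [0] 357 451 0 Tr.leaf) [1] 162 92 0 Tr.leaf)) [8] 5 5 0 (Tr.node (Tr.node (Tr.node Tr.leaf [4] 381 336 0 Tr.leaf) [13] 44 89 0 Tr.leaf) [6] 195 194 0 (Tr.node (Tr.node Tr.leaf [5] 503 438 0 Tr.leaf) [5] 226 151 0 Tr.leaf))) [10] 124 213 0 (Tr.node (Tr.node (Tr.node (Tr.node Tr.leaf [12] 213 348 0 Tr.leaf) [12] 21 47 0 Tr.leaf) [8] 81 65 0 (Tr.node (Tr.node Tr.leaf [13] 480 449 0 Tr.leaf) [8] 206 206 0 Tr.leaf)) [8] 156 155 0 (Tr.node (Tr.node (Tr.node Tr.leaf [10] 415 413 0 Tr.leaf) [5] 129 68 0 Tr.leaf) [10] 216 325 0 (Tr.node (Tr.node Tr.leaf [1] 232 342 0 Tr.leaf) [8] 278 277 0 Tr.leaf)))) [1] 2 7 0 (Tr.node (Tr.node (Tr.node (Tr.node (Tr.node Tr.leaf [6] 330 329 0 Tr.leaf) [3] 11 25 0 Tr.leaf)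 [0] 18 42 0 (Tr.node (Tr.node Tr.leaf [3] 432 466 0 Tr.leaf) [3] 182 149 0 Tr.leaf)) [12] 35 71 0 (Tr.node (Tr.node (Tr.node Tr.leaf [12] 286 398 0 Tr.leaf) [2] 50 104 0 Tr.leaf) [12] 244 151 0 (Tr.node (Tr.node Tr.leaf [] 500 3 0 Tr.leaf) [4] 259 168 0 Tr.leaf))) [8] 86 68 0 (Tr.node (Tr.node (Tr.node (Tr.node Tr.leaf [10] 244 363 0 Tr.leaf) [4] 69 27 0 Tr.leaf) [12] 66 129 0 (Tr.node (Tr.node Tr.leaf [1] 413 491 0 Tr.leaf) [8] 224 221 0 Tr.leaf)) [6] 246 243 0 (Tr.node (Tr.node (Tr.node Tr.leaf [6] 432 430 0 Tr.leaf) [12] 146 77 0 Tr.leaf) [4] 421 318 0 (Tr.node Tr.leaf [8] 294 279 0 Tr.leaf)))))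
def pL_4_t_59 : Tr := (Tr.node (Tr.node (Tr.node (Tr.node (Tr.node (Tr.node Tr.leaf [2] 209 319 0 Tr.leaf) [10] 13 14 0 Tr.leaf) [1] 11 11 0 (Tr.node (Tr.node Tr.leaf [12] 366 457 0 Tr.leaf) [11] 175 109 0 Tr.leaf)) [13] 9 22 0 (Tr.node (Tr.node (Tr.node Tr.leaf [12] 276 390 0 Tr.leaf) [11] 81 53 0 Tr.leaf) [13] 217 131 0 (Tr.node (Tr.node Tr.leaf [10] 381 396 0 Tr.leaf) [8] 251 250 0 Tr.leaf))) [3] 8 18 0 (Tr.node (Tr.node (Tr.node (Tr.node Tr.leaf [12] 356 240 0 Tr.leaf) [8] 54 52 0 Tr.leaf) [13] 56 113 0 (Tr.node (Tr.node Tr.leaf [11] 483 428 0 Tr.leaf) [2] 216 204 0 Tr.leaf)) [12] 213 208 0 (Tr.node (Tr.node (Tr.node Tr.leaf [10] 324 424 0 Tr.leaf) [8] 139 137 0 Tr.leaf) [12] 242 360 0 (Tr.node Tr.leaf [12] 285 191 0 Tr.leaf)))) [6] 30 29 0 (Tr.node (Tr.node (Tr.node (Tr.node (Tr.node Tr.leaf [11] 341 233 0 Tr.leaf) [12] 14 37 0 Tr.leaf) [5] 59 32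 0 (Tr.node (Tr.node Tr.leaf [2] 394 475 0 Tr.leaf) [6] 193 192 0 Tr.leaf)) [6] 116 115 0 (Tr.node (Tr.node (Tr.node Tr.leaf [10] 405 309 0 Tr.leaf) [11] 114 66 0 Tr.leaf) [2] 190 296 0 (Tr.node (Tr.node Tr.leaf [] 490 7 0 Tr.leaf) [8] 270 269 0 Tr.leaf))) [6] 210 206 0 (Tr.node (Tr.node (Tr.node (Tr.node Tr.leaf [6] 371 369 0 Tr.leaf) [8] 79 76 0 Tr.leaf) [10] 86 159 0 (Tr.node (Tr.node Tr.leaf [0] 496 484 0 Tr.leaf) [1] 234 191 0 Tr.leaf)) [11] 250 366 0 (Tr.node (Tr.node (Tr.node Tr.leaf [3] 343 444 0 Tr.leaf) [6] 156 156 0 Tr.leaf) [0] 474 395 0 (Tr.node Tr.leaf [4] 303 200 0 Tr.leaf)))))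
def pL_4_t_33 : Tr := (Tr.node (Tr.node (Tr.node (Tr.node (Tr.node (Tr.node Tr.leaf [8] 308 306 0 Tr.leaf) [] 439 434 0 Tr.leaf) [10] 339 436 0 (Tr.node (Tr.node Tr.leaf [12] 350 447 0 Tr.leaf) [8] 158 134 0 Tr.leaf)) [10] 133 225 0 (Tr.node (Tr.node (Tr.node Tr.leaf [8] 375 374 0 Tr.leaf) [12] 39 84 0 Tr.leaf) [10] 95 174 0 (Tr.node (Tr.node Tr.leaf [13] 425 499 0 Tr.leaf) [10] 236 147 0 Tr.leaf))) [6] 81 80 0 (Tr.node (Tr.node (Tr.node (Tr.node Tr.leaf [12] 236 345 0 Tr.leaf) [11] 42 28 0 Tr.leaf) [8] 68 68 0 (Tr.node (Tr.node Tr.leaf [10] 398 478 0 Tr.leaf) [3] 200 199 0 Tr.leaf)) [6] 121 120 0 (Tr.node (Tr.node (Tr.node Tr.leaf [10] 304 408 0 Tr.leaf) [0] 118 64 0 Tr.leaf) [5] 303 216 0 (Tr.node (Tr.node Tr.leaf [2] 91 165 0 Tr.leaf) [3] 273 193 0 Tr.leaf)))) [0] 2 6 0 (Tr.node (Tr.node (Tr.node (Tr.node (Tr.node Tr.leaf [5] 324 307 0 Tr.leaf) [3]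 18 17 0 Tr.leaf) [6] 26 26 0 (Tr.node (Tr.node Tr.leaf [2] 460 430 0 Tr.leaf) [0] 178 163 0 Tr.leaf)) [0] 16 40 0 (Tr.node (Tr.node (Tr.node Tr.leaf [3] 392 337 0 Tr.leaf) [12] 99 76 0 Tr.leaf) [12] 194 223 0 (Tr.node (Tr.node Tr.leaf [] 265 140 0 Tr.leaf) [12] 161 253 0 Tr.leaf))) [10] 33 15 0 (Tr.node (Tr.node (Tr.node (Tr.node Tr.leaf [13] 357 240 0 Tr.leaf) [11] 61 30 0 Tr.leaf) [5] 116 61 0 (Tr.node (Tr.node Tr.leaf [5] 486 413 0 Tr.leaf) [6] 219 216 0 Tr.leaf)) [6] 233 231 0 (Tr.node (Tr.node (Tr.node Tr.leaf [2] 325 426 0 Tr.leaf) [0] 74 142 0 Tr.leaf) [12] 260 374 0 (Tr.node Tr.leaf [8] 288 286 0 Tr.leaf)))))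
def pL_4_t_49 : Tr := (Tr.node (Tr.node (Tr.node (Tr.node (Tr.node (Tr.node Tr.leaf [12] 314 224 0 Tr.leaf) [2] 6 6 0 Tr.leaf) [1] 5 5 0 (Tr.node (Tr.node Tr.leaf [11] 360 453 0 Tr.leaf) [13] 168 94 0 Tr.leaf)) [11] 9 2 0 (Tr.node (Tr.node (Tr.node Tr.leaf [13] 384 272 0 Tr.leaf) [6] 94 93 0 Tr.leaf) [12] 116 202 0 (Tr.node (Tr.node Tr.leaf [] 503 439 0 Tr.leaf) [8] 246 242 0 Tr.leaf))) [13] 3 4 0 (Tr.node (Tr.node (Tr.node (Tr.node Tr.leaf [13] 238 352 0 Tr.leaf) [12] 40 32 0 Tr.leaf) [3] 31 96 0 (Tr.node (Tr.node Tr.leaf [] 471 371 0 Tr.leaf) [4] 211 125 0 Tr.leaf)) [8] 190 174 0 (Tr.node (Tr.node (Tr.node Tr.leaf [11] 418 320 0 Tr.leaf) [8] 132 128 0 Tr.leaf) [2] 336 233 0 (Tr.node (Tr.node Tr.leaf [11] 342 443 0 Tr.leaf) [8] 281 280 0 Tr.leaf)))) [1] 68 134 0 (Tr.node (Tr.node (Tr.node (Tr.node (Tr.node Tr.leaf [13] 225 333 0 Tr.leaf) [12] 29 14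 0 Tr.leaf) [12] 31 41 0 (Tr.node (Tr.node Tr.leaf [1] 469 458 0 Tr.leaf) [10] 98 187 0 Tr.leaf)) [10] 32 80 0 (Tr.node (Tr.node (Tr.node Tr.leaf [13] 290 401 0 Tr.leaf) [6] 106 98 0 Tr.leaf) [3] 193 174 0 (Tr.node (Tr.node Tr.leaf [] 426 4 0 Tr.leaf) [0] 167 262 0 Tr.leaf))) [0] 66 127 0 (Tr.node (Tr.node (Tr.node (Tr.node Tr.leaf [6] 366 365 0 Tr.leaf) [12] 36 73 0 Tr.leaf) [12] 78 147 0 (Tr.node (Tr.node Tr.leaf [0] 416 493 0 Tr.leaf) [5] 228 136 0 Tr.leaf)) [10] 200 308 0 (Tr.node (Tr.node (Tr.node Tr.leaf [0] 435 392 0 Tr.leaf) [5] 130 129 0 Tr.leaf) [3] 340 439 0 (Tr.node Tr.leaf [10] 294 296 0 Tr.leaf)))))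
def pL_4_t_41 : Tr := (Tr.node (Tr.node (Tr.node (Tr.node (Tr.node (Tr.node Tr.leaf [1] 204 311 0 Tr.leaf) [] 423 2 0 Tr.leaf) [8] 1 1 0 (Tr.node (Tr.node Tr.leaf [1] 355 450 0 Tr.leaf) [11] 88 162 0 Tr.leaf)) [5] 1 1 0 (Tr.node (Tr.node (Tr.node Tr.leaf [8] 380 378 0 Tr.leaf) [0] 26 87 0 Tr.leaf) [8] 194 194 0 (Tr.node (Tr.node Tr.leaf [11] 438 502 0 Tr.leaf) [6] 241 240 0 Tr.leaf))) [13] 115 200 0 (Tr.node (Tr.node (Tr.node (Tr.node Tr.leaf [10] 347 246 0 Tr.leaf) [5] 44 14 0 Tr.leaf) [8] 78 78 0 (Tr.node (Tr.node Tr.leaf [11] 399 480 0 Tr.leaf) [13] 119 205 0 Tr.leaf)) [3] 149 84 0 (Tr.node (Tr.node (Tr.node Tr.leaf [11] 307 414 0 Tr.leaf) [6] 128 127 0 Tr.leaf) [6] 321 314 0 (Tr.node (Tr.node Tr.leaf [12] 192 297 0 Tr.leaf) [6] 277 275 0 Tr.leaf)))) [11] 31 65 0 (Tr.node (Tr.node (Tr.node (Tr.node (Tr.node Tr.leaf [10] 329 224 0 Tr.leaf) [6] 24 23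 0 Tr.leaf) [1] 13 36 0 (Tr.node (Tr.node Tr.leaf [6] 465 462 0 Tr.leaf) [6] 181 156 0 Tr.leaf)) [1] 30 63 0 (Tr.node (Tr.node (Tr.node Tr.leaf [6] 396 392 0 Tr.leaf) [2] 49 103 0 Tr.leaf) [6] 238 213 0 (Tr.node (Tr.node Tr.leaf [] 417 6 0 Tr.leaf) [5] 257 166 0 Tr.leaf))) [13] 35 72 0 (Tr.node (Tr.node (Tr.node (Tr.node Tr.leaf [13] 362 245 0 Tr.leaf) [6] 67 67 0 Tr.leaf) [5] 127 119 0 (Tr.node (Tr.node Tr.leaf [13] 412 490 0 Tr.leaf) [4] 224 134 0 Tr.leaf)) [12] 150 244 0 (Tr.node (Tr.node (Tr.node Tr.leaf [10] 431 336 0 Tr.leaf) [11] 76 145 0 Tr.leaf) [5] 418 328 0 (Tr.node Tr.leaf [3] 188 294 0 Tr.leaf)))))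
def pL_4_t_57 : Tr := (Tr.node (Tr.node (Tr.node (Tr.node (Tr.node (Tr.node Tr.leaf [4] 317 307 0 Tr.leaf) [3] 3 6 0 Tr.leaf) [11] 18 13 0 (Tr.node (Tr.node Tr.leaf [13] 365 456 0 Tr.leaf) [10] 174 109 0 Tr.leaf)) [5] 20 5 0 (Tr.node (Tr.node (Tr.node Tr.leaf [11] 275 389 0 Tr.leaf) [4] 97 90 0 Tr.leaf) [13] 133 210 0 (Tr.node (Tr.node Tr.leaf [2] 395 338 0 Tr.leaf) [5] 226 150 0 Tr.leaf))) [12] 15 5 0 (Tr.node (Tr.node (Tr.node (Tr.node Tr.leaf [13] 355 241 0 Tr.leaf) [0] 22 53 0 Tr.leaf) [12] 56 112 0 (Tr.node (Tr.node Tr.leaf [1] 482 418 0 Tr.leaf) [13] 209 215 0 Tr.leaf)) [13] 122 211 0 (Tr.node (Tr.node (Tr.node Tr.leaf [4] 423 407 0 Tr.leaf) [5] 138 100 0 Tr.leaf) [4] 359 243 0 (Tr.node Tr.leaf [2] 284 253 0 Tr.leaf)))) [13] 13 30 0 (Tr.node (Tr.node (Tr.node (Tr.node (Tr.node Tr.leaf [5] 337 231 0 Tr.leaf) [11] 36 25 0 Tr.leaf) [5] 58 31 0 (Tr.node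 (Tr.node Tr.leaf [1] 473 394 0 Tr.leaf) [8] 191 179 0 Tr.leaf)) [3] 32 97 0 (Tr.node (Tr.node (Tr.node Tr.leaf [5] 404 304 0 Tr.leaf) [6] 113 112 0 Tr.leaf) [11] 183 290 0 (Tr.node (Tr.node Tr.leaf [] 21 2 0 Tr.leaf) [6] 269 264 0 Tr.leaf))) [13] 91 168 0 (Tr.node (Tr.node (Tr.node (Tr.node Tr.leaf [12] 370 270 0 Tr.leaf) [5] 79 41 0 Tr.leaf) [10] 150 68 0 (Tr.node (Tr.node Tr.leaf [10] 495 463 0 Tr.leaf) [13] 233 139 0 Tr.leaf)) [13] 236 346 0 (Tr.node (Tr.node (Tr.node Tr.leaf [3] 341 442 0 Tr.leaf) [12] 155 81 0 Tr.leaf) [12] 466 464 0 (Tr.node Tr.leaf [4] 302 217 0 Tr.leaf)))))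
def pL_4_t_37 : Tr := (Tr.node (Tr.node (Tr.node (Tr.node (Tr.node (Tr.node Tr.leaf [0] 204 310 0 Tr.leaf) [] 418 4 0 Tr.leaf) [12] 417 495 0 (Tr.node (Tr.node Tr.leaf [4] 448 352 0 Tr.leaf) [4] 160 56 0 Tr.leaf)) [2] 206 313 0 (Tr.node (Tr.node (Tr.node Tr.leaf [11] 262 378 0 Tr.leaf) [0] 85 69 0 Tr.leaf) [12] 83 185 0 (Tr.node (Tr.node Tr.leaf [10] 430 501 0 Tr.leaf) [11] 125 239 0 Tr.leaf))) [10] 58 115 0 (Tr.node (Tr.node (Tr.node (Tr.node Tr.leaf [6] 346 346 0 Tr.leaf) [8] 32 32 0 Tr.leaf) [6] 73 72 0 (Tr.node (Tr.node Tr.leaf [10] 457 477 0 Tr.leaf) [2] 202 121 0 Tr.leaf)) [2] 65 126 0 (Tr.node (Tr.node (Tr.node Tr.leaf [4] 410 408 0 Tr.leaf) [13] 125 65 0 Tr.leaf) [0] 317 303 0 (Tr.node (Tr.node Tr.leaf [0] 165 258 0 Tr.leaf) [8] 275 274 0 Tr.leaf)))) [11] 32 81 0 (Tr.node (Tr.node (Tr.node (Tr.node (Tr.node Tr.leaf [8] 327 326 0 Tr.leaf) [4]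 21 9 0 Tr.leaf) [6] 33 33 0 (Tr.node (Tr.node Tr.leaf [13] 463 380 0 Tr.leaf) [13] 156 102 0 Tr.leaf)) [6] 54 31 0 (Tr.node (Tr.node (Tr.node Tr.leaf [10] 280 394 0 Tr.leaf) [8] 101 81 0 Tr.leaf) [13] 136 232 0 (Tr.node (Tr.node Tr.leaf [] 427 3 0 Tr.leaf) [13] 162 256 0 Tr.leaf))) [12] 20 45 0 (Tr.node (Tr.node (Tr.node (Tr.node Tr.leaf [12] 360 246 0 Tr.leaf) [8] 62 58 0 Tr.leaf) [12] 124 65 0 (Tr.node (Tr.node Tr.leaf [6] 488 487 0 Tr.leaf) [11] 223 130 0 Tr.leaf)) [8] 240 223 0 (Tr.node (Tr.node (Tr.node Tr.leaf [6] 428 426 0 Tr.leaf) [10] 143 79 0 Tr.leaf) [5] 392 280 0 (Tr.node Tr.leaf [11] 184 292 0 Tr.leaf)))))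
def pL_4_t_53 : Tr := (Tr.node (Tr.node (Tr.node (Tr.node (Tr.node (Tr.node Tr.leaf [11] 206 316 0 Tr.leaf) [1] 10 8 0 Tr.leaf) [6] 6 4 0 (Tr.node (Tr.node Tr.leaf [11] 361 455 0 Tr.leaf) [12] 92 171 0 Tr.leaf)) [8] 12 11 0 (Tr.node (Tr.node (Tr.node Tr.leaf [11] 274 387 0 Tr.leaf) [3] 59 90 0 Tr.leaf) [5] 204 120 0 (Tr.node (Tr.node Tr.leaf [] 435 431 0 Tr.leaf) [10] 156 248 0 Tr.leaf))) [13] 4 6 0 (Tr.node (Tr.node (Tr.node (Tr.node Tr.leaf [3] 239 354 0 Tr.leaf) [6] 50 49 0 Tr.leaf) [2] 54 109 0 (Tr.node (Tr.node Tr.leaf [12] 402 481 0 Tr.leaf) [10] 213 124 0 Tr.leaf)) [2] 115 198 0 (Tr.node (Tr.node (Tr.node Tr.leaf [11] 314 420 0 Tr.leaf) [10] 136 74 0 Tr.leaf) [10] 231 340 0 (Tr.node Tr.leaf [3] 283 233 0 Tr.leaf)))) [6] 2 1 0 (Tr.node (Tr.node (Tr.node (Tr.node (Tr.node Tr.leaf [13] 228 335 0 Tr.leaf) [4] 34 13 0 Tr.leaf) [6] 53 32 0 (Tr.node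 (Tr.node Tr.leaf [2] 389 472 0 Tr.leaf) [8] 188 176 0 Tr.leaf)) [1] 45 90 0 (Tr.node (Tr.node (Tr.node Tr.leaf [10] 403 299 0 Tr.leaf) [8] 108 105 0 Tr.leaf) [0] 170 267 0 (Tr.node (Tr.node Tr.leaf [] 414 7 0 Tr.leaf) [6] 267 261 0 Tr.leaf))) [11] 71 137 0 (Tr.node (Tr.node (Tr.node (Tr.node Tr.leaf [5] 368 364 0 Tr.leaf) [4] 76 32 0 Tr.leaf) [6] 149 124 0 (Tr.node (Tr.node Tr.leaf [0] 494 487 0 Tr.leaf) [4] 229 137 0 Tr.leaf)) [13] 229 336 0 (Tr.node (Tr.node (Tr.node Tr.leaf [3] 439 438 0 Tr.leaf) [13] 153 83 0 Tr.leaf) [0] 376 462 0 (Tr.node Tr.leaf [13] 300 197 0 Tr.leaf)))))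
def pL_4_t_45 : Tr := (Tr.node (Tr.node (Tr.node (Tr.node (Tr.node (Tr.node Tr.leaf [4] 312 206 0 Tr.leaf) [6] 8 8 0 Tr.leaf) [5] 2 1 0 (Tr.node (Tr.node Tr.leaf [12] 451 450 0 Tr.leaf) [5] 163 91 0 Tr.leaf)) [1] 7 6 0 (Tr.node (Tr.node (Tr.node Tr.leaf [4] 382 285 0 Tr.leaf) [3] 89 38 0 Tr.leaf) [11] 197 122 0 (Tr.node (Tr.node Tr.leaf [13] 504 443 0 Tr.leaf) [12] 225 159 0 Tr.leaf))) [13] 193 300 0 (Tr.node (Tr.node (Tr.node (Tr.node Tr.leaf [8] 349 348 0 Tr.leaf) [8] 48 47 0 Tr.leaf) [5] 80 33 0 (Tr.node (Tr.node Tr.leaf [] 459 389 0 Tr.leaf) [11] 209 121 0 Tr.leaf)) [10] 96 176 0 (Tr.node (Tr.node (Tr.node Tr.leaf [8] 416 412 0 Tr.leaf) [0] 67 131 0 Tr.leaf) [6] 326 325 0 (Tr.node (Tr.node Tr.leaf [12] 258 372 0 Tr.leaf) [2] 279 260 0 Tr.leaf)))) [13] 14 38 0 (Tr.node (Tr.node (Tr.node (Tr.node (Tr.node Tr.leaf [13] 301 330 0 Tr.leaf) [13] 27 12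 0 Tr.leaf) [2] 45 15 0 (Tr.node (Tr.node Tr.leaf [11] 467 391 0 Tr.leaf) [13] 184 104 0 Tr.leaf)) [6] 74 71 0 (Tr.node (Tr.node (Tr.node Tr.leaf [12] 289 399 0 Tr.leaf) [8] 104 67 0 Tr.leaf) [12] 159 226 0 (Tr.node (Tr.node Tr.leaf [] 493 4 0 Tr.leaf) [11] 260 126 0 Tr.leaf))) [2] 56 111 0 (Tr.node (Tr.node (Tr.node (Tr.node Tr.leaf [2] 248 363 0 Tr.leaf) [2] 55 38 0 Tr.leaf) [6] 134 133 0 (Tr.node (Tr.node Tr.leaf [2] 491 482 0 Tr.leaf) [4] 226 225 0 Tr.leaf)) [3] 174 273 0 (Tr.node (Tr.node (Tr.node Tr.leaf [12] 433 373 0 Tr.leaf) [12] 147 78 0 Tr.leaf) [11] 324 425 0 (Tr.node Tr.leaf [8] 295 276 0 Tr.leaf)))))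
def pL_4_t_61 : Tr := (Tr.node (Tr.node (Tr.node (Tr.node (Tr.node (Tr.node Tr.leaf [3] 213 322 0 Tr.leaf) [6] 14 14 0 Tr.leaf) [11] 21 6 0 (Tr.node (Tr.node Tr.leaf [1] 458 389 0 Tr.leaf) [11] 177 110 0 Tr.leaf)) [4] 25 14 0 (Tr.node (Tr.node (Tr.node Tr.leaf [13] 276 391 0 Tr.leaf) [4] 81 39 0 Tr.leaf) [13] 128 219 0 (Tr.node (Tr.node Tr.leaf [10] 372 392 0 Tr.leaf) [2] 158 252 0 Tr.leaf))) [10] 4 20 0 (Tr.node (Tr.node (Tr.node (Tr.node Tr.leaf [10] 348 356 0 Tr.leaf) [10] 56 26 0 Tr.leaf) [8] 114 111 0 (Tr.node (Tr.node Tr.leaf [3] 406 484 0 Tr.leaf) [3] 217 205 0 Tr.leaf)) [1] 130 224 0 (Tr.node (Tr.node (Tr.node Tr.leaf [5] 424 325 0 Tr.leaf) [1] 140 94 0 Tr.leaf) [13] 243 362 0 (Tr.node Tr.leaf [11] 155 287 0 Tr.leaf)))) [1] 29 59 0 (Tr.node (Tr.node (Tr.node (Tr.node (Tr.node Tr.leaf [11] 232 343 0 Tr.leaf) [13] 38 17 0 Tr.leaf) [6] 61 60 0 (Tr.node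 (Tr.node Tr.leaf [10] 439 475 0 Tr.leaf) [8] 196 192 0 Tr.leaf)) [8] 117 115 0 (Tr.node (Tr.node (Tr.node Tr.leaf [6] 406 405 0 Tr.leaf) [4] 117 115 0 Tr.leaf) [12] 193 299 0 (Tr.node (Tr.node Tr.leaf [] 7 0 0 Tr.leaf) [8] 271 267 0 Tr.leaf))) [12] 127 216 0 (Tr.node (Tr.node (Tr.node (Tr.node Tr.leaf [1] 259 373 0 Tr.leaf) [10] 64 41 0 Tr.leaf) [11] 166 82 0 (Tr.node (Tr.node Tr.leaf [3] 497 427 0 Tr.leaf) [12] 144 235 0 Tr.leaf)) [13] 282 396 0 (Tr.node (Tr.node (Tr.node Tr.leaf [3] 344 445 0 Tr.leaf) [6] 150 150 0 Tr.leaf) [] 469 462 0 (Tr.node Tr.leaf [1] 199 305 0 Tr.leaf)))))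
def pL_4_t_32 : Tr := (Tr.node (Tr.node (Tr.node (Tr.node (Tr.node (Tr.node Tr.leaf [10] 308 202 0 Tr.leaf) [13] 497 419 0 Tr.leaf) [1] 334 430 0 (Tr.node (Tr.node Tr.leaf [11] 446 359 0 Tr.leaf) [6] 158 157 0 Tr.leaf)) [11] 129 223 0 (Tr.node (Tr.node (Tr.node Tr.leaf [13] 260 375 0 Tr.leaf) [6] 82 66 0 Tr.leaf) [8] 173 170 0 (Tr.node (Tr.node Tr.leaf [3] 498 497 0 Tr.leaf) [10] 146 236 0 Tr.leaf))) [12] 68 33 0 (Tr.node (Tr.node (Tr.node (Tr.node Tr.leaf [6] 344 338 0 Tr.leaf) [8] 42 35 0 Tr.leaf) [6] 66 66 0 (Tr.node (Tr.node Tr.leaf [0] 398 477 0 Tr.leaf) [2] 200 120 0 Tr.leaf)) [12] 61 121 0 (Tr.node (Tr.node (Tr.node Tr.leaf [0] 407 326 0 Tr.leaf) [5] 118 116 0 Tr.leaf) [5] 302 199 0 (Tr.node (Tr.node Tr.leaf [12] 44 88 0 Tr.leaf) [8] 272 268 0 Tr.leaf)))) [10] 5 1 0 (Tr.node (Tr.node (Tr.node (Tr.node (Tr.node Tr.leaf [10] 323 322 0 Tr.leaf) [8]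 17 14 0 Tr.leaf) [3] 26 15 0 (Tr.node (Tr.node Tr.leaf [5] 460 435 0 Tr.leaf) [10] 97 178 0 Tr.leaf)) [8] 39 39 0 (Tr.node (Tr.node (Tr.node Tr.leaf [12] 392 294 0 Tr.leaf) [8] 99 95 0 Tr.leaf) [6] 223 222 0 (Tr.node (Tr.node Tr.leaf [] 338 231 0 Tr.leaf) [11] 193 123 0 Tr.leaf))) [5] 29 15 0 (Tr.node (Tr.node (Tr.node (Tr.node Tr.leaf [13] 223 357 0 Tr.leaf) [8] 60 60 0 Tr.leaf) [11] 58 116 0 (Tr.node (Tr.node Tr.leaf [3] 409 486 0 Tr.leaf) [8] 219 218 0 Tr.leaf)) [13] 137 233 0 (Tr.node (Tr.node (Tr.node Tr.leaf [1] 425 423 0 Tr.leaf) [6] 141 138 0 Tr.leaf) [8] 368 365 0 (Tr.node Tr.leaf [11] 288 181 0 Tr.leaf)))))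
def pL_4_t_48 : Tr := (Tr.node (Tr.node (Tr.node (Tr.node (Tr.node (Tr.node Tr.leaf [8] 314 313 0 Tr.leaf) [10] 5 2 0 Tr.leaf) [3] 4 4 0 (Tr.node (Tr.node Tr.leaf [2] 368 452 0 Tr.leaf) [12] 91 167 0 Tr.leaf)) [5] 3 3 0 (Tr.node (Tr.node (Tr.node Tr.leaf [6] 383 376 0 Tr.leaf) [10] 46 93 0 Tr.leaf) [13] 200 117 0 (Tr.node (Tr.node Tr.leaf [] 444 443 0 Tr.leaf) [3] 246 245 0 Tr.leaf))) [13] 2 0 0 (Tr.node (Tr.node (Tr.node (Tr.node Tr.leaf [12] 238 351 0 Tr.leaf) [10] 33 22 0 Tr.leaf) [2] 31 95 0 (Tr.node (Tr.node Tr.leaf [] 467 464 0 Tr.leaf) [13] 210 133 0 Tr.leaf)) [11] 99 190 0 (Tr.node (Tr.node (Tr.node Tr.leaf [4] 417 327 0 Tr.leaf) [6] 132 131 0 Tr.leaf) [12] 228 334 0 (Tr.node (Tr.node Tr.leaf [3] 315 421 0 Tr.leaf) [13] 176 281 0 Tr.leaf)))) [12] 60 120 0 (Tr.node (Tr.node (Tr.node (Tr.node (Tr.node Tr.leaf [12] 301 331 0 Tr.leaf) [5] 28 13 0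 Tr.leaf) [6] 48 45 0 (Tr.node (Tr.node Tr.leaf [6] 469 468 0 Tr.leaf) [6] 186 183 0 Tr.leaf)) [1] 38 79 0 (Tr.node (Tr.node (Tr.node Tr.leaf [8] 400 399 0 Tr.leaf) [2] 52 106 0 Tr.leaf) [2] 157 251 0 (Tr.node (Tr.node Tr.leaf [] 492 7 0 Tr.leaf) [2] 261 178 0 Tr.leaf))) [8] 125 124 0 (Tr.node (Tr.node (Tr.node (Tr.node Tr.leaf [11] 366 227 0 Tr.leaf) [4] 72 46 0 Tr.leaf) [12] 77 146 0 (Tr.node (Tr.node Tr.leaf [3] 492 424 0 Tr.leaf) [4] 228 176 0 Tr.leaf)) [0] 199 304 0 (Tr.node (Tr.node (Tr.node Tr.leaf [2] 339 435 0 Tr.leaf) [8] 149 148 0 Tr.leaf) [5] 436 340 0 (Tr.node Tr.leaf [10] 296 293 0 Tr.leaf)))))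
def pL_4_t_40 : Tr := (Tr.node (Tr.node (Tr.node (Tr.node (Tr.node (Tr.node Tr.leaf [3] 304 310 0 Tr.leaf) [] 412 6 0 Tr.leaf) [] 495 4 0 (Tr.node (Tr.node Tr.leaf [11] 449 358 0 Tr.leaf) [10] 88 161 0 Tr.leaf)) [] 497 6 0 (Tr.node (Tr.node (Tr.node Tr.leaf [10] 264 380 0 Tr.leaf) [13] 86 39 0 Tr.leaf) [6] 190 189 0 (Tr.node (Tr.node Tr.leaf [11] 502 441 0 Tr.leaf) [11] 130 241 0 Tr.leaf))) [13] 80 156 0 (Tr.node (Tr.node (Tr.node (Tr.node Tr.leaf [2] 213 347 0 Tr.leaf) [3] 44 35 0 Tr.leaf) [6] 78 77 0 (Tr.node (Tr.node Tr.leaf [12] 454 479 0 Tr.leaf) [6] 203 199 0 Tr.leaf)) [8] 131 127 0 (Tr.node (Tr.node (Tr.node Tr.leaf [4] 411 306 0 Tr.leaf) [6] 126 122 0 Tr.leaf) [3] 210 321 0 (Tr.node (Tr.node Tr.leaf [10] 183 289 0 Tr.leaf) [12] 175 277 0 Tr.leaf)))) [1] 16 41 0 (Tr.node (Tr.node (Tr.node (Tr.node (Tr.node Tr.leaf [10] 220 329 0 Tr.leaf) [11]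 7 24 0 Tr.leaf) [0] 34 13 0 (Tr.node (Tr.node Tr.leaf [1] 383 465 0 Tr.leaf) [12] 81 181 0 Tr.leaf)) [10] 57 27 0 (Tr.node (Tr.node (Tr.node Tr.leaf [2] 396 381 0 Tr.leaf) [8] 102 80 0 Tr.leaf) [11] 124 238 0 (Tr.node (Tr.node Tr.leaf [] 429 4 0 Tr.leaf) [3] 163 257 0 Tr.leaf))) [8] 67 66 0 (Tr.node (Tr.node (Tr.node (Tr.node Tr.leaf [3] 361 225 0 Tr.leaf) [4] 65 64 0 Tr.leaf) [2] 125 68 0 (Tr.node (Tr.node Tr.leaf [3] 489 418 0 Tr.leaf) [13] 195 222 0 Tr.leaf)) [3] 150 243 0 (Tr.node (Tr.node (Tr.node Tr.leaf [10] 334 431 0 Tr.leaf) [5] 144 78 0 Tr.leaf) [10] 412 318 0 (Tr.node Tr.leaf [3] 187 293 0 Tr.leaf)))))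
def pL_4_t_56 : Tr := (Tr.node (Tr.node (Tr.node (Tr.node (Tr.node (Tr.node Tr.leaf [3] 207 317 0 Tr.leaf) [3] 6 3 0 Tr.leaf) [8] 18 13 0 (Tr.node (Tr.node Tr.leaf [3] 365 455 0 Tr.leaf) [6] 172 167 0 Tr.leaf)) [6] 18 18 0 (Tr.node (Tr.node (Tr.node Tr.leaf [8] 388 387 0 Tr.leaf) [11] 65 54 0 Tr.leaf) [8] 210 210 0 (Tr.node (Tr.node Tr.leaf [] 473 381 0 Tr.leaf) [4] 249 157 0 Tr.leaf))) [11] 3 12 0 (Tr.node (Tr.node (Tr.node (Tr.node Tr.leaf [13] 222 355 0 Tr.leaf) [1] 19 52 0 Tr.leaf) [6] 110 96 0 (Tr.node (Tr.node Tr.leaf [0] 482 409 0 Tr.leaf) [12] 208 215 0 Tr.leaf)) [1] 121 210 0 (Tr.node (Tr.node (Tr.node Tr.leaf [5] 422 319 0 Tr.leaf) [1] 72 138 0 Tr.leaf) [4] 358 242 0 (Tr.node Tr.leaf [12] 178 284 0 Tr.leaf)))) [12] 13 29 0 (Tr.node (Tr.node (Tr.node (Tr.node (Tr.node Tr.leaf [12] 230 337 0 Tr.leaf) [6] 36 35 0 Tr.leaf) [8] 57 56 0 (Tr.node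 (Tr.node Tr.leaf [10] 473 396 0 Tr.leaf) [10] 100 191 0 Tr.leaf)) [0] 71 96 0 (Tr.node (Tr.node (Tr.node Tr.leaf [4] 404 313 0 Tr.leaf) [6] 111 111 0 Tr.leaf) [10] 282 273 0 (Tr.node (Tr.node Tr.leaf [] 12 6 0 Tr.leaf) [1] 171 269 0 Tr.leaf))) [10] 159 86 0 (Tr.node (Tr.node (Tr.node (Tr.node Tr.leaf [0] 255 370 0 Tr.leaf) [11] 78 38 0 Tr.leaf) [5] 154 66 0 (Tr.node (Tr.node Tr.leaf [3] 495 429 0 Tr.leaf) [12] 231 140 0 Tr.leaf)) [6] 341 340 0 (Tr.node (Tr.node (Tr.node Tr.leaf [6] 441 438 0 Tr.leaf) [12] 80 155 0 Tr.leaf) [1] 382 464 0 (Tr.node Tr.leaf [3] 194 301 0 Tr.leaf)))))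
def pL_4_t_36 : Tr := (Tr.node (Tr.node (Tr.node (Tr.node (Tr.node (Tr.node Tr.leaf [6] 309 302 0 Tr.leaf) [] 463 20 0 Tr.leaf) [0] 484 488 0 (Tr.node (Tr.node Tr.leaf [13] 448 353 0 Tr.leaf) [10] 87 160 0 Tr.leaf)) [12] 176 280 0 (Tr.node (Tr.node (Tr.node Tr.leaf [8] 377 376 0 Tr.leaf) [4] 85 70 0 Tr.leaf) [8] 184 183 0 (Tr.node (Tr.node Tr.leaf [5] 500 427 0 Tr.leaf) [8] 215 238 0 Tr.leaf))) [11] 45 92 0 (Tr.node (Tr.node (Tr.node (Tr.node Tr.leaf [8] 346 345 0 Tr.leaf) [8] 43 36 0 Tr.leaf) [8] 72 71 0 (Tr.node (Tr.node Tr.leaf [10] 477 456 0 Tr.leaf) [6] 201 198 0 Tr.leaf)) [4] 123 67 0 (Tr.node (Tr.node (Tr.node Tr.leaf [10] 305 410 0 Tr.leaf) [3] 64 123 0 Tr.leaf) [4] 315 208 0 (Tr.node (Tr.node Tr.leaf [12] 67 183 0 Tr.leaf) [13] 275 190 0 Tr.leaf)))) [3] 33 67 0 (Tr.node (Tr.node (Tr.node (Tr.node (Tr.node Tr.leaf [10] 217 327 0 Tr.leaf) [10]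 20 6 0 Tr.leaf) [1] 32 31 0 (Tr.node (Tr.node Tr.leaf [12] 462 461 0 Tr.leaf) [11] 179 108 0 Tr.leaf)) [8] 39 33 0 (Tr.node (Tr.node (Tr.node Tr.leaf [8] 393 392 0 Tr.leaf) [10] 41 101 0 Tr.leaf) [10] 135 228 0 (Tr.node (Tr.node Tr.leaf [] 498 3 0 Tr.leaf) [12] 162 255 0 Tr.leaf))) [6] 38 37 0 (Tr.node (Tr.node (Tr.node (Tr.node Tr.leaf [3] 225 359 0 Tr.leaf) [6] 62 59 0 Tr.leaf) [0] 122 119 0 (Tr.node (Tr.node Tr.leaf [3] 411 488 0 Tr.leaf) [8] 222 222 0 Tr.leaf)) [10] 130 240 0 (Tr.node (Tr.node (Tr.node Tr.leaf [2] 326 428 0 Tr.leaf) [10] 75 143 0 Tr.leaf) [13] 386 296 0 (Tr.node Tr.leaf [8] 291 290 0 Tr.leaf)))))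
def pL_4_t_52 : Tr := (Tr.node (Tr.node (Tr.node (Tr.node (Tr.node (Tr.node Tr.leaf [10] 315 210 0 Tr.leaf) [6] 10 8 0 Tr.leaf) [6] 3 7 0 (Tr.node (Tr.node Tr.leaf [2] 454 366 0 Tr.leaf) [11] 170 66 0 Tr.leaf)) [6] 12 11 0 (Tr.node (Tr.node (Tr.node Tr.leaf [4] 386 300 0 Tr.leaf) [3] 87 58 0 Tr.leaf) [12] 119 204 0 (Tr.node (Tr.node Tr.leaf [] 476 338 0 Tr.leaf) [3] 247 130 0 Tr.leaf))) [6] 9 5 0 (Tr.node (Tr.node (Tr.node (Tr.node Tr.leaf [8] 353 350 0 Tr.leaf) [11] 16 50 0 Tr.leaf) [6] 107 99 0 (Tr.node (Tr.node Tr.leaf [2] 370 387 0 Tr.leaf) [2] 212 129 0 Tr.leaf)) [8] 197 193 0 (Tr.node (Tr.node (Tr.node Tr.leaf [8] 419 418 0 Tr.leaf) [5] 135 90 0 Tr.leaf) [12] 338 265 0 (Tr.node Tr.leaf [13] 177 283 0 Tr.leaf)))) [3] 1 1 0 (Tr.node (Tr.node (Tr.node (Tr.node (Tr.node Tr.leaf [3] 334 280 0 Tr.leaf) [6] 32 31 0 Tr.leaf) [6] 52 40 0 (Tr.node (Tr.node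 Tr.leaf [8] 471 470 0 Tr.leaf) [6] 188 187 0 Tr.leaf)) [6] 86 86 0 (Tr.node (Tr.node (Tr.node Tr.leaf [10] 298 403 0 Tr.leaf) [6] 108 97 0 Tr.leaf) [3] 266 229 0 (Tr.node (Tr.node Tr.leaf [] 416 3 0 Tr.leaf) [1] 265 264 0 Tr.leaf))) [10] 71 136 0 (Tr.node (Tr.node (Tr.node (Tr.node Tr.leaf [6] 368 367 0 Tr.leaf) [1] 37 76 0 Tr.leaf) [6] 148 125 0 (Tr.node (Tr.node Tr.leaf [3] 417 494 0 Tr.leaf) [5] 229 177 0 Tr.leaf)) [11] 216 326 0 (Tr.node (Tr.node (Tr.node Tr.leaf [6] 437 436 0 Tr.leaf) [6] 152 130 0 Tr.leaf) [1] 374 460 0 (Tr.node Tr.leaf [12] 299 197 0 Tr.leaf)))))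
def pL_4_t_44 : Tr := (Tr.node (Tr.node (Tr.node (Tr.node (Tr.node (Tr.node Tr.leaf [0] 205 312 0 Tr.leaf) [8] 3 3 0 Tr.leaf) [4] 2 1 0 (Tr.node (Tr.node Tr.leaf [11] 451 447 0 Tr.leaf) [10] 90 163 0 Tr.leaf)) [8] 6 3 0 (Tr.node (Tr.node (Tr.node Tr.leaf [12] 382 271 0 Tr.leaf) [4] 89 72 0 Tr.leaf) [1] 114 197 0 (Tr.node (Tr.node Tr.leaf [13] 436 504 0 Tr.leaf) [6] 244 244 0 Tr.leaf))) [12] 136 231 0 (Tr.node (Tr.node (Tr.node (Tr.node Tr.leaf [13] 213 349 0 Tr.leaf) [6] 47 46 0 Tr.leaf) [8] 83 82 0 (Tr.node (Tr.node Tr.leaf [13] 446 480 0 Tr.leaf) [1] 120 207 0 Tr.leaf)) [6] 175 174 0 (Tr.node (Tr.node (Tr.node Tr.leaf [3] 308 416 0 Tr.leaf) [4] 130 68 0 Tr.leaf) [11] 326 219 0 (Tr.node (Tr.node Tr.leaf [10] 250 365 0 Tr.leaf) [6] 278 274 0 Tr.leaf)))) [4] 11 5 0 (Tr.node (Tr.node (Tr.node (Tr.node (Tr.node Tr.leaf [5] 330 223 0 Tr.leaf) [12] 26 12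 0 Tr.leaf) [3] 20 44 0 (Tr.node (Tr.node Tr.leaf [11] 385 467 0 Tr.leaf) [6] 182 155 0 Tr.leaf)) [5] 71 45 0 (Tr.node (Tr.node (Tr.node Tr.leaf [12] 398 288 0 Tr.leaf) [6] 104 103 0 Tr.leaf) [3] 159 244 0 (Tr.node (Tr.node Tr.leaf [] 496 7 0 Tr.leaf) [0] 166 260 0 Tr.leaf))) [10] 45 91 0 (Tr.node (Tr.node (Tr.node (Tr.node Tr.leaf [10] 363 244 0 Tr.leaf) [5] 55 27 0 Tr.leaf) [12] 129 67 0 (Tr.node (Tr.node Tr.leaf [5] 491 484 0 Tr.leaf) [10] 225 134 0 Tr.leaf)) [1] 166 261 0 (Tr.node (Tr.node (Tr.node Tr.leaf [12] 432 397 0 Tr.leaf) [8] 146 146 0 Tr.leaf) [11] 317 423 0 (Tr.node Tr.leaf [2] 189 295 0 Tr.leaf)))))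
def pL_4_t_60 : Tr := (Tr.node (Tr.node (Tr.node (Tr.node (Tr.node (Tr.node Tr.leaf [8] 321 320 0 Tr.leaf) [10] 14 13 0 Tr.leaf) [11] 12 7 0 (Tr.node (Tr.node Tr.leaf [6] 457 456 0 Tr.leaf) [10] 176 110 0 Tr.leaf)) [8] 22 19 0 (Tr.node (Tr.node (Tr.node Tr.leaf [6] 390 386 0 Tr.leaf) [5] 81 65 0 Tr.leaf) [8] 217 216 0 (Tr.node (Tr.node Tr.leaf [0] 372 395 0 Tr.leaf) [1] 251 247 0 Tr.leaf))) [12] 9 19 0 (Tr.node (Tr.node (Tr.node (Tr.node Tr.leaf [6] 356 355 0 Tr.leaf) [2] 55 29 0 Tr.leaf) [8] 113 112 0 (Tr.node (Tr.node Tr.leaf [11] 426 483 0 Tr.leaf) [4] 217 199 0 Tr.leaf)) [5] 216 200 0 (Tr.node (Tr.node (Tr.node Tr.leaf [4] 424 419 0 Tr.leaf) [11] 72 140 0 Tr.leaf) [8] 361 360 0 (Tr.node Tr.leaf [10] 155 286 0 Tr.leaf)))) [10] 26 56 0 (Tr.node (Tr.node (Tr.node (Tr.node (Tr.node Tr.leaf [8] 342 339 0 Tr.leaf) [4] 37 15 0 Tr.leaf) [1] 60 33 0 (Tr.node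 (Tr.node Tr.leaf [10] 475 442 0 Tr.leaf) [0] 114 196 0 Tr.leaf)) [10] 59 117 0 (Tr.node (Tr.node (Tr.node Tr.leaf [11] 302 406 0 Tr.leaf) [10] 115 63 0 Tr.leaf) [13] 192 298 0 (Tr.node (Tr.node Tr.leaf [] 3 2 0 Tr.leaf) [0] 173 271 0 Tr.leaf))) [10] 125 215 0 (Tr.node (Tr.node (Tr.node (Tr.node Tr.leaf [8] 371 370 0 Tr.leaf) [3] 79 70 0 Tr.leaf) [3] 91 166 0 (Tr.node (Tr.node Tr.leaf [0] 488 496 0 Tr.leaf) [8] 234 229 0 Tr.leaf)) [12] 261 376 0 (Tr.node (Tr.node (Tr.node Tr.leaf [8] 444 438 0 Tr.leaf) [4] 130 86 0 Tr.leaf) [] 458 376 0 (Tr.node Tr.leaf [12] 304 214 0 Tr.leaf)))))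
def pL_4_t_34 : Tr := (Tr.node (Tr.node (Tr.node (Tr.node (Tr.node (Tr.node Tr.leaf [13] 201 309 0 Tr.leaf) [] 433 395 0 Tr.leaf) [2] 340 438 0 (Tr.node (Tr.node Tr.leaf [5] 447 351 0 Tr.leaf) [6] 159 159 0 Tr.leaf)) [11] 135 229 0 (Tr.node (Tr.node (Tr.node Tr.leaf [4] 376 284 0 Tr.leaf) [6] 84 68 0 Tr.leaf) [11] 95 175 0 (Tr.node (Tr.node Tr.leaf [3] 499 495 0 Tr.leaf) [11] 237 147 0 Tr.leaf))) [3] 39 83 0 (Tr.node (Tr.node (Tr.node (Tr.node Tr.leaf [12] 345 237 0 Tr.leaf) [1] 18 43 0 Tr.leaf) [6] 68 68 0 (Tr.node (Tr.node Tr.leaf [12] 478 455 0 Tr.leaf) [2] 116 201 0 Tr.leaf)) [2] 64 122 0 (Tr.node (Tr.node (Tr.node Tr.leaf [11] 304 409 0 Tr.leaf) [8] 118 116 0 Tr.leaf) [11] 306 203 0 (Tr.node (Tr.node Tr.leaf [2] 92 169 0 Tr.leaf) [12] 174 274 0 Tr.leaf)))) [13] 11 27 0 (Tr.node (Tr.node (Tr.node (Tr.node (Tr.node Tr.leaf [4] 324 317 0 Tr.leaf) [11]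 13 18 0 Tr.leaf) [8] 27 26 0 (Tr.node (Tr.node Tr.leaf [1] 375 461 0 Tr.leaf) [5] 178 161 0 Tr.leaf)) [8] 40 31 0 (Tr.node (Tr.node (Tr.node Tr.leaf [4] 392 374 0 Tr.leaf) [2] 41 100 0 Tr.leaf) [6] 226 225 0 (Tr.node (Tr.node Tr.leaf [] 264 94 0 Tr.leaf) [13] 161 254 0 Tr.leaf))) [0] 13 35 0 (Tr.node (Tr.node (Tr.node (Tr.node Tr.leaf [11] 357 351 0 Tr.leaf) [0] 61 33 0 Tr.leaf) [2] 60 119 0 (Tr.node (Tr.node Tr.leaf [3] 410 487 0 Tr.leaf) [0] 129 220 0 Tr.leaf)) [11] 146 237 0 (Tr.node (Tr.node (Tr.node Tr.leaf [12] 325 427 0 Tr.leaf) [6] 142 135 0 Tr.leaf) [11] 378 270 0 (Tr.node Tr.leaf [11] 290 186 0 Tr.leaf)))))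
def pL_4_t_50 : Tr := (Tr.node (Tr.node (Tr.node (Tr.node (Tr.node (Tr.node Tr.leaf [0] 216 314 0 Tr.leaf) [5] 7 4 0 Tr.leaf) [13] 7 3 0 (Tr.node (Tr.node Tr.leaf [6] 453 452 0 Tr.leaf) [8] 168 167 0 Tr.leaf)) [8] 7 4 0 (Tr.node (Tr.node (Tr.node Tr.leaf [12] 273 385 0 Tr.leaf) [8] 94 91 0 Tr.leaf) [6] 202 200 0 (Tr.node (Tr.node Tr.leaf [] 502 339 0 Tr.leaf) [13] 154 247 0 Tr.leaf))) [6] 5 5 0 (Tr.node (Tr.node (Tr.node (Tr.node Tr.leaf [6] 352 348 0 Tr.leaf) [10] 16 49 0 Tr.leaf) [3] 40 99 0 (Tr.node (Tr.node Tr.leaf [10] 464 385 0 Tr.leaf) [2] 211 130 0 Tr.leaf)) [1] 111 193 0 (Tr.node (Tr.node (Tr.node Tr.leaf [6] 418 417 0 Tr.leaf) [8] 133 133 0 Tr.leaf) [6] 336 334 0 (Tr.node (Tr.node Tr.leaf [0] 384 466 0 Tr.leaf) [4] 282 266 0 Tr.leaf)))) [10] 68 150 0 (Tr.node (Tr.node (Tr.node (Tr.node (Tr.node Tr.leaf [3] 333 332 0 Tr.leaf) [13] 30 14 0 Tr.leaf)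 [11] 39 22 0 (Tr.node (Tr.node Tr.leaf [3] 387 470 0 Tr.leaf) [10] 187 106 0 Tr.leaf)) [6] 83 67 0 (Tr.node (Tr.node (Tr.node Tr.leaf [13] 401 291 0 Tr.leaf) [3] 107 106 0 Tr.leaf) [3] 176 260 0 (Tr.node (Tr.node Tr.leaf [] 421 12 0 Tr.leaf) [11] 167 263 0 Tr.leaf))) [6] 130 129 0 (Tr.node (Tr.node (Tr.node (Tr.node Tr.leaf [10] 251 367 0 Tr.leaf) [4] 63 41 0 Tr.leaf) [6] 147 146 0 (Tr.node (Tr.node Tr.leaf [11] 493 422 0 Tr.leaf) [11] 229 142 0 Tr.leaf)) [1] 313 217 0 (Tr.node (Tr.node (Tr.node Tr.leaf [4] 436 434 0 Tr.leaf) [10] 150 84 0 Tr.leaf) [8] 443 436 0 (Tr.node Tr.leaf [13] 298 196 0 Tr.leaf)))))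
def pL_4_t_42 : Tr := (Tr.node (Tr.node (Tr.node (Tr.node (Tr.node (Tr.node Tr.leaf [5] 311 207 0 Tr.leaf) [2] 2 1 0 Tr.leaf) [6] 1 1 0 (Tr.node (Tr.node Tr.leaf [11] 450 448 0 Tr.leaf) [6] 162 161 0 Tr.leaf)) [2] 2 2 0 (Tr.node (Tr.node (Tr.node Tr.leaf [13] 266 381 0 Tr.leaf) [12] 87 70 0 Tr.leaf) [11] 112 195 0 (Tr.node (Tr.node Tr.leaf [2] 436 503 0 Tr.leaf) [8] 241 222 0 Tr.leaf))) [11] 120 209 0 (Tr.node (Tr.node (Tr.node (Tr.node Tr.leaf [10] 243 347 0 Tr.leaf) [13] 46 24 0 Tr.leaf) [5] 65 39 0 (Tr.node (Tr.node Tr.leaf [11] 480 401 0 Tr.leaf) [4] 205 120 0 Tr.leaf)) [6] 151 150 0 (Tr.node (Tr.node (Tr.node Tr.leaf [2] 308 415 0 Tr.leaf) [3] 128 118 0 Tr.leaf) [1] 324 314 0 (Tr.node (Tr.node Tr.leaf [12] 225 332 0 Tr.leaf) [13] 175 278 0 Tr.leaf)))) [0] 120 206 0 (Tr.node (Tr.node (Tr.node (Tr.node (Tr.node Tr.leaf [11] 220 330 0 Tr.leaf) [8]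 24 20 0 Tr.leaf) [5] 38 16 0 (Tr.node (Tr.node Tr.leaf [8] 465 464 0 Tr.leaf) [13] 81 182 0 Tr.leaf)) [8] 65 64 0 (Tr.node (Tr.node (Tr.node Tr.leaf [1] 285 397 0 Tr.leaf) [8] 103 83 0 Tr.leaf) [11] 223 153 0 (Tr.node (Tr.node Tr.leaf [] 424 4 0 Tr.leaf) [13] 165 259 0 Tr.leaf))) [2] 39 82 0 (Tr.node (Tr.node (Tr.node (Tr.node Tr.leaf [3] 362 226 0 Tr.leaf) [13] 34 69 0 Tr.leaf) [1] 66 128 0 (Tr.node (Tr.node Tr.leaf [13] 490 416 0 Tr.leaf) [6] 224 220 0 Tr.leaf)) [3] 151 246 0 (Tr.node (Tr.node (Tr.node Tr.leaf [0] 336 432 0 Tr.leaf) [8] 145 144 0 Tr.leaf) [10] 314 419 0 (Tr.node Tr.leaf [6] 294 293 0 Tr.leaf)))))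
def pL_4_t_58 : Tr := (Tr.node (Tr.node (Tr.node (Tr.node (Tr.node (Tr.node Tr.leaf [3] 208 318 0 Tr.leaf) [5] 12 5 0 Tr.leaf) [6] 19 15 0 (Tr.node (Tr.node Tr.leaf [13] 456 368 0 Tr.leaf) [0] 174 160 0 Tr.leaf)) [6] 19 16 0 (Tr.node (Tr.node (Tr.node Tr.leaf [6] 389 388 0 Tr.leaf) [0] 97 88 0 Tr.leaf) [8] 215 213 0 (Tr.node (Tr.node Tr.leaf [11] 460 430 0 Tr.leaf) [6] 227 250 0 Tr.leaf))) [6] 16 15 0 (Tr.node (Tr.node (Tr.node (Tr.node Tr.leaf [12] 223 356 0 Tr.leaf) [1] 22 54 0 Tr.leaf) [12] 112 57 0 (Tr.node (Tr.node Tr.leaf [3] 405 483 0 Tr.leaf) [12] 216 131 0 Tr.leaf)) [13] 123 212 0 (Tr.node (Tr.node (Tr.node Tr.leaf [1] 423 414 0 Tr.leaf) [10] 72 139 0 Tr.leaf) [13] 359 226 0 (Tr.node Tr.leaf [12] 179 285 0 Tr.leaf)))) [8] 30 29 0 (Tr.node (Tr.node (Tr.node (Tr.node (Tr.node Tr.leaf [1] 339 338 0 Tr.leaf) [4] 30 16 0 Tr.leaf) [1] 59 58 0 (Tr.node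 (Tr.node Tr.leaf [11] 392 474 0 Tr.leaf) [0] 111 192 0 Tr.leaf)) [3] 57 114 0 (Tr.node (Tr.node (Tr.node Tr.leaf [10] 302 405 0 Tr.leaf) [6] 114 114 0 Tr.leaf) [6] 290 289 0 (Tr.node (Tr.node Tr.leaf [] 318 2 0 Tr.leaf) [6] 270 262 0 Tr.leaf))) [11] 96 177 0 (Tr.node (Tr.node (Tr.node (Tr.node Tr.leaf [0] 256 371 0 Tr.leaf) [6] 79 75 0 Tr.leaf) [0] 86 157 0 (Tr.node (Tr.node Tr.leaf [3] 418 496 0 Tr.leaf) [10] 138 234 0 Tr.leaf)) [2] 238 350 0 (Tr.node (Tr.node (Tr.node Tr.leaf [6] 442 439 0 Tr.leaf) [3] 156 86 0 Tr.leaf) [11] 386 469 0 (Tr.node Tr.leaf [8] 303 302 0 Tr.leaf)))))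
def pL_4_t_38 : Tr := (Tr.node (Tr.node (Tr.node (Tr.node (Tr.node (Tr.node Tr.leaf [5] 310 206 0 Tr.leaf) [] 489 7 0 Tr.leaf) [13] 418 497 0 (Tr.node (Tr.node Tr.leaf [1] 354 449 0 Tr.leaf) [10] 111 83 0 Tr.leaf)) [13] 273 386 0 (Tr.node (Tr.node (Tr.node Tr.leaf [5] 378 263 0 Tr.leaf) [8] 81 80 0 Tr.leaf) [6] 185 184 0 (Tr.node (Tr.node Tr.leaf [5] 501 431 0 Tr.leaf) [8] 239 213 0 Tr.leaf))) [8] 130 129 0 (Tr.node (Tr.node (Tr.node (Tr.node Tr.leaf [11] 346 333 0 Tr.leaf) [10] 33 19 0 Tr.leaf) [13] 36 74 0 (Tr.node (Tr.node Tr.leaf [11] 398 479 0 Tr.leaf) [8] 203 202 0 Tr.leaf)) [3] 127 117 0 (Tr.node (Tr.node (Tr.node Tr.leaf [11] 305 411 0 Tr.leaf) [3] 125 124 0 Tr.leaf) [2] 210 320 0 (Tr.node (Tr.node Tr.leaf [1] 169 266 0 Tr.leaf) [3] 175 276 0 Tr.leaf)))) [0] 68 133 0 (Tr.node (Tr.node (Tr.node (Tr.node (Tr.node Tr.leaf [1] 328 306 0 Tr.leaf)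 [10] 7 23 0 Tr.leaf) [8] 33 33 0 (Tr.node (Tr.node Tr.leaf [3] 463 379 0 Tr.leaf) [2] 81 180 0 Tr.leaf)) [13] 25 55 0 (Tr.node (Tr.node (Tr.node Tr.leaf [11] 280 395 0 Tr.leaf) [11] 41 102 0 Tr.leaf) [6] 237 236 0 (Tr.node (Tr.node Tr.leaf [] 419 7 0 Tr.leaf) [8] 256 255 0 Tr.leaf))) [13] 20 46 0 (Tr.node (Tr.node (Tr.node (Tr.node Tr.leaf [5] 360 244 0 Tr.leaf) [6] 63 58 0 Tr.leaf) [3] 124 68 0 (Tr.node (Tr.node Tr.leaf [0] 487 483 0 Tr.leaf) [12] 223 194 0 Tr.leaf)) [4] 225 150 0 (Tr.node (Tr.node (Tr.node Tr.leaf [13] 326 429 0 Tr.leaf) [11] 75 144 0 Tr.leaf) [11] 402 300 0 (Tr.node Tr.leaf [11] 292 185 0 Tr.leaf)))))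
def pL_4_t_54 : Tr := (Tr.node (Tr.node (Tr.node (Tr.node (Tr.node (Tr.node Tr.leaf [11] 316 210 0 Tr.leaf) [8] 10 5 0 Tr.leaf) [8] 14 13 0 (Tr.node (Tr.node Tr.leaf [11] 455 362 0 Tr.leaf) [6] 171 168 0 Tr.leaf)) [6] 13 13 0 (Tr.node (Tr.node (Tr.node Tr.leaf [11] 387 278 0 Tr.leaf) [4] 95 87 0 Tr.leaf) [12] 206 134 0 (Tr.node (Tr.node Tr.leaf [] 445 394 0 Tr.leaf) [10] 248 156 0 Tr.leaf))) [3] 7 4 0 (Tr.node (Tr.node (Tr.node (Tr.node Tr.leaf [8] 354 347 0 Tr.leaf) [8] 50 33 0 Tr.leaf) [6] 109 95 0 (Tr.node (Tr.node Tr.leaf [12] 481 403 0 Tr.leaf) [12] 209 213 0 Tr.leaf)) [12] 115 199 0 (Tr.node (Tr.node (Tr.node Tr.leaf [8] 420 417 0 Tr.leaf) [1] 136 91 0 Tr.leaf) [10] 340 233 0 (Tr.node Tr.leaf [6] 283 280 0 Tr.leaf)))) [11] 1 9 0 (Tr.node (Tr.node (Tr.node (Tr.node (Tr.node Tr.leaf [8] 335 334 0 Tr.leaf) [2] 27 16 0 Tr.leaf) [8] 53 51 0 (Tr.node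 (Tr.node Tr.leaf [6] 472 471 0 Tr.leaf) [10] 99 189 0 Tr.leaf)) [6] 92 91 0 (Tr.node (Tr.node (Tr.node Tr.leaf [8] 403 402 0 Tr.leaf) [8] 109 107 0 Tr.leaf) [1] 172 270 0 (Tr.node (Tr.node Tr.leaf [] 407 1 0 Tr.leaf) [11] 267 154 0 Tr.leaf))) [13] 65 149 0 (Tr.node (Tr.node (Tr.node (Tr.node Tr.leaf [4] 300 275 0 Tr.leaf) [10] 77 38 0 Tr.leaf) [13] 82 153 0 (Tr.node (Tr.node Tr.leaf [0] 483 494 0 Tr.leaf) [0] 229 164 0 Tr.leaf)) [1] 231 339 0 (Tr.node (Tr.node (Tr.node Tr.leaf [13] 340 440 0 Tr.leaf) [8] 153 152 0 Tr.leaf) [12] 460 462 0 (Tr.node Tr.leaf [8] 300 299 0 Tr.leaf)))))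
def pL_4_t_46 : Tr := (Tr.node (Tr.node (Tr.node (Tr.node (Tr.node (Tr.node Tr.leaf [4] 313 304 0 Tr.leaf) [3] 3 3 0 Tr.leaf) [8] 9 9 0 (Tr.node (Tr.node Tr.leaf [10] 360 452 0 Tr.leaf) [11] 90 164 0 Tr.leaf)) [10] 8 2 0 (Tr.node (Tr.node (Tr.node Tr.leaf [13] 267 383 0 Tr.leaf) [10] 91 48 0 Tr.leaf) [2] 198 131 0 (Tr.node (Tr.node Tr.leaf [3] 504 440 0 Tr.leaf) [2] 151 245 0 Tr.leaf))) [11] 199 306 0 (Tr.node (Tr.node (Tr.node (Tr.node Tr.leaf [10] 350 243 0 Tr.leaf) [2] 48 22 0 Tr.leaf) [4] 88 45 0 (Tr.node (Tr.node Tr.leaf [] 468 465 0 Tr.leaf) [6] 209 208 0 Tr.leaf)) [6] 177 176 0 (Tr.node (Tr.node (Tr.node Tr.leaf [11] 416 319 0 Tr.leaf) [3] 115 131 0 Tr.leaf) [11] 217 328 0 (Tr.node (Tr.node Tr.leaf [13] 268 384 0 Tr.leaf) [4] 279 230 0 Tr.leaf)))) [0] 29 58 0 (Tr.node (Tr.node (Tr.node (Tr.node (Tr.node Tr.leaf [11] 221 331 0 Tr.leaf) [2] 27 15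 0 Tr.leaf) [8] 46 45 0 (Tr.node (Tr.node Tr.leaf [10] 386 468 0 Tr.leaf) [13] 83 186 0 Tr.leaf)) [10] 37 77 0 (Tr.node (Tr.node (Tr.node Tr.leaf [12] 399 292 0 Tr.leaf) [2] 51 105 0 Tr.leaf) [13] 225 150 0 (Tr.node (Tr.node Tr.leaf [] 326 3 0 Tr.leaf) [1] 261 260 0 Tr.leaf))) [12] 121 61 0 (Tr.node (Tr.node (Tr.node (Tr.node Tr.leaf [11] 247 364 0 Tr.leaf) [1] 27 70 0 Tr.leaf) [1] 135 96 0 (Tr.node (Tr.node Tr.leaf [0] 415 492 0 Tr.leaf) [4] 227 214 0 Tr.leaf)) [13] 174 275 0 (Tr.node (Tr.node (Tr.node Tr.leaf [0] 372 433 0 Tr.leaf) [13] 125 80 0 Tr.leaf) [3] 338 433 0 (Tr.node Tr.leaf [6] 296 295 0 Tr.leaf)))))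
def pL_4_t_62 : Tr := (Tr.node (Tr.node (Tr.node (Tr.node (Tr.node (Tr.node Tr.leaf [12] 322 315 0 Tr.leaf) [12] 15 8 0 Tr.leaf) [6] 21 20 0 (Tr.node (Tr.node Tr.leaf [3] 369 459 0 Tr.leaf) [5] 177 137 0 Tr.leaf)) [3] 35 20 0 (Tr.node (Tr.node (Tr.node Tr.leaf [8] 391 390 0 Tr.leaf) [2] 40 98 0 Tr.leaf) [1] 129 221 0 (Tr.node (Tr.node Tr.leaf [] 430 372 0 Tr.leaf) [6] 252 251 0 Tr.leaf))) [11] 4 21 0 (Tr.node (Tr.node (Tr.node (Tr.node Tr.leaf [10] 355 348 0 Tr.leaf) [6] 57 57 0 Tr.leaf) [1] 115 64 0 (Tr.node (Tr.node Tr.leaf [6] 484 483 0 Tr.leaf) [12] 128 218 0 Tr.leaf)) [3] 134 227 0 (Tr.node (Tr.node (Tr.node Tr.leaf [5] 425 420 0 Tr.leaf) [8] 140 136 0 Tr.leaf) [6] 362 361 0 (Tr.node Tr.leaf [6] 287 286 0 Tr.leaf)))) [10] 31 64 0 (Tr.node (Tr.node (Tr.node (Tr.node (Tr.node Tr.leaf [8] 343 340 0 Tr.leaf) [6] 40 32 0 Tr.leaf) [8] 61 61 0 (Tr.node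 (Tr.node Tr.leaf [2] 395 476 0 Tr.leaf) [6] 197 196 0 Tr.leaf)) [11] 59 118 0 (Tr.node (Tr.node (Tr.node Tr.leaf [0] 406 306 0 Tr.leaf) [5] 117 60 0 Tr.leaf) [6] 299 298 0 (Tr.node (Tr.node Tr.leaf [] 2 0 0 Tr.leaf) [1] 173 272 0 Tr.leaf))) [13] 127 217 0 (Tr.node (Tr.node (Tr.node (Tr.node Tr.leaf [4] 373 265 0 Tr.leaf) [8] 80 64 0 Tr.leaf) [3] 92 170 0 (Tr.node (Tr.node Tr.leaf [11] 497 463 0 Tr.leaf) [12] 235 145 0 Tr.leaf)) [3] 306 413 0 (Tr.node (Tr.node (Tr.node Tr.leaf [0] 445 381 0 Tr.leaf) [8] 157 133 0 Tr.leaf) [10] 462 386 0 (Tr.node Tr.leaf [1] 305 304 0 Tr.leaf)))))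
def pL_4_t : Tr := (Tr.node (Tr.node (Tr.node (Tr.node (Tr.node pL_4_t_31 [0] 1 3 0 pL_4_t_47) [1] 0 0 0 (Tr.node pL_4_t_39 [1] 1 4 0 pL_4_t_55)) [6] 0 0 0 (Tr.node (Tr.node pL_4_t_35 [1] 15 32 0 pL_4_t_51) [13] 0 0 0 (Tr.node pL_4_t_43 [12] 33 68 0 pL_4_t_59))) [2] 0 0 0 (Tr.node (Tr.node (Tr.node pL_4_t_33 [2] 33 66 0 pL_4_t_49) [5] 0 0 0 (Tr.node pL_4_t_41 [0] 15 31 0 pL_4_t_57)) [10] 0 0 0 (Tr.node (Tr.node pL_4_t_37 [11] 15 39 0 pL_4_t_53) [10] 1 5 0 (Tr.node pL_4_t_45 [3] 5 14 0 pL_4_t_61)))) [0] 0 0 0 (Tr.node (Tr.node (Tr.node (Tr.node pL_4_t_32 [10] 15 33 0 pL_4_t_48) [3] 0 0 0 (Tr.node pL_4_t_40 [13] 5 16 0 pL_4_t_56)) [8] 0 0 0 (Tr.node (Tr.node pL_4_t_36 [2] 5 13 0 pL_4_t_52) [12] 0 1 0 (Tr.node pL_4_t_44 [13] 66 130 0 pL_4_t_60))) [4] 0 0 0 (Tr.node (Tr.node (Tr.node pL_4_t_34 [13] 0 2 0 pL_4_t_50) [11] 0 0 0 (Tr.node pL_4_t_42 [6] 39 33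 0 pL_4_t_58)) [12] 0 0 0 (Tr.node (Tr.node pL_4_t_38 [12] 1 0 0 pL_4_t_54) [12] 5 15 0 (Tr.node pL_4_t_46 [13] 64 125 0 pL_4_t_62)))))
def pL_4_m0 : ℕ := (nat_lit 0x8)
def pL_4_m1 : ℕ := (nat_lit 0x1c00)
def pL_4_m2 : ℕ := (nat_lit 0)
def pL_4_m3 : ℕ := (nat_lit 0)
def pL_4_m4 : ℕ := (nat_lit 0)
def pL_4_m5 : ℕ := (nat_lit 0x40)
def pL_4_m6 : ℕ := (nat_lit 0)
def pL_4_m7 : ℕ := (nat_lit 0x4)
def pL_4_m8 : ℕ := (nat_lit 0x380)
def pL_4_m9 : ℕ := (nat_lit 0)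
def pL_4_m10 : ℕ := (nat_lit 0x30)
def pL_4_m11 : ℕ := (nat_lit 0x2)
def pL_4_p0 : List ℕ := [nat_lit 0x101900100f,
  nat_lit 0x1019003011,
  nat_lit 0x101900b015,
  nat_lit 0x101900d017,
  nat_lit 0x300100c003003,
  nat_lit 0xd00501500d00a,
  nat_lit 0xc00600d00700c,
  nat_lit 0x1019007007,
  nat_lit 0x1001001001001,
  nat_lit 0xd00500501300300e,
  nat_lit 0xb00100500b00500c,
  nat_lit 0xd00400401400500e,
  nat_lit 0x300700600e007004,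
  nat_lit 0x400700200e007003,
  nat_lit 0xe00601500900e,
  nat_lit 0x1006005003005002,
  nat_lit 0x3006005005005004,
  nat_lit 0xb00600500a00100c,
  nat_lit 0x2006008003005001,
  nat_lit 0x4006008005005003,
  nat_lit 0xd00900700501600700e,
  nat_lit 0x2006004003004003001,
  nat_lit 0xb00500d00b008,
  nat_lit 0x7001001006001008,
  nat_lit 0x2008002006007002,
  nat_lit 0x1019007007,
  nat_lit 0x1009006008009002,
  nat_lit 0x3002006005004001004,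
  nat_lit 0x5001004006004003002,
  nat_lit 0x2009002008009001,
  nat_lit 0xb00900700401100900c,
  nat_lit 0x400200300a004001005,
  nat_lit 0x100d00100d00101700d001,
  nat_lit 0xd00501500d00a,
  nat_lit 0xb00500d00b008,
  nat_lit 0xc00600d00700c,
  nat_lit 0x700300d00b00b,
  nat_lit 0x300b00300b00101200b003,
  nat_lit 0x400a002010009004,
  nat_lit 0x1019009009,
  nat_lit 0xc00200800a00500b,
  nat_lit 0xc00a00b009011009008,
  nat_lit 0xb00500d00b008,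
  nat_lit 0x3002006005004001004,
  nat_lit 0x3006005005005004,
  nat_lit 0x400a002010009004,
  nat_lit 0x1019009009,
  nat_lit 0x4006008005005003,
  nat_lit 0x6008002007007006,
  nat_lit 0x5002006003001006,
  nat_lit 0xb00500d00b008,
  nat_lit 0x5700200111b044,
  nat_lit 0x7fb0020017fd1e2,
  nat_lit 0x1ed0020018753a8,
  nat_lit 0x7b00200127505e,
  nat_lit 0x2f00200142f020,
  nat_lit 0x77d00200177f77a,
  nat_lit 0x630020015a704e,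
  nat_lit 0x367002001769768,
  nat_lit 0x27002001249034,
  nat_lit 0x1d900200175d75a,
  nat_lit 0x1d500200c72171e,
  nat_lit 0x33b0060156c16be,
  nat_lit 0xfd0060153390fc,
  nat_lit 0x32700601568d324,
  nat_lit 0x34b0060151bf09a,
  nat_lit 0x9300601567f1ae,
  nat_lit 0x2a700200c565562,
  nat_lit 0x65d00601565f30c,
  nat_lit 0x19f006015309b8a,
  nat_lit 0x2ff00601562f62c,
  nat_lit 0xf3006015625622,
  nat_lit 0x910060151975f2,
  nat_lit 0x2ed0060155ed5e8,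
  nat_lit 0xed0060155e12e8,
  nat_lit 0x3900601508d2d8,
  nat_lit 0x3d0060150e10e0,
  nat_lit 0x2b70060152b92b4,
  nat_lit 0x2af00200c56f2ac,
  nat_lit 0x1900501502d00a,
  nat_lit 0x89900601589b898,
  nat_lit 0x3e300200c9eb206,
  nat_lit 0x95f00601596195c,
  nat_lit 0x947006015949110,
  nat_lit 0x93b00601593d938,
  nat_lit 0x10d006015927926,
  nat_lit 0x91d00601591f3c8,
  nat_lit 0x9070060159091fa,
  nat_lit 0x9010060159033c4,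
  nat_lit 0x8cf0060153b93b8,
  nat_lit 0x745006015747744,
  nat_lit 0x1f3006015889884,
  nat_lit 0x86b00601586d3a2,
  nat_lit 0x1df0060157f5380,
  nat_lit 0x9b0060157ed37c,
  nat_lit 0x3790060157e7b94,
  nat_lit 0x7a10060157a310a,
  nat_lit 0x795006015797792,
  nat_lit 0x1dd00601578b786,
  nat_lit 0x74b00601574d74a,
  nat_lit 0xb700200c443440,
  nat_lit 0x3100601504f01e,
  nat_lit 0xd3006015289158,
  nat_lit 0x870060150d7038,
  nat_lit 0x2500601503f01a,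
  nat_lit 0x28d00601528f4e4,
  nat_lit 0x5b0060150c7478,
  nat_lit 0x25f00601549b498,
  nat_lit 0x1370060151390ba,
  nat_lit 0xcd00601525d0cc,
  nat_lit 0x4900200c4ff024,
  nat_lit 0x45006015245070,
  nat_lit 0x73006015075072,
  nat_lit 0x250020150a100a,
  nat_lit 0x10500600d6e734a,
  nat_lit 0x1c500600d34d702,
  nat_lit 0x2b00600d035022,
  nat_lit 0x3bf00600d8e98e6,
  nat_lit 0x6700600d345104,
  nat_lit 0x10100600d341100,
  nat_lit 0x93300600d935930,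
  nat_lit 0x9500600d69d1b0,
  nat_lit 0x4a900600d4ab4a6,
  nat_lit 0xcf00600d27b048,
  nat_lit 0x35100600d353098,
  nat_lit 0x71100600d7131ca,
  nat_lit 0x6d00600d0a901c,
  nat_lit 0x1e900600d39b398,
  nat_lit 0x1f700600d8e3b9a,
  nat_lit 0x22700600d4290a8,
  nat_lit 0x45100600d45344e,
  nat_lit 0x7bb00600d7bd7ba,
  nat_lit 0x37300600d375b92,
  nat_lit 0x1ef00600d1f13ac,
  nat_lit 0xbd00600d23d0bc,
  nat_lit 0xb100600d1290b0,
  nat_lit 0x85500600d857852,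
  nat_lit 0x1a100600d31166e,
  nat_lit 0x16f00600d523522,
  nat_lit 0x8900600d16d0da,
  nat_lit 0x54d00600d54f54a,
  nat_lit 0x3f500600da61a5e,
  nat_lit 0xa2300600da25a1e,
  nat_lit 0x2c100600d17708c,
  nat_lit 0x9e700600d9e9204,
  nat_lit 0x17d00600d57f17a,
  nat_lit 0x4b00600d083164,
  nat_lit 0xeb00600d2df0ea,
  nat_lit 0x5cd00600d5cf5ca,
  nat_lit 0x9f00600d9a5200,
  nat_lit 0x15f00600d29115e,
  nat_lit 0x8f00600d195066,
  nat_lit 0x98d00600d98f98a,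
  nat_lit 0x31500600d3171a8,
  nat_lit 0x61300600d615612,
  nat_lit 0x66700600d669664,
  nat_lit 0x5300600d05f07e,
  nat_lit 0xf500600d19d19c,
  nat_lit 0x30500600d199304,
  nat_lit 0x97900600d97b976,
  nat_lit 0x1900600401306901a,
  nat_lit 0x25006001014115026,
  nat_lit 0xa071f5001013a0b8a4,
  nat_lit 0xb079c3005014b099c6,
  nat_lit 0x8556c500100a859102,
  nat_lit 0x90b76300100a90d766,
  nat_lit 0x10f1070050143cb10a,
  nat_lit 0x8716ef00501487309a,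
  nat_lit 0x9851e100100a98709e,
  nat_lit 0x1900300501411301a,
  nat_lit 0x9b71e700400b9bb398,
  nat_lit 0x25003001013417026,
  nat_lit 0xa031f5005014a058a2,
  nat_lit 0xb0b20100400bb0d9d2,
  nat_lit 0x98d7fb00800a99109e,
  nat_lit 0x2031ed00400b3e13ac,
  nat_lit 0xaf01f00500b05901c,
  nat_lit 0x3b71cf0050148cd1d4,
  nat_lit 0x5cd4e700100a5d1160,
  nat_lit 0x82b05500100a82f096,
  nat_lit 0x7d03300500b07f022,
  nat_lit 0x4d524f0010134d7046,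
  nat_lit 0x14d4570080134d9046,
  nat_lit 0x61d16b00800a61f08a,
  nat_lit 0x61916b00400b61b0da,
  nat_lit 0x60951300500b60b07a,
  nat_lit 0x390230010135f9088,
  nat_lit 0x3292c500501432b062,
  nat_lit 0x5303300100a29502c,
  nat_lit 0x2d7023005014597038,
  nat_lit 0x17907b00400b57d048,
  nat_lit 0x2c105d00100a2c30d0,
  nat_lit 0x8b05d00500b2bf048,
  nat_lit 0x16302700400b29b022,
  nat_lit 0xb8125900401429d0cc,
  nat_lit 0x4b02700800a53b02c,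
  nat_lit 0x755b830010137570f4,
  nat_lit 0x82705500500b3891b0,
  nat_lit 0x1df1ab0010137f7094,
  nat_lit 0xbb02f00400b13301c]
def pL_4_p1 : List ℕ := [nat_lit 0x37f1ab0050143811ae,
  nat_lit 0xbd02f00800a44b06e,
  nat_lit 0x710290050140c101e,
  nat_lit 0x73029001013475032,
  nat_lit 0x1b31850010136a303e,
  nat_lit 0x47703b00401447901e,
  nat_lit 0x7252ef001013727092,
  nat_lit 0x5b03b008013255032,
  nat_lit 0x6704d00100a717090,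
  nat_lit 0x10304d00500b1cd066,
  nat_lit 0x1050e700800a6eb0ec,
  nat_lit 0x3490e700400b6e30ea,
  nat_lit 0x1b55890080136a703e,
  nat_lit 0x1900900700501621501a,
  nat_lit 0x5702500201a004017225020,
  nat_lit 0x2e00601521301a,
  nat_lit 0x1b00500d041216,
  nat_lit 0x78d19a00200e78f1dc,
  nat_lit 0xd503600600e501024,
  nat_lit 0x1612560010034f3052,
  nat_lit 0x81332c00100381569a,
  nat_lit 0x80b32c00400380d056,
  nat_lit 0x37731200600e7dd7da,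
  nat_lit 0x7d366a00200e7d57d2,
  nat_lit 0x36f19e00600e7a7108,
  nat_lit 0x8503600200e16504a,
  nat_lit 0x4e947a0080034eb028,
  nat_lit 0x72f5fa0050037312f6,
  nat_lit 0x1d519600200e1d71d2,
  nat_lit 0x1534760080034e5052,
  nat_lit 0x5d0c2004003273034,
  nat_lit 0x7b0c2001003277028,
  nat_lit 0x33d59800100333f064,
  nat_lit 0x68517800600e6891ac,
  nat_lit 0x8fb7580080038fd368,
  nat_lit 0x96f3820040039731e2,
  nat_lit 0x2fd16e00200e6272fa,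
  nat_lit 0x9c939c00600e9cb9c4,
  nat_lit 0x1f114004003121020,
  nat_lit 0x9ef1f200600e9f1206,
  nat_lit 0x9f31f200200e9f53e4,
  nat_lit 0x5574ac00600e559554,
  nat_lit 0xa6b93600600ea6da68,
  nat_lit 0xabb97c00200eabdab6,
  nat_lit 0x18b06000600e591186,
  nat_lit 0xac999000200eacbac6,
  nat_lit 0x18b29600400563f0d6,
  nat_lit 0xdf0800040132cd038,
  nat_lit 0x2ef29c0040052f1024,
  nat_lit 0x9129c0080145f5088,
  nat_lit 0x64d53c00500564f0d6,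
  nat_lit 0x3232c400501368b182,
  nat_lit 0x6fb5d20050136ff2e4,
  nat_lit 0x75161c0010057532fa,
  nat_lit 0x3a16e400501386709a,
  nat_lit 0x1eb6ec0010143a31c2,
  nat_lit 0x3af1ce0050053b11d0,
  nat_lit 0x8c91ce0080053b31d2,
  nat_lit 0xba138a0080053d7836,
  nat_lit 0x9af8300040059b1838,
  nat_lit 0x3ef90e008014a4d910,
  nat_lit 0xac1988001005ac31fe,
  nat_lit 0xac99920080052071fe,
  nat_lit 0xb153e2004005b17206,
  nat_lit 0xb193e2008014b1d9ee,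
  nat_lit 0x185080005005187024,
  nat_lit 0x25f44c00101449d138,
  nat_lit 0xcb13400501325b01e,
  nat_lit 0x25913400100549303c,
  nat_lit 0x58908000800518904a,
  nat_lit 0x4505a00101446d032,
  nat_lit 0x24f05a00500546b02a,
  nat_lit 0x6f05a00401324101e,
  nat_lit 0x45705a00800513b03c,
  nat_lit 0x61329e00800b61708a,
  nat_lit 0xa753cc00100b3f794e,
  nat_lit 0x97938200100b97d09e,
  nat_lit 0x1b11400400a22301c,
  nat_lit 0xa6f3cc00400aa7394c,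
  nat_lit 0xa1d8ce00400aa1f8d8,
  nat_lit 0x470c200400a279022,
  nat_lit 0x143050006008145034,
  nat_lit 0xa200400401421901a,
  nat_lit 0x51050002008147028,
  nat_lit 0xa200300501421b01a,
  nat_lit 0xa51920002008a553f2,
  nat_lit 0xa45904002008a473ea,
  nat_lit 0xb971c00020088791ee,
  nat_lit 0x8f574e0060088f98f2,
  nat_lit 0x9897fe00500b98b984,
  nat_lit 0x57040002008125030,
  nat_lit 0x20387600500b9e53e0,
  nat_lit 0x43040006008119020,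
  nat_lit 0x36d630002008777772,
  nat_lit 0x5c32900060085c75c0,
  nat_lit 0x17d27600100a5812c2,
  nat_lit 0x17927600500b57b08c,
  nat_lit 0x2f50d80060085fd04e,
  nat_lit 0x4b313a00600826d4b0,
  nat_lit 0x5ff0d8002008603064,
  nat_lit 0x4b24a00100a539054,
  nat_lit 0x1610c80020084f74ea,
  nat_lit 0x4b513a0020084b74b2,
  nat_lit 0x1530760020084cf07c,
  nat_lit 0x4c70760060084cb05e,
  nat_lit 0x1bb08e0020086d733e,
  nat_lit 0x2e005008014416026,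
  nat_lit 0x8a335489a0090168a589c,
  nat_lit 0x25f23e0ce00901626125e,
  nat_lit 0x79519a1de00901679978c,
  nat_lit 0x74b61674600901674f748,
  nat_lit 0x2500802600901606b040,
  nat_lit 0x7a919e7a20090167ad7a4,
  nat_lit 0xed06003e0090162eb0e2,
  nat_lit 0x2ff16e0f4009016631626,
  nat_lit 0x2f06a114002004221030,
  nat_lit 0x655084092009016659198,
  nat_lit 0x1c12e034c0090161c31c0,
  nat_lit 0x327178094009016691680,
  nat_lit 0x1370aa0320090160bf050,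
  nat_lit 0x1eb6e886c0090163a586e,
  nat_lit 0x963376960009016967962,
  nat_lit 0x4002e007008016217026,
  nat_lit 0x87b1c01f000901187d1f2,
  nat_lit 0x39d33a1ea00901184f39c,
  nat_lit 0x5b928a0ec0090115bd2e0,
  nat_lit 0x22704006e00901142d0aa,
  nat_lit 0x7bf1987bc0090117c37be,
  nat_lit 0x7cb30a3740090117cf376,
  nat_lit 0x4a905002c0090114ad036,
  nat_lit 0xa2b3baa24009011a2fa26,
  nat_lit 0x71108e102009011715342,
  nat_lit 0x70b0e235200901170d354,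
  nat_lit 0x16f25e08a00901152516e,
  nat_lit 0x3eb1f975e902001017a49a46,
  nat_lit 0x2f02e0020a10040170ab044,
  nat_lit 0x2250020150a3126,
  nat_lit 0xa700500d11d218,
  nat_lit 0x4200600d0a501c,
  nat_lit 0x87f1c40020068813a8,
  nat_lit 0x94d00200d94f7ad,
  nat_lit 0x92b00200d92d799,
  nat_lit 0x2b00200d2650bf,
  nat_lit 0x4b30c000300626b028,
  nat_lit 0x4b50c000200614b034,
  nat_lit 0x8f57500030068f78f0,
  nat_lit 0xd900500d51d261,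
  nat_lit 0x8900200d51f261,
  nat_lit 0x2100500d4a10bf,
  nat_lit 0x1ef00200d8771c3,
  nat_lit 0x3ab00500d3ad1c3,
  nat_lit 0x9d00200d385691,
  nat_lit 0x36d632002006775764,
  nat_lit 0x36b62800300676b1da,
  nat_lit 0x35100200d1c72eb,
  nat_lit 0x1b00500d42106b,
  nat_lit 0x9d53a60030069d7202,
  nat_lit 0xa9300200da95967,
  nat_lit 0x4306c00300622b030,
  nat_lit 0x1f06b003006229058,
  nat_lit 0x6d00200d12306b,
  nat_lit 0x9d100500d9d33a5,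
  nat_lit 0x4321a00500321f020,
  nat_lit 0x5721c001003425030,
  nat_lit 0xa4a0020153eea48,
  nat_lit 0x1b518a0010147af1a0,
  nat_lit 0x51749400801451b05c,
  nat_lit 0x14d13c0010144db05c,
  nat_lit 0x65553a0080146570ee,
  nat_lit 0x7252f200801472903a,
  nat_lit 0x1b31880010146a503a,
  nat_lit 0xac598c008005ac7ac0,
  nat_lit 0x8b10020158b3715,
  nat_lit 0xaaf97400100bab1986,
  nat_lit 0xf3002015623525,
  nat_lit 0x8b27400400a2bd07e,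
  nat_lit 0x990050156f15bd,
  nat_lit 0xab002015127125,
  nat_lit 0x9570050159597c3,
  nat_lit 0x3100201523f42d,
  nat_lit 0xaf12200400a2370b0,
  nat_lit 0x95b00501595d7cf,
  nat_lit 0x9c50050159c784f,
  nat_lit 0x9f787e0020109f9206,
  nat_lit 0x8ab70e0020108ad892,
  nat_lit 0x73b60400301073f1be,
  nat_lit 0x3615fe003010737360,
  nat_lit 0x1f213006008419020,
  nat_lit 0x2ab4b800301056d2a8,
  nat_lit 0x56726e00201056b55e,
  nat_lit 0x5574ae00301055b04a,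
  nat_lit 0x53d14600301053f2a4,
  nat_lit 0x2a51460020105412a2,
  nat_lit 0x4202000800a4360b2,
  nat_lit 0x5711521c0020040ad030,
  nat_lit 0x1fb7a894800901695394a,
  nat_lit 0x93b79010e00901693f928,
  nat_lit 0x65d1661a000901666130a,
  nat_lit 0x80568a1e00090168097f6,
  nat_lit 0x2ed50203a0090165ef08e]
def pL_4_p2 : List ℕ := [nat_lit 0x2f06a21900200441f058,
  nat_lit 0xa721804000501111f01c,
  nat_lit 0x1b21521300501111701c,
  nat_lit 0x29e25c028001004536174,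
  nat_lit 0x1f06a02000700441d121,
  nat_lit 0xc502922300700413d133,
  nat_lit 0x4d846e05200100450c508,
  nat_lit 0xe302327900700418d57d,
  nat_lit 0x2081fd97d00100420aabc,
  nat_lit 0x4511260be00901145523e,
  nat_lit 0x54d14804c009011551084,
  nat_lit 0xba387a9e80090113e59ea,
  nat_lit 0x3301d224032001017263052,
  nat_lit 0x8f17496183000010178f336e,
  nat_lit 0x2901b06a04100101243703c,
  nat_lit 0x8910972ce0900010128931d6,
  nat_lit 0xdb07924202c00101260d086,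
  nat_lit 0x2fd08925c022004012629024,
  nat_lit 0x1d0050150b3118,
  nat_lit 0xb100200d23922a,
  nat_lit 0x11e00600d41b0a8,
  nat_lit 0x5300200d53114b,
  nat_lit 0x4b00200d53726b,
  nat_lit 0xbd00200d23b22b,
  nat_lit 0xbb00500d44922b,
  nat_lit 0x16500300d60f60d,
  nat_lit 0x10100200d3555ef,
  nat_lit 0x37300200d7c5661,
  nat_lit 0x1d700300d895893,
  nat_lit 0x90b00200d3c5775,
  nat_lit 0xacb209001006acdabe,
  nat_lit 0x97500500d977809,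
  nat_lit 0x3df00500d9df881,
  nat_lit 0xa5900200da5b93f,
  nat_lit 0xa6f00500da71953,
  nat_lit 0x56726c00200e569174,
  nat_lit 0x2ab14c00600e2ad2a2,
  nat_lit 0x2af14c00200e2b12a4,
  nat_lit 0x3b0a500200e43b03c,
  nat_lit 0x2640020154a0148,
  nat_lit 0x25900200c49113d,
  nat_lit 0x45f43600400546102a,
  nat_lit 0x2254260080144330ac,
  nat_lit 0x290a500600e12d02a,
  nat_lit 0x9100201564b551,
  nat_lit 0x19f00201565b55b,
  nat_lit 0xb19002015b1b3e5,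
  nat_lit 0x1d00501543d11f,
  nat_lit 0xcd002015495455,
  nat_lit 0xd313e0010134e10ce,
  nat_lit 0x20a208008003adaad8,
  nat_lit 0x15713e0050141590cc,
  nat_lit 0xa0d8ae002008a0fa00,
  nat_lit 0x64153600400b645612,
  nat_lit 0x3b11800201022d02a,
  nat_lit 0x43f12000301044103c,
  nat_lit 0xb712000201023102a,
  nat_lit 0x4e62630070145302a4,
  nat_lit 0x36b62a00700a76d2f1,
  nat_lit 0x11e41700100b42c228,
  nat_lit 0x1852bd2c00050042c92c6,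
  nat_lit 0x310a60320090160b5050,
  nat_lit 0x91d76c90800901692190a,
  nat_lit 0x24f23705a00500425102a,
  nat_lit 0x1614db4da0020044f94de,
  nat_lit 0x43115044007004431220,
  nat_lit 0x1d1170a500501622f01e,
  nat_lit 0x11a41e001010423119,
  nat_lit 0xaa42204000801121d06e,
  nat_lit 0x72a73073200500473a362,
  nat_lit 0x51c256052004004548546,
  nat_lit 0xad7ac3ac1003004adbab1,
  nat_lit 0x3bf7381f80090113c18e4,
  nat_lit 0xb141a0b200901112b12a,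
  nat_lit 0x1a15423060090111a319a,
  nat_lit 0x6675400f600901166b19e,
  nat_lit 0x1e11ad2be03e0010177f96b0,
  nat_lit 0xa706c03f005011427123,
  nat_lit 0x51306f2380460010175154de,
  nat_lit 0x2f951e49e2650040122fb0d6,
  nat_lit 0xb711e41601c00401223302a,
  nat_lit 0xb0f9d43a4877004012b119f0,
  nat_lit 0xb900501544721e,
  nat_lit 0x43700500d43912e,
  nat_lit 0xb400601512f01e,
  nat_lit 0x2100500d0c3230,
  nat_lit 0x9f100400db13b11,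
  nat_lit 0xa51922002006a533ec,
  nat_lit 0x64700200d649569,
  nat_lit 0xf500200d63b2b1,
  nat_lit 0x19b00500d6392b1,
  nat_lit 0x30500200d6372ad,
  nat_lit 0x30300500d6332ad,
  nat_lit 0x510b600200647f034,
  nat_lit 0x1430b600300647d028,
  nat_lit 0x2100500d13f0b5,
  nat_lit 0x25312e0020064710c6,
  nat_lit 0x27230002006469034,
  nat_lit 0xc546b00400346f252,
  nat_lit 0xe715a0010035a916c,
  nat_lit 0xe31870040032d32ca,
  nat_lit 0xb741b00200e1310b8,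
  nat_lit 0x7b16460050137b3744,
  nat_lit 0x5074f30080055094fa,
  nat_lit 0x7100501546322d,
  nat_lit 0x7850050157871a3,
  nat_lit 0x6f00501545912b,
  nat_lit 0x1dd0020157891a3,
  nat_lit 0x4500201545b12b,
  nat_lit 0x5b94e200800b5bb170,
  nat_lit 0xe915a00400a5ad0da,
  nat_lit 0x5b00201547b441,
  nat_lit 0x7300201546522d,
  nat_lit 0xa33002015a353c1,
  nat_lit 0x5174920010135190d4,
  nat_lit 0x3bf73a00100a8eb8de,
  nat_lit 0x485232002008489254,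
  nat_lit 0x2572320060084810c6,
  nat_lit 0x7d366c0020107d7108,
  nat_lit 0x3771a40030107df1dc,
  nat_lit 0x9ff89500200aa013b3,
  nat_lit 0xb405900801445e046,
  nat_lit 0x1d92fc00200a75f64f,
  nat_lit 0x7592fc00700a75b63f,
  nat_lit 0x1a560f00200a741189,
  nat_lit 0x25723400700a483461,
  nat_lit 0x5b43c05c0090160c90c8,
  nat_lit 0x7312e074009016077076,
  nat_lit 0xb921e0aa00501623501e,
  nat_lit 0x6f12912c004016243070,
  nat_lit 0x24042a4280040161360ba,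
  nat_lit 0x2104f0b600401124d022,
  nat_lit 0x44d22911900501144f23b,
  nat_lit 0x14324042c43d0010174a3028,
  nat_lit 0x5301530730c6002017172158,
  nat_lit 0x5d0712514d600101752750b,
  nat_lit 0x76e2ef163174003012770648,
  nat_lit 0xe70020012dd172,
  nat_lit 0x3700501508124e,
  nat_lit 0x23300200d445132,
  nat_lit 0x7900500d4bb244,
  nat_lit 0xc400600d24b022,
  nat_lit 0x1610ca0020064f54e8,
  nat_lit 0x4c70780030064c907c,
  nat_lit 0xcf00200d4c3077,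
  nat_lit 0x15d00500d4ed0c9,
  nat_lit 0x4700500d4bf077,
  nat_lit 0x1530780020064cd05e,
  nat_lit 0x15f00200d4f10c9,
  nat_lit 0x4b1136002006269144,
  nat_lit 0x4af136003006267052,
  nat_lit 0x7d00500d4fb47f,
  nat_lit 0x2b00200d48f235,
  nat_lit 0x2100500d48d235,
  nat_lit 0x7d00500d27f469,
  nat_lit 0x485132002006487258,
  nat_lit 0xfd2d40080146bb694,
  nat_lit 0x1574700050134df072,
  nat_lit 0xfb2d40050136b732a,
  nat_lit 0xd3002015287481,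
  nat_lit 0x10d0020153c97df,
  nat_lit 0x1055aa00100b6ed61e,
  nat_lit 0x10f0050159417d7,
  nat_lit 0x3c776f00401491b7b6,
  nat_lit 0xf517100100a63d0ec,
  nat_lit 0x19b17100500b3070ea,
  nat_lit 0x54851a0080035b45b2,
  nat_lit 0x4924e0020100d1024,
  nat_lit 0x3312f006008467034,
  nat_lit 0x2712f00200848b028,
  nat_lit 0xc40c100800b4c60d0,
  nat_lit 0x25343900200a47313b,
  nat_lit 0x4ec4a30070145442a6,
  nat_lit 0x516509008014529527,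
  nat_lit 0x46413b0080144ba14e,
  nat_lit 0x28d4720d400901615b28a,
  nat_lit 0x16347d1460050114fd07e,
  nat_lit 0x24645a12a008016247046,
  nat_lit 0x49645445000401649a498,
  nat_lit 0x3614005000801114102c,
  nat_lit 0x15d0c70ca0040114ef15e,
  nat_lit 0x470750780040114c1048,
  nat_lit 0x2b13002c009011149036,
  nat_lit 0x4a51351390050114a7265,
  nat_lit 0x3a70995ae0f40010173a9368,
  nat_lit 0x36f63c5706330010123711dc,
  nat_lit 0x63a2af53118c00201236575b,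
  nat_lit 0x10700100c79b366,
  nat_lit 0x2e10050155d74f0,
  nat_lit 0x6100501517f4c2,
  nat_lit 0x503005015167142,
  nat_lit 0x14f00500d151248,
  nat_lit 0x82006015283038,
  nat_lit 0x4bc00600d26f07a,
  nat_lit 0x8b00500d5794cd,
  nat_lit 0x5c900500d5cb4f5,
  nat_lit 0x5c315c0030065c50e8,
  nat_lit 0xeb00200d5af15b,
  nat_lit 0xe900500d5ab15b,
  nat_lit 0x3f191c008003a4f956]
def pL_4_p3 : List ℕ := [nat_lit 0x2a726a00200e2a92a6,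
  nat_lit 0x56126a00600e56353e,
  nat_lit 0x55d26800600e55f546,
  nat_lit 0x7a963e0080147ab1c2,
  nat_lit 0x10930800401379f09a,
  nat_lit 0x10730800500579d6f0,
  nat_lit 0x2324b00600e281024,
  nat_lit 0x4924b00200e4d304a,
  nat_lit 0x3900201518f0d1,
  nat_lit 0x6f55b400400a6f7672,
  nat_lit 0x3d0020155dd4fd,
  nat_lit 0x2d70050152d90d1,
  nat_lit 0x3700501550f149,
  nat_lit 0x87002015511149,
  nat_lit 0x1052de00100a6e90f6,
  nat_lit 0x3492de00500b6e119c,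
  nat_lit 0x3c33650040148ff10a,
  nat_lit 0x59f0d20020085a32d6,
  nat_lit 0x59b0d20060081910e4,
  nat_lit 0x851420020102990d6,
  nat_lit 0x5534a8003010555086,
  nat_lit 0x52a27400400552e2a2,
  nat_lit 0x8202400801359a03a,
  nat_lit 0x8207f0080142d203e,
  nat_lit 0x8fe3a90070149dc3de,
  nat_lit 0x28027700800b58417e,
  nat_lit 0x28024a00100a4d2054,
  nat_lit 0x7b4df15a00200452b16c,
  nat_lit 0x503142036005016505038,
  nat_lit 0x3703514a004016285038,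
  nat_lit 0x1794c94cc00501117b08c,
  nat_lit 0x14f24824600501127107a,
  nat_lit 0x27c4c007600801127d0d0,
  nat_lit 0x2924ee0c8008011293160,
  nat_lit 0x28848748a00401628c4e4,
  nat_lit 0xb8db8561f0020043696ed,
  nat_lit 0x53468054009011155060,
  nat_lit 0x4b48c04c00901150d084,
  nat_lit 0x5506127a08100101732d064,
  nat_lit 0x52149949b00501129f51f,
  nat_lit 0x4b1474fb00901129705f,
  nat_lit 0x54926726d00501154b537,
  nat_lit 0x2e30050155db294,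
  nat_lit 0x1810050150dd27e,
  nat_lit 0x5d80060155d92e2,
  nat_lit 0x6500500d2f3286,
  nat_lit 0x1800060152c7062,
  nat_lit 0x15200600d4bd150,
  nat_lit 0x66300500d665563,
  nat_lit 0x5bf28c0030065c15b2,
  nat_lit 0x6500500d5e5505,
  nat_lit 0x632860020062db04e,
  nat_lit 0x59f4d40020065a159c,
  nat_lit 0x2d52820020065930e4,
  nat_lit 0x1a100200d66f2a9,
  nat_lit 0x10500200d6e55c5,
  nat_lit 0x1bb59a0080036d3064,
  nat_lit 0x10f79e004013943872,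
  nat_lit 0xdb26f00600e5710dc,
  nat_lit 0x3a16e200401386910a,
  nat_lit 0x17327700800553352c,
  nat_lit 0x2e70050155df297,
  nat_lit 0x30352e00500a63560a,
  nat_lit 0x1ad00501531f17b,
  nat_lit 0x5f10050155f350d,
  nat_lit 0x2ed0020155eb299,
  nat_lit 0x9300201532117b,
  nat_lit 0xfb0050156b5191,
  nat_lit 0xfd002015337191,
  nat_lit 0x2b30050152b5271,
  nat_lit 0xdf0050152cb155,
  nat_lit 0x3d00201558b155,
  nat_lit 0x10f79c0040149453c4,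
  nat_lit 0x91536a0010139171ec,
  nat_lit 0x36a6ea0040057a6370,
  nat_lit 0x4d2830060085a504e,
  nat_lit 0x1752720020102bb0dc,
  nat_lit 0xb872a00030103012fe,
  nat_lit 0x2da1890080146aa1b6,
  nat_lit 0x1802bf008014682094,
  nat_lit 0x34032d00201482010c,
  nat_lit 0x1802c6008013696694,
  nat_lit 0x2da5000010135e403a,
  nat_lit 0x1682950010141940ee,
  nat_lit 0x3928203a0090160e508e,
  nat_lit 0x2b72702b80090165732ba,
  nat_lit 0x2e32942920050162e52e2,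
  nat_lit 0x18127e27c005016183062,
  nat_lit 0xdf05f1560040162cf0e0,
  nat_lit 0x19218e00101059e17c,
  nat_lit 0xd8510036008016169088,
  nat_lit 0x65c55a55600401630e30c,
  nat_lit 0x64c55054c004016654652,
  nat_lit 0x6245242a000401662e62c,
  nat_lit 0x19016529a0040165ea5e8,
  nat_lit 0x5de0832980040162ea2e8,
  nat_lit 0x2d502307f002004595583,
  nat_lit 0x6a42d20640010046e01be,
  nat_lit 0x8f2840900090110ef196,
  nat_lit 0x67155f56b005011673649,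
  nat_lit 0x66d2a956d00501130f637,
  nat_lit 0x5d34f75cb0090115d55cf,
  nat_lit 0x5b528b28f0050115b75af,
  nat_lit 0x17d4cf579009011585177,
  nat_lit 0x8ab70b2d20660040128af1d0,
  nat_lit 0x17515245e022004012577024,
  nat_lit 0x9dc8fb755b8c0020179deb9c,
  nat_lit 0xa7794b7a01f0001012a799f4,
  nat_lit 0xa7d9507ac3ad001012a7f3e4,
  nat_lit 0x1ab00100c31d59e,
  nat_lit 0xde006015587182,
  nat_lit 0x2f700500d0f116a,
  nat_lit 0x9700500d6ab2d0,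
  nat_lit 0x2f400600d5fb066,
  nat_lit 0x1af00500d32f183,
  nat_lit 0x9f500300da7ba79,
  nat_lit 0x9500200d69b183,
  nat_lit 0x1b11840020060f7056,
  nat_lit 0x10100200d6cb0e5,
  nat_lit 0x1bb0e60020066d56c6,
  nat_lit 0x10300500d6d92db,
  nat_lit 0x70100500d7032e5,
  nat_lit 0x1c500200d7052e5,
  nat_lit 0xf900500d7072e9,
  nat_lit 0x77162e002006773768,
  nat_lit 0x7bf00200d7c1653,
  nat_lit 0x7cb00200d7cd30d,
  nat_lit 0x5ff16a0020066012f6,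
  nat_lit 0x1a5572002006677676,
  nat_lit 0x81969600500381b056,
  nat_lit 0x1bd2dc00200e735360,
  nat_lit 0x1754bd00200e575176,
  nat_lit 0x1fb7a6001014951916,
  nat_lit 0x1d30050153570ef,
  nat_lit 0x7b50050157b7673,
  nat_lit 0x1c95e400400a70f100,
  nat_lit 0x64153400500a64361a,
  nat_lit 0x6fb0050156fd5d5,
  nat_lit 0x1c10020156f35b7,
  nat_lit 0x77930200600877b36c,
  nat_lit 0x6792bc00600867b676,
  nat_lit 0x77d302002008781b90,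
  nat_lit 0x3192bc0020081a91a6,
  nat_lit 0x71d0f000301071f1d2,
  nat_lit 0x1d50f00020107231d0,
  nat_lit 0x7d93100030107db78e,
  nat_lit 0x596582004005688686,
  nat_lit 0x552c7006008697056,
  nat_lit 0x32018d0080136ba0fe,
  nat_lit 0x32218d0040141ba0fc,
  nat_lit 0x6d432d007014824388,
  nat_lit 0x3d4d100801458d2cb,
  nat_lit 0x9357b00801468331f,
  nat_lit 0xa0d8b000200aa113b1,
  nat_lit 0x31957800200a31b187,
  nat_lit 0x2f404e00800a734068,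
  nat_lit 0xde2c3001014690328,
  nat_lit 0x3e9900869003004a43202,
  nat_lit 0x33d6a96a80020046c76b0,
  nat_lit 0x33b5940fe0090166c333a,
  nat_lit 0x1d31950f00040167191d4,
  nat_lit 0x1985f40840080165f7092,
  nat_lit 0x2f716a0d8005011607066,
  nat_lit 0xe22cc06000801658f03e,
  nat_lit 0x32257f586004016326324,
  nat_lit 0xff08d0e60040116c9100,
  nat_lit 0x1a72b95740040113131a8,
  nat_lit 0x3385a15a40040166c06be,
  nat_lit 0x78a312310004016794792,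
  nat_lit 0x1a50db60b002004363635,
  nat_lit 0x9183a48800010049fe9fc,
  nat_lit 0x9448741ee0040049e49e2,
  nat_lit 0x7f868269a00100438c832,
  nat_lit 0x952c809600901169f69e,
  nat_lit 0x675a6068009011347346,
  nat_lit 0x1c55da1c600901134f34e,
  nat_lit 0x6f55c15c70050116f96e5,
  nat_lit 0xf92e95e10050117091c7,
  nat_lit 0x1c95e95ed0050111cb355,
  nat_lit 0x7c730d65f0050117c97c5,
  nat_lit 0x1b10de4c60380040176a104e,
  nat_lit 0x80b3292c91b400101780f6df,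
  nat_lit 0x1f51c81945e500101289d1d2,
  nat_lit 0x3776705666650010127e17d2,
  nat_lit 0x72b00500d72d5f8,
  nat_lit 0x8d700500d8d971a,
  nat_lit 0xf200600d6052f8,
  nat_lit 0x31957600200667d67a,
  nat_lit 0x85100500d8536d5,
  nat_lit 0x1e900200d3996c3,
  nat_lit 0x82b00200d82d0f7,
  nat_lit 0x82700500d8290f7,
  nat_lit 0x1d800300d89f89d,
  nat_lit 0x1e300500d801325,
  nat_lit 0x1f700200d8e1735,
  nat_lit 0x7d600300d7e37e1,
  nat_lit 0x73b60200600e73d362,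
  nat_lit 0x1e71ba001003843800,
  nat_lit 0x3910f800200e393388,
  nat_lit 0x38d0f800600e38f10c]
def pL_4_p4 : List ℕ := [nat_lit 0x1bd33f0080056dd6c8,
  nat_lit 0x80568800101480733c,
  nat_lit 0x1db00200c783363,
  nat_lit 0x1f300201588734f,
  nat_lit 0x1eb00201586f6f9,
  nat_lit 0xb9500501539f347,
  nat_lit 0x39d6ba00800b84d09e,
  nat_lit 0x3971ba00400a8471e4,
  nat_lit 0x88300501588534f,
  nat_lit 0x9630020159657c9,
  nat_lit 0xb9d002015923781,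
  nat_lit 0x3c700501591977b,
  nat_lit 0x8b50050158b71cb,
  nat_lit 0x8c10020158c31cb,
  nat_lit 0x3b70050158cb723,
  nat_lit 0x3bb0020158d371f,
  nat_lit 0x9b0020157eb1a9,
  nat_lit 0x37b0050157e91a9,
  nat_lit 0x3790020157e567b,
  nat_lit 0x9b3640010138ed1de,
  nat_lit 0x3d938c00800a9b3980,
  nat_lit 0x9e4946008003a423ea,
  nat_lit 0x1b15870020083311b2,
  nat_lit 0x38769800201082110c,
  nat_lit 0x8a770a0020108a91f6,
  nat_lit 0x6da5a800100a6dc068,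
  nat_lit 0x33831d0050147f4380,
  nat_lit 0x6b631d0010133841e0,
  nat_lit 0x9b67837a0090167ef7e8,
  nat_lit 0x8136b71ba002004817800,
  nat_lit 0xf95900e2005011335098,
  nat_lit 0x8b47141cc0040168ba8b6,
  nat_lit 0x3ca7de7dc00401693a938,
  nat_lit 0x1d9753751003004761643,
  nat_lit 0x6bc81a81c0050041e610c,
  nat_lit 0x1e332568d005011803385,
  nat_lit 0x9117737770050119133c5,
  nat_lit 0x92f79379700501193192d,
  nat_lit 0x83f0f958e6ab00101284183c,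
  nat_lit 0x3cf38669032f0010123d1836,
  nat_lit 0x9951e368409e0010129971fe,
  nat_lit 0x8241bb0390e40020178260fc,
  nat_lit 0x1e7002001395826,
  nat_lit 0x6a1002015333332,
  nat_lit 0x9f00200d9a338f,
  nat_lit 0x3d500500d9a7393,
  nat_lit 0xb9f00200d3cd7ef,
  nat_lit 0x831815008005833818,
  nat_lit 0x3e78ee00800ba3b934,
  nat_lit 0x97f38400100b9811ea,
  nat_lit 0x3db84400100b9bf994,
  nat_lit 0xa07002015a098a9,
  nat_lit 0x3ef002015a4b913,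
  nat_lit 0x10d78400101392909c,
  nat_lit 0x9f1e600100a3d339e,
  nat_lit 0x1ff1e600500b9a184a,
  nat_lit 0x1e67f3004003972970,
  nat_lit 0x1f97620040149057b2,
  nat_lit 0x38c3840010038461e8,
  nat_lit 0x39133200201083938e,
  nat_lit 0xa67932003010a69a66,
  nat_lit 0x99980400201099b3d0,
  nat_lit 0x72e72700100b8e08de,
  nat_lit 0x7fa6dd00801481180f,
  nat_lit 0x3ff3d200300bacf3d7,
  nat_lit 0xadd99800300badf207,
  nat_lit 0x8636db00801486539f,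
  nat_lit 0x88a88634e00801688b1f4,
  nat_lit 0x3ba8cc1d80080163be3bc,
  nat_lit 0x7e667d1aa00401637e37c,
  nat_lit 0xadd995847007004ae19bb,
  nat_lit 0x9ab8220a00090119ad9a6,
  nat_lit 0x8e573d7400050118e78e1,
  nat_lit 0x9d58706f87b70010179d9956,
  nat_lit 0xa178c47108b2001017a1ba14,
  nat_lit 0x85d6d785300901185f857,
  nat_lit 0xba59247809190010173f33f2,
  nat_lit 0xa5d93993d005011a5fa5b,
  nat_lit 0x8496bf6c100501184b399,
  nat_lit 0x99980268c69b00401299d838,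
  nat_lit 0xab5978808399004012ab79ca,
  nat_lit 0x9cb00400dab9ab7,
  nat_lit 0x96900500d96b37d,
  nat_lit 0xa2b00200da2d3bd,
  nat_lit 0x20b005015aef9ad,
  nat_lit 0xad3002015ad599b,
  nat_lit 0xaaf97200800bab30a0,
  nat_lit 0x3f592a00800ba633e8,
  nat_lit 0x3d983400800b9b5994,
  nat_lit 0x3db84600800b9c13da,
  nat_lit 0x9cd0020159cf84b,
  nat_lit 0x9b739600500b9b93d6,
  nat_lit 0x3db39600100a9bd9ac,
  nat_lit 0x81280e00400581e10c,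
  nat_lit 0x9c83d3001014afc20e,
  nat_lit 0xae399e00700aae59b1,
  nat_lit 0x9daa4f008014a573f3,
  nat_lit 0xa368ea8e8004016a3aa38,
  nat_lit 0x9067b48f0001004a40a3e,
  nat_lit 0x3ff3cf84d007004ad13d3,
  nat_lit 0x3d539383a0050119a99a3,
  nat_lit 0x96937d7ed00501196d3cd,
  nat_lit 0x1ff81e00500a99f984,
  nat_lit 0xaab005015aad96d,
  nat_lit 0x20d0020154019a9,
  nat_lit 0x9d09a1005013af220c,
  nat_lit 0xaf09bd001014b06b04,
  nat_lit 0xaf5ab3adb00a004af7ada,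
  nat_lit 0x9a839182d9b0002012ae7ae5,
  nat_lit 0x209001001af9af7,
  nat_lit 0x4029b9005013b02b00,
  nat_lit 0xac8abf99f001004aecaea,
  nat_lit 0xacd001001aedaeb,
  nat_lit 0x8c13565ec08503614003104202e00b00d00400c01a01c01e02c1671931c70220188c58a2,
  nat_lit 0x8970972eb19416802b01d01b01900b00300e00c02d04103213f04a18f1ca0070188bb8b7,
  nat_lit 0x8b900300d8bd8bb,
  nat_lit 0xa178c600700aa19a05,
  nat_lit 0x8a600300d8bf8bd,
  nat_lit 0xa138bf00200aa15a0b,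
  nat_lit 0xa2e8d47218a0a04a19a1ca16a0a8a77085e004b4a00540ee65765a7ba958008018a86a84,
  nat_lit 0x3300de4c446603b04202e00c00e00b00d00400c01a01c01e0c30812cd2d00040181b8098,
  nat_lit 0x6cc1900490c40b404202e00b00d00400c00e00c01a0410b324124407a2b40080183441a8,
  nat_lit 0x3430050156cd314,
  nat_lit 0x6a00030156ad1b7,
  nat_lit 0x1b70050156b1335,
  nat_lit 0x38a1b700701483e83c,
  nat_lit 0x3413433140070166cf317,
  nat_lit 0x6cf0020156d16ca,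
  nat_lit 0x6ae0020156b3335,
  nat_lit 0x7f16cd00201385b859,
  nat_lit 0x85c00501586185f,
  nat_lit 0x1f37045dc4f247c4431314450720480620966b484084283e82a33306839f01e01888d865,
  nat_lit 0x20d09f82085e8617f13173152b61520450af0a42210bc0cc0da62276691001e018afda4d,
  nat_lit 0xaae96c7ea31c1b46a60e61006d13152b614f45c4604832875b66f33ad9ee01e018b1fb1d,
  nat_lit 0x6060f208748e4481240a200400c00e00c00e00b02d06901c01e02203809002a018359357,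
  nat_lit 0x88d00200d88f88c,
  nat_lit 0x35a35800301435b717,
  nat_lit 0x8da3590f25f50020128dc72c,
  nat_lit 0x35c00201571c348,
  nat_lit 0x34535b60800701635d5fc,
  nat_lit 0x8ec8e08dc006004a21a1f,
  nat_lit 0x3af35e0070138c71cd,
  nat_lit 0x73435d0030133b68ca,
  nat_lit 0xa30a21001010a323c2,
  nat_lit 0x8cf3b10080148d18c8,
  nat_lit 0x3bb3b30080148d53b6,
  nat_lit 0xa86a31008013a88a34,
  nat_lit 0xa81a8400300ba89a87,
  nat_lit 0xa278d2103360003012a291f8,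
  nat_lit 0xa3a00300da8ba89,
  nat_lit 0xa8ca8100100aa90a8e,
  nat_lit 0xa2aa38006014a91a8f,
  nat_lit 0xa123af71c0f25124900b912411502500c02d06e1384a103508630c7cd95d021018a98a94,
  nat_lit 0xb1bb1faab3ce7ec31c59118b58b0fa6b11af0610474b914d47328e5ab34c87c00d018b229f8,
  nat_lit 0x3e5b210010192109fa,
  nat_lit 0xa98005015a9aa10,
  nat_lit 0x9ec210001019b24b16,
  nat_lit 0x20420f001019b26b14,
  nat_lit 0xb23b182100010194039e6,
  nat_lit 0xb10b26001019b2c9e2,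
  nat_lit 0x9df403001019b28a7c,
  nat_lit 0xb0eb2b001019b2fa41,
  nat_lit 0xa80404001019b293df,
  nat_lit 0xb2f001019b35b0b,
  nat_lit 0xa78b28001019b2e9fc,
  nat_lit 0xa7eb2a0010194063de,
  nat_lit 0x405001019b333dd,
  nat_lit 0xa74b2d001019b319fe,
  nat_lit 0x3f84050010194079dd,
  nat_lit 0xb31001019b37a72,
  nat_lit 0x407001019b393f8,
  nat_lit 0x407001019b3ba75,
  nat_lit 0x1f976064d6527c1959a8ea91a273bd8d63b5a01a9aa969667c77af1b574109c0130183fa3e8,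
  nat_lit 0xa643fa0010193fb3ec,
  nat_lit 0xa403f9001019a9ba3c,
  nat_lit 0xa543fb001019a9ea62,
  nat_lit 0x3fb0010193fd3f5,
  nat_lit 0xa3ea9c001019aa0a6c,
  nat_lit 0x8f8a9f001019aa4a6e,
  nat_lit 0xa55a9d001019aa2a60,
  nat_lit 0xaa1001019aa5a59,
  nat_lit 0x8f9aa3001019aa8a6a,
  nat_lit 0xaa7001019aa9a65,
  nat_lit 0x20b1ff38f38d3331048648908887066ff6fe5d35431a278792caa98f43c5007018af33f0,
  nat_lit 0xb3c9427e43c93fd3eda44b353ee3fe10d3711fc952b381fb372926aa53f3a57002018b3e9d8,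
  nat_lit 0x202b3e001019b40b3a,
  nat_lit 0x867b3f001019b42b34,
  nat_lit 0x6f1b41001019b443aa,
  nat_lit 0x5bbb43001019b4676a,
  nat_lit 0x170b45001019b48912,
  nat_lit 0xa4cb480010194090cd,
  nat_lit 0xafe40a00101911144a,
  nat_lit 0xaf440a0010192110bb,
  nat_lit 0x431111001019b4cafc,
  nat_lit 0x127111001019b4e402,
  nat_lit 0x221211001019b52af2,
  nat_lit 0x20c212001019b530ac,
  nat_lit 0xb02112001019b49433,
  nat_lit 0x20e11200101940b0ab,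
  nat_lit 0xb06212001019b4f0ad]
def pL_4_p5 : List ℕ := [nat_lit 0xb00b4a001019b550a4,
  nat_lit 0x41f40b001019b5aaf6,
  nat_lit 0xadb4d001019b5cae8,
  nat_lit 0x424b53001019b60aea,
  nat_lit 0xb0ab4c001019b57121,
  nat_lit 0xad240c00101940d0ad,
  nat_lit 0xb04b5000101940f127,
  nat_lit 0x9ceb52001019b5d0a3,
  nat_lit 0x40040e00101941111c,
  nat_lit 0xafab5a001019b6711c,
  nat_lit 0xae4b5c001019b69430,
  nat_lit 0x11c40f001019b6c9c0,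
  nat_lit 0x4440f0010194149c2,
  nat_lit 0xb08b58001019b630a4,
  nat_lit 0x23a40d001019b66ad0,
  nat_lit 0x982b5e001019b6d01f,
  nat_lit 0xaeeb60001019b6f043,
  nat_lit 0xae2b56001019b610ad,
  nat_lit 0x127411001019b78ad4,
  nat_lit 0xb6fab9b64001019b740be,
  nat_lit 0xb67adfb62001019b72239,
  nat_lit 0xb7323c411001019b763d2,
  nat_lit 0xb753d7b66b72001019b7a220,
  nat_lit 0xb77ad6b6ab7a001019b7b025,
  nat_lit 0x4139b6b6cb7c001019b7d002,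
  nat_lit 0xb6d9b3414b7e001019b7f006,
  nat_lit 0x1a00101900db80,
  nat_lit 0x600e00601300d004,
  nat_lit 0x300e00301400d006,
  nat_lit 0x500e00301300d003,
  nat_lit 0x400e00601400d005]
noncomputable def pL_4 : CE where
  p0 := 0
  F := (Nat.sub (Nat.shiftLeft 1 13) 1)
  masks := [pL_4_m0, pL_4_m1, pL_4_m2, pL_4_m3, pL_4_m4, pL_4_m5, pL_4_m6, pL_4_m7, pL_4_m8, pL_4_m9, pL_4_m10, pL_4_m11]
  gprog := [11, 0, 7, 10, 1, 5, 8, 1]
  cprog := (digs 24 400 (nat_lit 0x4e0001be0001bd0005ca0001bc0003ed0003ea0003e90003e60003e40001ba0005c90003e00003de0003dd0003db0003d90003d50001b80003d10000850000840003cb0003c90003c70000ef0003c30000ee0003bf0003bd0001b70003b90005c80001b60005c70001b40003b40003b30003b20000ed0003ad0003ab0005c60003a90003a60003a50003a30003a200039e0001b10001b00003980003960003930000eb00038f0000ea0000e90000e80003890000e50003860001a90000e300038100037e0003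7b0000e10001a600004d0003780000830001a50000df0000340000820000de00008100008000019f00036300019e00035f00007f00007e00007d00035800004c0000db0000da0000d900004b0000d800034d00002b00034a00019500019400019200034300004a0000d70000d600018d00033d00018b0000d40000d300033b0003390000d100033700033400033200032f0001860000d00005c500032b00032900032700032400032100007b0000ce0001830001820005c400018000031600017f0005c300007a00031100017d0005c200030f00030d00030a00030900030500017c00030000017b0000490002f90001780001770002f40000480000330000770001740001720001710002ea0002e70002e50002e20002e00002dd0002db0002d90000760000750000740000320000270002d00002ce00001d00016c00016b0000720000c600001f0000700002c50000c30000c10000310001630000bf0000bd0001610000460000bb00015c00015a00006e0001580001560002b40001540002b10002af0002ac0002aa0002a70002a50002a300015300029f0000ba0001520001510000b800029100004500006d00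00b600028c0005c100028a00004400028400028200004300006b0000260000b20000b10000b00000af00027500027400014700027200006a0000ac00026f00026b00001c00002500001200002a00003f0000aa00026400006800002400003e00002f0000a800003d0000a700025b00025a00025900025800025500025300013000024c00006700006600012d00024300012c0000290000a200001600002e00023c00012a00006300012800001100001400001a00003a00003900023000002300003800022c00022900022700009c00005f00005e00005d00005c00022000001900000f00001e00001500005900005800011400003700005400002c00002200000e00001800001000001300000d) ++ digs 24 400 (nat_lit 0x58d00058b00058800058600058400058200058000010700057b00010600057500057200056f00056c00056a00020000056500056300056100056000055e00055b00055800055600054a00054700054200054100053f00053c00053b0005380005360005340005330001fb00052f00052d0005d30005290001f90001f80001f60005230001f500051f0001f400051c00051a00051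600051400051200050f00050c00050a0005070005040005020005000004fe0004fc0005d20004fa0004f80004f70001f20001030004f40001020004f10001f00001ef0004eb0004e90001010004e70004e50004e30004e20001ee0004dc0001ed0004d80005d10004d60001eb0000500001000004cd0004cb0004ca0000ff0001e80004c70004c50004c30004c20004c00004bd0004bb0004b80004b50005d00004b20004b00004ae0004ac0004ab0000fe0004a70004a60004a400008800049e00049c00049a0004980004960000870004930005cf00048f0001e400048b0004890004880004860004840000fd0004810001e200047e0005ce00047b0004790004780001e00004730000fc0005cd00046f00046c0001de0004680001dc0004650001d800046100045b0004590004560004540004520004510000fb00044d00044c0004490000fa00044200044000043e0005cc0000f80001d60000f70001d40004390000f60004360001d10004320005cb00042f00042b0004290001cf0004250000f50001cc0000f400042000041e0001c90001c700041c00041b0004190004160004140001c400008600040d00040a0004060004030000f200040000004f0003fe0000f10000f00001c00003f9))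
  sids := [0, 1, 2, 3, 4, 5]
  t0 := pL_4_t
  s := 12
  progs := [pL_4_p0, pL_4_p1, pL_4_p2, pL_4_p3, pL_4_p4, pL_4_p5]
  O := (Nat.sub (Nat.shiftLeft 1 13) 1)
  yids := [0, 1, 2, 3, 4, 5, 6]
theorem pL_4_chk : ∃ progs, CE.check { pL_4 with progs := progs } pL_4_nets (imOf [3, 4]) pL_4_rels [[0], [2], [4], [6], [8], [10]] [[0], [2], [4], [6], [8], [10], [12]] = true :=
  ⟨pL_4.progs, by decide +kernel⟩
theorem pL_4_idx {Γ : Type*} [Group Γ] {g : ℕ → Γ} (hi : InvOk g (imOf [3, 4])) (hr : ∀ r ∈ pL_4_rels, ev g r = 1)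
    {H : Subgroup Γ} (hs : ∀ u ∈ ([[0], [2], [4], [6], [8], [10]] : List (List ℕ)), ev g u ∈ H) :
    H.relIndex (gen g [[0], [2], [4], [6], [8], [10], [12]]) ≠ 0 ∧ H.relIndex (gen g [[0], [2], [4], [6], [8], [10], [12]]) ≤ 13 :=
  Reach.relIndex_le pL_4_model hi hr hs pL_4_chk (by decide +kernel)

theorem pL_pres : CfsgLib.W2.Pres [3, 4] pL_rels [[0], [2], [4], [6], [8], [10], [12]] 5616 := fun {_} _ {g} hi hr =>
  (Bound.of_idx (n := 13) (m := 432) (Bound.of_idx (n := 48) (m := 9) (Bound.of_idx (n := 3) (m := 3) (Bound.of_idx (n := 3) (m := 1) (bound_nil g)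
    (pL_1_idx hi (conseq_sound hi hr (hs := [1025]) (by decide +kernel))))
    (pL_2_idx hi (conseq_sound hi hr (hs := [1, 1025, 2049]) (by decide +kernel))))
    (pL_3_idx hi (conseq_sound hi hr (hs := [1, 1025, 2049, 3073, 4097, 5121, 6145, 7169, 8193, 9217, 10241, 11265, 12289, 13313, 14337, 15361, 16385, 17409]) (by decide +kernel))))
    (pL_4_idx hi (conseq_sound hi hr (hs := [1, 1025, 2049, 3073, 4097, 5121, 6145, 7169, 8193, 9217, 10241, 11265, 12289, 13313, 14337, 15361, 16385, 17409, 18433, 19457, 20481, 21505, 22529, 23553]) (by decide +kernel))))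


end CfsgLib.Rec3
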