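import Cfsg.Agent.Lib.W2.LocM12a
import Cfsg.Agent.Lib.Rec3.M12Enum
import Cfsg.Agent.Lib.Classical.SLCard

/-! The completions `M₁₂` and `L₃(3)` of the amalgam of two groups `AGL₂(3)`. -/

set_option autoImplicit false
set_option Elab.async false
set_option synthInstance.maxSize 100000

namespace CfsgLib.Rec3.P1

open Subgroup Cfsg CfsgLib.Tech CfsgLib.CosetEnum CfsgLib.W2 CfsgLib.Mathieu CfsgLib.Golay

/-- the generators as words -/
abbrev ys7 : List (List ℕ) := [[0], [2], [4], [6], [8], [10], [12]]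

theorem equiv_of_simple {G M : Type*} [Group G] [Group M] [IsSimpleGroup M] {g : ℕ → G} {f : ℕ → M}
    {ψ : M →* G} (h : ∀ y ∈ ys7, ψ (ev f y) = ev g y) (hr : ψ.range = gen g ys7) (h1 : g 3 ≠ 1)
    (ht : gen g ys7 = ⊤) : Nonempty (G ≃* M) := by
  refine ⟨(MulEquiv.ofBijective ψ ⟨(MonoidHom.ker_eq_bot_iff ψ).1 ((IsSimpleGroup.eq_bot_or_eq_top_of_normal _
    inferInstance).resolve_right fun e => h1 ?_), MonoidHom.range_eq_top.1 (hr.trans ht)⟩).symm⟩
  rw [← map_single h 3 (by decide)]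
  exact e.ge (mem_top _)

/-- Codes of `a, b, z, s, t, w, v`. -/
def cM : List ℕ := [590855334920155496144328385987217923, 973987539224046515479247862101023008,
  226178906369730232872052899979577856, 844548970755393700151211913642084780,
  849822317934813648356251079506233472, 799276046451229686707574842512706825,
  636849487031299735732264228450568608]

theorem has_cM (j : ℕ) : Has Spor.M12 (Mathieu.nth cM j) := has_nth (fun a ha =>
  has_M12 ((Golay.allL_iff _ _).1 (by decide +kernel : Golay.allL cM (inStab [dod0] []) = true) a ha)) j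

/-- The generators. -/
noncomputable def gM (j : ℕ) : Spor.M12 := ⟨(has_cM j).choose, (has_cM j).choose_spec.1⟩

theorem code_gM (j : ℕ) : code (gM j) = Mathieu.nth cM j := (has_cM j).choose_spec.2

/-- The generators as codes. -/
noncomputable def fM (j : ℕ) : CG ok24 := ⟨Mathieu.nth cM j, _, code_gM j⟩

theorem code_ev (w : List ℕ) : code (ev gM w : Spor.M12) = (ev fM w).1 := by
  have := map_ev ((CG.eqv ok24).toMonoidHom.comp Spor.M12.subtype) gM w
  rw [show (fun j => ((CG.eqv ok24).toMonoidHom.comp Spor.M12.subtype) (gM j)) = fM from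
    funext fun j => Subtype.ext (code_gM j)] at this
  exact congrArg Subtype.val this

theorem gM_rels : ∀ r ∈ sqW [3, 4] ++ pM_rels, ev gM r = 1 := fun r hr =>
  Subtype.ext (code_eq_idc.1 ((code_ev r).trans (congrArg Subtype.val
    ((by decide +kernel : ∀ r ∈ sqW [3, 4] ++ pM_rels, ev fM r = 1) r hr))))

theorem gM_gen : gen gM ys7 = ⊤ := by
  have h := M12_le (H := (gen gM ys7).map Spor.M12.subtype) fun a ha => by
    obtain ⟨w, hw, h1, rfl⟩ := (by decide +kernel : ∀ a ∈ gens12,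
      ∃ w ∈ [[0, 5, 10, 12, 0, 10, 2, 12, 11, 2], [0, 2, 10, 3, 12, 10, 12, 11, 3, 1, 13]],
        (∀ x ∈ w, [2 * (x / 2)] ∈ ys7) ∧ (ev fM w).1 = a) a ha
    exact ⟨_, ⟨_, ev_mem fun x hx => W2.ev_single gM _ ▸ ev_mem_gen gM (h1 x hx), rfl⟩, code_ev w⟩
  refine eq_top_iff.2 fun x _ => ?_
  obtain ⟨y, hy, e⟩ := h x.2
  rwa [← Subtype.ext e]

theorem iso_M12 {G : Type*} [Group G] {g : ℕ → G} (hr : ∀ r ∈ sqW [3, 4] ++ pM_rels, ev g r = 1)
    (h1 : g 3 ≠ 1) (ht : gen g ys7 = ⊤) : Nonempty (G ≃* Spor.M12) := by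
  obtain ⟨ψ, h, h2⟩ := pM_pres.exists_hom hr gM_rels card_M12.ge gM_gen
  have := simple_M12
  exact equiv_of_simple h h2 h1 ht

open Matrix

/-- `SL₃(3)` -/
abbrev SL33 : Type := SpecialLinearGroup (Fin 3) (ZMod 3)

/-- the matrices of the letters -/
def mL (x : ℕ) : Matrix (Fin 3) (Fin 3) (ZMod 3) :=
  [!![1, 0, 0; 0, 1, 0; 1, 0, 1], !![1, 0, 0; 0, 1, 0; 2, 0, 1], !![1, 2, 0; 0, 1, 0; 0, 0, 1],
    !![1, 1, 0; 0, 1, 0; 0, 0, 1], !![1, 0, 0; 0, 1, 0; 0, 1, 1], !![1, 0, 0; 0, 1, 0; 0, 2, 1],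
    !![2, 0, 0; 0, 2, 0; 0, 0, 1], !![2, 0, 0; 0, 2, 0; 0, 0, 1], !![2, 0, 0; 0, 1, 0; 0, 0, 2],
    !![2, 0, 0; 0, 1, 0; 0, 0, 2], !![0, 2, 0; 1, 0, 0; 0, 0, 1], !![0, 1, 0; 2, 0, 0; 0, 0, 1],
    !![0, 0, 2; 0, 1, 0; 1, 0, 0], !![0, 0, 1; 0, 1, 0; 2, 0, 0]].getD x 1

theorem det_mL (i : ℕ) : (mL (2 * i)).det = 1 := by
  by_cases h : i < 7
  · rw [det_fin_three]; revert i; decide +kernel
  · rw [mL, List.getD_eq_default _ _ (by simp; omega), det_one]

/-- the generators -/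
def fL (i : ℕ) : SL33 := ⟨mL (2 * i), det_mL i⟩

theorem coe_evL {x : ℕ} (h : x < 14) : (evL fL x).1 = mL x := by
  obtain ⟨i, rfl | rfl⟩ := Nat.even_or_odd' x
  · rw [evL_two_mul]; rfl
  · have h1 : mL (2 * i) * mL (2 * i + 1) = 1 :=
      (by decide +kernel : ∀ i < 7, mL (2 * i) * mL (2 * i + 1) = 1) i (by omega)
    have h2 : ((fL i)⁻¹).1 * mL (2 * i) = 1 := congrArg Subtype.val (inv_mul_cancel (fL i))
    rw [evL_two_mul_add_one, ← mul_one ((fL i)⁻¹).1, ← h1, ← mul_assoc, h2, one_mul]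

theorem coe_ev : ∀ w : List ℕ, (∀ x ∈ w, x < 14) → (ev fL w).1 = (w.map mL).prod
  | [], _ => rfl
  | x :: w, h => by
    rw [ev_cons, List.map_cons, List.prod_cons, ← coe_ev w fun y hy => h y (List.mem_cons_of_mem _ hy),
      ← coe_evL (h x List.mem_cons_self)]
    rfl

theorem fL_rels : ∀ r ∈ sqW [3, 4] ++ pL_rels, ev fL r = 1 := fun r hr => by
  obtain ⟨h1, h2⟩ := (by decide +kernel : ∀ r ∈ sqW [3, 4] ++ pL_rels,
    (∀ x ∈ r, x < 14) ∧ (r.map mL).prod = 1) r hr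
  exact Subtype.ext ((coe_ev r h1).trans h2)

theorem fL_gen : gen fL ys7 = ⊤ := by
  refine Classical.sl_eq_top_of_transvection_mem _ fun i j hij c => ?_
  obtain ⟨w, -, h1, h2⟩ := (by decide +kernel : ∀ i j : Fin 3, i ≠ j → ∃ w ∈ [[3], [0, 13, 0],
    [3, 10, 3], [4, 10, 13, 0, 11], [0], [4]], (∀ x ∈ w, x < 14 ∧ [2 * (x / 2)] ∈ ys7) ∧
      (w.map mL).prod = 1 + single i j 1) i j hij
  have h3 : SpecialLinearGroup.transvection hij (1 : ZMod 3) ∈ gen fL ys7 := by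
    rw [show SpecialLinearGroup.transvection hij (1 : ZMod 3) = ev fL w from
      Subtype.ext ((coe_ev w fun x hx => (h1 x hx).1).trans h2).symm]
    exact ev_mem fun x hx => W2.ev_single fL _ ▸ ev_mem_gen fL (h1 x hx).2
  rcases (by decide : ∀ c : ZMod 3, c = 0 ∨ c = 1 ∨ c = 1 + 1) c with rfl | rfl | rfl
  · rw [SpecialLinearGroup.transvection_coeff_zero]; exact one_mem _
  · exact h3
  · rw [SpecialLinearGroup.transvection_add]; exact mul_mem h3 h3

theorem iso_L33 {G : Type*} [Group G] {g : ℕ → G} (hr : ∀ r ∈ sqW [3, 4] ++ pL_rels, ev g r = 1)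
    (h1 : g 3 ≠ 1) (ht : gen g ys7 = ⊤) :
    Nonempty (G ≃* ProjectiveSpecialLinearGroup (Fin 3) (ZMod 3)) := by
  let π : SL33 →* ProjectiveSpecialLinearGroup (Fin 3) (ZMod 3) := QuotientGroup.mk' _
  have hc := Classical.psl_card_mul (ι := Fin 3) (F := ZMod 3)
  rw [Classical.sl3_card, ZMod.card, Fintype.card_fin, show Nat.gcd 3 (3 - 1) = 1 from rfl] at hc
  obtain ⟨ψ, h, h2⟩ := pL_pres.exists_hom (f := fun i => π (fL i)) hr
    (fun r hr => by rw [← map_ev, fL_rels r hr, map_one]) (by omega)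
    (by rw [← map_gen, fL_gen]; exact map_top_of_surjective _ (QuotientGroup.mk'_surjective _))
  have := Classical.psl_isSimpleGroup (ι := Fin 3) (F := ZMod 3) (by simp)
  exact equiv_of_simple h h2 h1 ht

end CfsgLib.Rec3.P1
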