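import Cfsg.Agent.Lib.Rec3.Tools
import Cfsg.Agent.Lib.W2.Rel

/-! The group `GL₂(3)` as a table group, and groups of shape `AGL₂(3)`. -/

set_option autoImplicit false
set_option Elab.async false
set_option synthInstance.maxSize 100000

namespace CfsgLib.Rec3.P1

open Subgroup Cfsg CfsgLib.Tech CfsgLib.PComp CfsgLib.W2 TG

theorem okG : TOk 48 (tab2 6 63 48 0xb80b0818b65a36b9ca15349e04956a90331f3d009710e8c752196971b82d5a6462a1d62f02f22d99c30394635b44438962008b2a8a4150774f8a11565d29d9aa47ac42b8d36957ee22c02e7950cc7c905348a1469eb2c211968d40fa879233975916287629af52085ba5c96db48bc0242a2906060439b46634671d88c0e51d42d628584f4237da553aee5de4a466a9ec0d1294a1b241a443a060220f8a114c35db4794058bbdc1a64997a49d7b2a4df41a8ee56b50a4433c576d1e18822206283846d6bc906902532634670b4d0563b9a7eb4ac6579277aa39e1d59df00bacc0d05c8085aae3c41924ca8c9b0165a36476f466a185a2b5b81c9615298c65cb04db1525a64f1eea920884247852933ab0270cc7c472d860a6551bbe299d6115a894d6012c659401cbc52a189d20282644f1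ed0e92683846cc693b90ae355f66a9125deb2768590f0ca79f313489055b1710e8d99c221036e1ea00bac686981b954b5c8985a846f76636705faab1cfb8b02390e102b1524615740868c783493299a22bd6991758a5c6e1520b6570f98538745b12d7402d459830396fa080a01a12a2241a4dbab41f8d54daa97b277994a41a82db8a928584126598330859400d3d880270444e76d1ef9ea66c91e497ada7ee5504e354778e14f4932aea880905e70cc7ec6402eb26312418d681b6052585c6e9756bd89a846225909391a10e8cd19f78c0c05d02011e7acb54a485aae3ec61da2f8a645682996d7146e131211065318d68a16b9cb00792338306ab8f7c85c2b1525e4689a2616bdd6e552986d7200583657603c7b4222188528bbdc189396500a4398c45b128664b17792aa76954e342bb9fa4e8873049a50db44635cbd628586860b01406d3dd2028098daad37d0b959275d94aca9e40448c1ceaae3e390b02b9d914a4d7b0635a21f0de0495426d4721b6996046fa1689899d3e415a5e308840e115b0904349328701e7ccb8d6469eb2ea896751be862686da546e581c2d71a349014a4c80aea8f1c165a3400ec549ace90479f327be659845d8a8714b6582985b1663dc6252028033145802ce76d1ca2516c4846bcda29062aac49e6675e4b93ad57e341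a849582341bdc1a9a073ed7512c052298e11b16021830394a56e8eb69f413b247aa9d25d97c19cd0895d0215b0e12392a00bade4873ee31a19914a4c3a5bb54821725a1d8915a6bd86cba062006200945833259a2241a5174a16111c36f3c7b4eadf4d542e6a39d2a9eb246574c26490089eb2d05cc0df7a418d692a843a329506c1cfb858256dc52da61611766be2a161e23a95a12c050529cbc634c45b10f226943b41a0962009d917a92b199de8ee6904dfad52aa0ebb2e04954f1da64d18479f3050a48ce4cb9c05d021299889d5afa11961720b5ba540962614543846c02ed7473cda2904832f70680588a9a50d8b1e5e74aa919550b9fada8d380c7442838a1165981269a2f3c7b5858d19c09b3912c05087d56ae4eb8d07999eca97912ac3a8a10c92339f78d19a66c1cfba75c12552d315208840095ca6d6e08549a862f75689111d320bed3467073e9a0124a9a50ce2e28456c26085940117a792a5ec6527e356bb9369091c6a6b6f7de757428a67ad381866355b4528aa96e516b211811021c00c534e2c920a30f7a95626e84d2467ad88196ae516b1f4259aa76486372f5ed0420c010614724c3482cf28e9e57d8726417beab916d24d5b5d7ab8d45aca1981a8629290c400718508130b28e3c920d4a041d958baa99969652c56372f5d3ae18a4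45eb5fa689db0801460c11c420a24b34e3cc5db8e851156c5924ddb5e7da862910ba0619be7a6b966a9c10708500304638830f28d24ba94ad18568e48ac56f71741fa689ee6ad75e9926d38186650061c11421032cf20d24c38a6614d6a62ae7a248e696ab906d149a7dcbd762c515b5d7a014318404700228d3cc3882c9b2dbaf81d69961e7e28648eb966a954e9a275977106d14941c50430841803c938a30b348895a5ebac966a9651969881bae7a2171349191d7ed417be324d28b3c830e0450860040c7a236d76a481866285e7ddb544d2469955b169ef41cbaa9ab38c24a34f20b1011c314008699a7244d96d1498827ae8a6d417be551f79daa28e156c5ae34b30828938f1830400871057508128d786292f72c55652569962da6eaa67914dbae7a1f2093cd38b28c08700118314446b52a7e7b5d7a8a5742f72156c59b8239224a6ba56996132c838930d3ca0041820451c359385941272f5d16eaba69698e4894b6b9e8b186a07de75528f2ce20c3491400c710118261f96755e516b1db524d16dcbaa9a08505ef668ae98e489a30a20f24e2cd0c21051c6001beeb6caeaa689e69648e28607de75c6da6585d65544d24503ce34c2ca2481c61440c2040) (tab1 6 63 0xbafb6c597a559d396475a8216198db72279faaba1499241128c34e2cf2480c21051c6040)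 :=
  (SOk.of_light (gs := [16, 8, 2]) (D := 8) (by decide +kernel)).tok (by decide +kernel)

/-- `GL₂(3)` -/
abbrev GM : Type := TG okG

/-- the entries of the matrix, column by column -/
noncomputable def en (p : GM) (k : ℕ) : ZMod 3 := (tab2 2 3 4 0x5161a19119294698621a524a588694159216252a688a54a2a8642689a48549459aa642652859148156186a95a9248241 p.v k : ℕ)

noncomputable section

/-- a transvection -/
def b0 : GM := o 16
/-- minus one -/
def s0 : GM := o 1
/-- a reflection -/
def t0 : GM := o 8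
/-- an element of order four -/
def w0 : GM := o 2
/-- the quaternion group -/
def Q0 : Subgroup GM := sub (fun p => p.v < 8) (by decide +kernel)
/-- the semidihedral group -/
def T0 : Subgroup GM := sub (fun p => p.v < 16) (by decide +kernel)

end

theorem card_GM : Nat.card GM = 48 := card_eq
theorem card_Q0 : Nat.card Q0 = 8 := (card_sub _ _).trans (by decide +kernel)
theorem card_T0 : Nat.card T0 = 16 := (card_sub _ _).trans (by decide +kernel)
theorem Q0_le : Q0 ≤ T0 := fun _ h => Nat.lt_trans h (by norm_num)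
theorem Q0_normal : Q0.Normal :=
  ⟨fun n hn g => (by decide +kernel : ∀ g n : GM, n.v < 8 → (g * n * g⁻¹).v < 8) g n hn⟩
theorem gen0 : genB [b0, t0, w0] 8 = true := by decide +kernel
theorem s0_comm : ∀ p, p * s0 = s0 * p := by decide +kernel

theorem en_mul : ∀ p q : GM, (en (p * q) 0 = en p 0 * en q 0 + en p 2 * en q 1 ∧
    en (p * q) 1 = en p 1 * en q 0 + en p 3 * en q 1) ∧ en (p * q) 2 = en p 0 * en q 2 + en p 2 * en q 3 ∧
    en (p * q) 3 = en p 1 * en q 2 + en p 3 * en q 3 := by decide +kernel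

theorem en_inj : ∀ p q : GM, en p 0 = en q 0 → en p 1 = en q 1 → en p 2 = en q 2 → en p 3 = en q 3 →
    p = q := by decide +kernel

theorem en_surj : ∀ c d e f : ZMod 3, (∀ x y : ZMod 3, c * x + e * y = 0 → d * x + f * y = 0 →
    x = 0 ∧ y = 0) → ∃ p : GM, en p 0 = c ∧ en p 1 = d ∧ en p 2 = e ∧ en p 3 = f := by decide +kernel

variable {G : Type*} [Group G] [Finite G]

theorem mem_O {φ : GM →* G} (hφ : Function.Injective φ)
    (hC : Cx (φ s0) ⊓ Cx (φ b0) ≤ zpowers (φ s0) ⊔ zpowers (φ b0)) : φ w0 ∈ opOf 3 (Cx (φ s0)) := by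
  set K := Cx (φ s0) with hK
  have hr : ∀ p, φ p ∈ K := fun p => by rw [mem_Cx, ← map_mul, s0_comm, map_mul]
  have hs : orderOf s0 = 2 := ord_two (by decide +kernel) (by decide +kernel)
  have hV : Nat.card (zpowers (φ s0)) = 2 := by rw [Nat.card_zpowers, orderOf_injective φ hφ, hs]
  have hVK : zpowers (φ s0) ≤ K := zpowers_le.2 (hr _)
  have hN : K ≤ normalizer (zpowers (φ s0) : Set G) := fun k hk =>
    mem_normalizer_iff_cj.2 (by rw [cj_zpowers, mem_Cx'.1 hk])
  have hVO : zpowers (φ s0) ≤ opOf 3 K := le_opOf hVK hN (by rw [hV]; norm_num)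
  have hle : ∀ H : Subgroup GM, H.map φ ≤ K := by rintro _ _ ⟨p, -, rfl⟩; exact hr p
  have hw : w0 ∈ Q0 := by change _ < 8; decide +kernel
  rcases ft3 hVK hN (by rw [hV]; norm_num) (y := φ b0)
    ((orderOf_injective φ hφ _).trans (orderOf_eq_prime (by decide +kernel) (by decide +kernel)))
    (hr _) hC with ⟨h, -⟩ | ⟨h | ⟨h, h'⟩, h2, -⟩
  · refine h (Q0.map φ) (hle _) (by rw [card_map_of_injective hφ, card_Q0]; norm_num)
      (mem_normalizer_of_forall ?_) ⟨_, hw, rfl⟩
    rintro _ ⟨p, hp, rfl⟩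
    exact ⟨_, Q0_normal.conj_mem p hp b0, by simp⟩
  · by_contra hn
    have h1 : (opOf 3 K).comap φ ≤ zpowers s0 := fun p hp => by
      rcases (by decide +kernel : ∀ p : GM, p = 1 ∨ p = s0 ∨
        ∃ g k, k * (g * p * g⁻¹ * p⁻¹) * k⁻¹ = w0) p with rfl | rfl | ⟨g, k, e⟩
      · exact one_mem _
      · exact mem_zpowers _
      · have c := fun g x (hx : x ∈ opOf 3 K) =>
          conj_mem_of_mem_normalizer (le_normalizer_opOf K (hr g)) hx
        refine absurd ?_ hn
        simpa [← e] using c k _ (mul_mem (c g _ hp) (inv_mem hp))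
    have h3 := card_le_of_le h1
    have h4 := ((opOf 3 K).comap φ).card_mul_index
    have := (normal_subgroupOf_iff_le_normalizer (opOf_le K)).2 (le_normalizer_opOf (p := 3) K)
    have h5 := relIndex_dvd_index_of_normal ((opOf 3 K).subgroupOf K) (φ.range.subgroupOf K)
    rw [relIndex_subgroupOf (by rintro _ ⟨p, rfl⟩; exact hr p), ← index_comap] at h5
    rw [Nat.card_zpowers, hs] at h3
    rw [card_GM] at h4
    replace h5 := h5.trans (show _ ∣ 60 from h.dvd)
    have h6 := Nat.le_of_dvd (by norm_num) (Nat.dvd_gcd h5 (Dvd.intro_left _ h4))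
    norm_num at h6
    nlinarith
  · exfalso
    have h3 := card_mul_relIndex' (opOf_le (p := 3) K)
    have h4 := card_mul_relIndex' (hle T0)
    have h5 := card_mul_relIndex' (map_mono (f := φ) Q0_le)
    rw [h, h', hV] at h3
    rw [card_map_of_injective hφ, card_T0] at h4
    rw [card_map_of_injective hφ, card_map_of_injective hφ, card_T0, card_Q0] at h5
    rcases Transfer.thompson_transfer (H := (T0.map φ).subgroupOf K) (Q := (Q0.map φ).subgroupOf K)
      (show ¬ 2 ∣ (T0.map φ).relIndex K by omega) (by rw [relIndex_subgroupOf (hle _)]; omega)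
      (u := ⟨φ t0, hr _⟩) (by
        rw [orderOf_mk, orderOf_injective φ hφ]
        exact ord_two (by decide +kernel) (by decide +kernel)) with ⟨M, hM, h6, -⟩ | ⟨k, q, hq, e⟩
    · have h7 : (M.map K.subtype).relIndex K = 2 := by
        rwa [relIndex, subgroupOf, comap_map_eq_self_of_injective K.subtype_injective]
      rcases h2 (M.map K.subtype) (h' ▸ zpowers_le.2 ⟨_, M.mul_self_mem_of_index_two h6 ⟨_, hr w0⟩,
        (map_mul φ _ _).symm.trans (congrArg φ (by decide +kernel))⟩) (map_subtype_le _)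
        ((normal_subgroupOf_iff_le_normalizer (map_subtype_le _)).1 (by
          rwa [subgroupOf, comap_map_eq_self_of_injective K.subtype_injective])) with e | e
      · rw [e, h] at h7; omega
      · rw [e, relIndex_self] at h7; omega
    · replace e : φ q = k * φ t0 * (k : G)⁻¹ := e
      have h6 : q * q = 1 := hφ (by
        rw [map_mul, e, conj_mul, ← map_mul, show t0 * t0 = 1 by decide +kernel]; simp)
      have h7 : φ t0 = (k : G)⁻¹ * φ q * k := by rw [e]; group
      rcases (by decide +kernel : ∀ q : GM, q.v < 8 → q * q = 1 → q = 1 ∨ q = s0) q hq h6 with rfl | rfl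
      · exact absurd (hφ (h7.trans (by simp)) : t0 = 1) (by decide +kernel)
      · rw [mul_assoc, ← mem_Cx.1 k.2, inv_mul_cancel_left] at h7
        exact absurd (hφ h7) (by decide +kernel)

/-- `A / V` is the full automorphism group of `V = 3²` -/
structure Aff (A V : Subgroup G) : Prop where
  le : V ≤ A
  norm : A ≤ normalizer (V : Set G)
  comm : ∀ x ∈ V, ∀ y ∈ V, x * y = y * x
  cube : ∀ x ∈ V, x ^ 3 = 1
  card : Nat.card V = 9
  cent : ∀ g ∈ A, (∀ x ∈ V, g * x = x * g) → g ∈ V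
  idx : V.relIndex A = 48

/-- `a, z` is a basis of `V` -/
structure Bas (A V : Subgroup G) (a z : G) : Prop extends Aff A V where
  aV : a ∈ V
  zV : z ∈ V
  z1 : z ≠ 1
  az : a ∉ zpowers z

/-- the vector with coordinates `x, y` -/
def vi (a z : G) (x y : ZMod 3) : G := a ^ x.val * z ^ y.val

/-- `g` acts on the basis by the matrix `p` -/
def Act (a z g : G) (p : GM) : Prop :=
  g * a * g⁻¹ = vi a z (en p 0) (en p 1) ∧ g * z * g⁻¹ = vi a z (en p 2) (en p 3)

omit [Finite G] in
theorem pw_add {a : G} (h : a ^ 3 = 1) (x y : ZMod 3) : a ^ (x + y).val = a ^ x.val * a ^ y.val := by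
  rw [ZMod.val_add, ← pow_add, ← pow_eq_pow_mod _ h]

omit [Finite G] in
theorem pw_mul {a : G} (h : a ^ 3 = 1) (x y : ZMod 3) : a ^ (x * y).val = (a ^ x.val) ^ y.val := by
  rw [ZMod.val_mul, ← pow_mul, ← pow_eq_pow_mod _ h]

omit [Finite G] in
theorem mem_of_pw {a : G} (h : a ^ 3 = 1) {H : Subgroup G} {x : ZMod 3} (hx : x ≠ 0)
    (h1 : a ^ x.val ∈ H) : a ∈ H :=
  mem_of_coprime_pow ((by decide : ∀ x : ZMod 3, x ≠ 0 → x.val.Coprime 3) x hx) h1 (h ▸ one_mem H)

omit [Finite G] in
theorem sq_eq_inv {a : G} (h : a ^ 3 = 1) : a ^ 2 = a⁻¹ := eq_inv_of_mul_eq_one_left (by rw [← pow_succ, h])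

namespace Bas

variable {A V : Subgroup G} {a z g k : G} {p q : GM} (h : Bas A V a z)
include h

omit [Finite G] in
theorem cm : Commute a z := h.comm a h.aV z h.zV

omit [Finite G] in
theorem vi_mem (x y : ZMod 3) : vi a z x y ∈ V := mul_mem (pow_mem h.aV _) (pow_mem h.zV _)

omit [Finite G] in
theorem vi_add (x y c d : ZMod 3) : vi a z (x + c) (y + d) = vi a z x y * vi a z c d := by
  rw [vi, pw_add (h.cube a h.aV), pw_add (h.cube z h.zV), (h.cm.pow_pow _ _).mul_mul_mul_comm, vi, vi]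

omit [Finite G] in
theorem vi_mul (x y c : ZMod 3) : vi a z (x * c) (y * c) = vi a z x y ^ c.val := by
  rw [vi, pw_mul (h.cube a h.aV), pw_mul (h.cube z h.zV), vi, (h.cm.pow_pow _ _).mul_pow]

omit [Finite G] in
theorem vi_eq_one {x y : ZMod 3} (e : vi a z x y = 1) : x = 0 ∧ y = 0 := by
  have hx : x = 0 := by
    by_contra hx
    exact h.az (mem_of_pw (h.cube a h.aV) hx
      (eq_inv_of_mul_eq_one_left e ▸ inv_mem (pow_mem (mem_zpowers z) _)))
  refine ⟨hx, by_contra fun hy => h.z1 (mem_bot.1 (mem_of_pw (h.cube z h.zV) hy ?_))⟩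
  simpa [vi, hx] using e

omit [Finite G] in
theorem vi_inj {x y c d : ZMod 3} (e : vi a z x y = vi a z c d) : x = c ∧ y = d := by
  have h1 := h.vi_add (x - c) (y - d) c d
  rw [sub_add_cancel, sub_add_cancel, e, right_eq_mul] at h1
  exact (h.vi_eq_one h1).imp sub_eq_zero.1 sub_eq_zero.1

theorem span {v : G} (hv : v ∈ V) : ∃ x y, v = vi a z x y := by
  obtain ⟨⟨x, y⟩, e⟩ := ((Nat.bijective_iff_injective_and_card
    (fun p : ZMod 3 × ZMod 3 => (⟨_, h.vi_mem p.1 p.2⟩ : V))).2 ⟨fun p q e =>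
      Prod.ext_iff.2 (h.vi_inj (congrArg Subtype.val e)), by simp [h.card]⟩).2 ⟨v, hv⟩
  exact ⟨x, y, (congrArg Subtype.val e).symm⟩

omit [Finite G] in
theorem act_vi (e : Act a z g p) (x y : ZMod 3) :
    g * vi a z x y * g⁻¹ = vi a z (en p 0 * x + en p 2 * y) (en p 1 * x + en p 3 * y) := by
  rw [h.vi_add, h.vi_mul, h.vi_mul, ← e.1, ← e.2, vi, conj_pow, conj_pow, conj_mul]

omit [Finite G] in
theorem act_mul (e : Act a z g p) (e' : Act a z k q) : Act a z (g * k) (p * q) := by
  obtain ⟨⟨h1, h2⟩, h3, h4⟩ := en_mul p q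
  constructor
  · rw [h1, h2, ← h.act_vi e, ← e'.1]; group
  · rw [h3, h4, ← h.act_vi e, ← e'.2]; group

omit [Finite G] in
theorem act_uniq (e : Act a z g p) (e' : Act a z g q) : p = q :=
  have h1 := h.vi_inj (e.1.symm.trans e'.1)
  have h2 := h.vi_inj (e.2.symm.trans e'.2)
  en_inj p q h1.1 h1.2 h2.1 h2.2

theorem act_rel (hg : g ∈ A) (hk : k ∈ A) (e : Act a z g p) (e' : Act a z k p) : k⁻¹ * g ∈ V := by
  refine h.cent _ (mul_mem (inv_mem hk) hg) fun v hv => ?_
  obtain ⟨x, y, rfl⟩ := h.span hv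
  have := (h.act_vi e x y).trans (h.act_vi e' x y).symm
  calc _ = k⁻¹ * (g * vi a z x y * g⁻¹) * g := by group
    _ = _ := by rw [this]; group

theorem exists_act (hg : g ∈ A) : ∃ p, Act a z g p := by
  obtain ⟨c, d, h1⟩ := h.span (conj_mem_of_mem_normalizer (h.norm hg) h.aV)
  obtain ⟨e, f, h2⟩ := h.span (conj_mem_of_mem_normalizer (h.norm hg) h.zV)
  obtain ⟨p, rfl, rfl, rfl, rfl⟩ := en_surj c d e f fun x y hx hy => h.vi_eq_one (by
    have : g * vi a z x y * g⁻¹ = vi a z (c * x + e * y) (d * x + f * y) := by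
      rw [h.vi_add, h.vi_mul, h.vi_mul, ← h1, ← h2, vi, conj_pow, conj_pow, conj_mul]
    rw [hx, hy] at this
    simpa [vi] using this)
  exact ⟨p, h1, h2⟩

omit [Finite G] in
theorem act_one (hg : g ∈ V) : Act a z g 1 := by
  rw [Act, h.comm g hg a h.aV, h.comm g hg z h.zV, show en 1 0 = 1 by decide +kernel,
    show en 1 1 = 0 by decide +kernel, show en 1 2 = 0 by decide +kernel,
    show en 1 3 = 1 by decide +kernel]
  simp [vi, ZMod.val_one]

theorem surj (p : GM) : ∃ g ∈ A, Act a z g p := by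
  choose μ hμ using fun g : A => h.exists_act g.2
  let f : A →* GM := MonoidHom.mk' μ fun x y => h.act_uniq (hμ _) (h.act_mul (hμ x) (hμ y))
  have h1 : f.ker = V.subgroupOf A := by
    ext x
    refine ⟨fun e => ?_, fun e => h.act_uniq (hμ x) (h.act_one e)⟩
    have h2 := hμ x
    rw [show μ x = 1 from e] at h2
    simpa [mem_subgroupOf] using h.act_rel x.2 (one_mem A) h2 (h.act_one (one_mem V))
  have h2 : f.range = ⊤ := eq_top_of_card_eq _ (by rw [← index_ker, h1, card_GM]; exact h.idx)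
  obtain ⟨g, rfl⟩ := h2.ge (mem_top p)
  exact ⟨g, g.2, hμ g⟩

omit [Finite G] in
theorem act_s0 : Act a z g s0 ↔ g * a * g⁻¹ = a⁻¹ ∧ g * z * g⁻¹ = z⁻¹ := by
  rw [Act, show en s0 0 = 2 by decide +kernel, show en s0 1 = 0 by decide +kernel,
    show en s0 2 = 0 by decide +kernel, show en s0 3 = 2 by decide +kernel]
  simp [vi, show (2 : ZMod 3).val = 2 from rfl, sq_eq_inv (h.cube a h.aV), sq_eq_inv (h.cube z h.zV)]

omit [Finite G] in
theorem act_t0 : Act a z g t0 ↔ g * a * g⁻¹ = a ∧ g * z * g⁻¹ = z⁻¹ := by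
  rw [Act, show en t0 0 = 1 by decide +kernel, show en t0 1 = 0 by decide +kernel,
    show en t0 2 = 0 by decide +kernel, show en t0 3 = 2 by decide +kernel]
  simp [vi, show (2 : ZMod 3).val = 2 from rfl, ZMod.val_one, sq_eq_inv (h.cube z h.zV)]

omit [Finite G] in
theorem act_w0 : Act a z g w0 ↔ g * a * g⁻¹ = z ∧ g * z * g⁻¹ = a⁻¹ := by
  rw [Act, show en w0 0 = 0 by decide +kernel, show en w0 1 = 1 by decide +kernel,
    show en w0 2 = 2 by decide +kernel, show en w0 3 = 0 by decide +kernel]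
  simp [vi, show (2 : ZMod 3).val = 2 from rfl, ZMod.val_one, sq_eq_inv (h.cube a h.aV)]

omit [Finite G] h in
theorem act_b0 : Act a z g b0 ↔ g * a * g⁻¹ = a * z ∧ g * z * g⁻¹ = z := by
  rw [Act, show en b0 0 = 1 by decide +kernel, show en b0 1 = 1 by decide +kernel,
    show en b0 2 = 0 by decide +kernel, show en b0 3 = 1 by decide +kernel]
  simp [vi, ZMod.val_one]

theorem inv_of_s0 (e : Act a z g s0) {v : G} (hv : v ∈ V) : g * v * g⁻¹ = v⁻¹ := by
  obtain ⟨x, y, rfl⟩ := h.span hv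
  obtain ⟨h1, h2⟩ := h.act_s0.1 e
  rw [vi, ← conj_mul, ← conj_pow, ← conj_pow, h1, h2, inv_pow, inv_pow, ← mul_inv_rev,
    (h.cm.pow_pow _ _).eq]

/-- the centraliser of an inverting element is a complement -/
theorem exists_phi {s : G} (hs : s ∈ A) (e : Act a z s s0) : ∃ φ : GM →* G, Function.Injective φ ∧
    (∀ p, φ p ∈ A ∧ Act a z (φ p) p) ∧ (∀ g ∈ A, g * s = s * g → ∀ p, Act a z g p → φ p = g) ∧
    ∀ g ∈ A, ∃ p, (φ p)⁻¹ * g ∈ V := by
  have h1 : ∀ p, ∃ g ∈ A, g * s = s * g ∧ Act a z g p := fun p => by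
    obtain ⟨g, hg, h2⟩ := h.surj p
    have h3 := h.act_rel (mul_mem hg hs) (mul_mem hs hg) (h.act_mul h2 e) (s0_comm p ▸ h.act_mul e h2)
    set v := (s * g)⁻¹ * (g * s) with hv
    have h4 := h.inv_of_s0 e h3
    refine ⟨g * v⁻¹, mul_mem hg (inv_mem (h.le h3)), ?_,
      mul_one p ▸ h.act_mul h2 (h.act_one (inv_mem h3))⟩
    have h5 : v⁻¹ * s = s * v := by rw [← h4, inv_mul_cancel_right]
    have h6 : g * s = s * g * v := by rw [hv]; group
    rw [mul_assoc, h5, ← mul_assoc, h6, mul_assoc, ← sq, sq_eq_inv (h.cube v h3), mul_assoc]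
  choose μ hA hc hμ using h1
  have h2 : ∀ g ∈ A, g * s = s * g → ∀ p, Act a z g p → μ p = g := fun g hg h3 p h4 => by
    have h5 := h.act_rel (hA p) hg (hμ p) h4
    have h6 := h.inv_of_s0 e h5
    rw [((show Commute g s from h3).inv_left.mul_left (hc p)).eq.symm, mul_inv_cancel_right] at h6
    rw [← inv_mul_eq_one.1 (mem_bot.1 (mem_of_coprime_pow (a := 2) (b := 3) (by norm_num)
      (by rw [sq, mem_bot]; exact mul_eq_one_iff_eq_inv.2 h6) (mem_bot.2 (h.cube _ h5))))]
  refine ⟨MonoidHom.mk' μ fun p q => h2 _ (mul_mem (hA p) (hA q))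
    ((show Commute (μ p) s from hc p).mul_left (hc q)) _ (h.act_mul (hμ p) (hμ q)),
    fun p q e => h.act_uniq (hμ p) ((show μ p = μ q from e) ▸ hμ q), fun p => ⟨hA p, hμ p⟩, h2, fun g hg => ?_⟩
  obtain ⟨p, hp⟩ := h.exists_act hg
  exact ⟨p, h.act_rel hg (hA p) hp (hμ p)⟩

end Bas

end CfsgLib.Rec3.P1
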