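import Cfsg.Agent.Lib.Rec3.M12a
import Cfsg.Agent.Lib.Rec3.M12Mod

/-! The amalgam of two groups `AGL₂(3)` with `N(Z) ≤ A ⊓ B`. -/

set_option autoImplicit false

namespace CfsgLib.Rec3.P1

open Subgroup Cfsg CfsgLib.Tech CfsgLib.PComp CfsgLib.W2 CfsgLib.CosetEnum TG

variable {G : Type*} [Group G] [Finite G] {A B V U : Subgroup G} {a z b s t g k : G}

/-- `g` inverts `V` -/
def Iv (A V : Subgroup G) (g : G) : Prop := g ∈ A ∧ ∀ v ∈ V, g * v * g⁻¹ = v⁻¹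

omit [Finite G] in
theorem eq_one_of_inv (h3 : g ^ 3 = 1) (h : g = g⁻¹) : g = 1 := by
  rwa [pow_three, mul_eq_one_iff_eq_inv.2 h, mul_one] at h3

omit [Finite G] in
theorem Aff.iv_mul (h : Aff A V) (e : Iv A V g) (e' : Iv A V k) : g * k ∈ V :=
  h.cent _ (mul_mem e.1 e'.1) fun v hv => by
    have h1 := e.2 _ (inv_mem hv)
    rw [inv_inv, ← e'.2 v hv] at h1
    rw [← mul_inv_eq_iff_eq_mul]
    exact Eq.trans (by group) h1

omit [Finite G] in
theorem Aff.iv_sq (h : Aff A V) (e : Iv A V g) : g * g = 1 :=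
  eq_one_of_inv (h.cube _ (h.iv_mul e e)) (by rw [← e.2 _ (h.iv_mul e e)]; group)

omit [Finite G] in
theorem Aff.iv_conj (h : Aff A V) (e : Iv A V g) (hk : k ∈ A) : Iv A V (k * g * k⁻¹) :=
  ⟨mul_mem (mul_mem hk e.1) (inv_mem hk), fun v hv => by
    have h1 := e.2 _ (conj_mem_of_mem_normalizer' (h.norm hk) hv)
    calc _ = k * (g * (k⁻¹ * v * k) * g⁻¹) * k⁻¹ := by group
      _ = _ := by rw [h1]; group⟩

theorem Bas.exists_iv (h : Bas A V a z) : ∃ g, Iv A V g :=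
  have ⟨g, hg, e⟩ := h.surj s0
  ⟨g, hg, fun _ hv => h.inv_of_s0 e hv⟩

omit [Finite G] in
theorem Aff.exists_fixed (h : Aff A V) (h' : Aff B U) (hU : U ≤ A) (hn : ¬ U ≤ V) (ht : t ∈ A)
    (e : Iv B U t) : ∃ a ∈ V, a ∉ U ∧ t * a * t⁻¹ = a := by
  by_contra! hc
  have tt := h'.iv_sq e
  have h1 : Iv A V t := ⟨ht, fun x hx => by
    have h2 := conj_mem_of_mem_normalizer (h.norm ht) hx
    have h3 : t * (t * x * t⁻¹ * x) * t⁻¹ = t * x * t⁻¹ * x := by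
      rw [h.comm _ h2 x hx]
      calc _ = t * x * t⁻¹ * (t * t * x * (t * t)⁻¹) := by group
        _ = _ := by rw [tt, ← h.comm _ h2 x hx]; group
    have h4 : t * x * t⁻¹ * x ∈ U := by_contra fun h4 => hc _ (mul_mem h2 hx) h4 h3
    exact mul_eq_one_iff_eq_inv.1 (eq_one_of_inv (h'.cube _ h4) (h3.symm.trans (e.2 _ h4)))⟩
  refine hn fun x hx => mem_of_coprime_pow (a := 2) (b := 3) (by norm_num) ?_ (h'.cube x hx ▸ one_mem V)
  have h2 := h.iv_mul (h.iv_conj h1 (hU hx)) h1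
  have h3 := e.2 _ (inv_mem hx)
  rw [inv_inv, inv_eq_of_mul_eq_one_right tt] at h3
  rwa [mul_assoc, mul_assoc, ← mul_assoc t, h3, ← sq] at h2

/-- one side of the amalgam -/
structure Side (A V : Subgroup G) (a z b s t : G) : Prop extends Bas A V a z where
  bA : b ∈ A
  sA : s ∈ A
  tA : t ∈ A
  ba : b * a * b⁻¹ = a * z
  bz : b * z * b⁻¹ = z
  sa : s * a * s⁻¹ = a⁻¹
  sz : s * z * s⁻¹ = z⁻¹
  ta : t * a * t⁻¹ = a
  tz : t * z * t⁻¹ = z⁻¹
  bs : b * s = s * b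
  ts : t * s = s * t
  nz : normalizer (zpowers z : Set G) ≤ A

theorem Side.exists_phi (h : Side A V a z b s t) : ∃ φ : GM →* G, Function.Injective φ ∧
    φ b0 = b ∧ φ s0 = s ∧ φ t0 = t ∧ φ w0 * a * (φ w0)⁻¹ = z ∧ φ w0 * z * (φ w0)⁻¹ = a⁻¹ ∧
    (∀ H : Subgroup G, a ∈ H → z ∈ H → b ∈ H → t ∈ H → φ w0 ∈ H → A ≤ H) ∧
    ∀ g ∈ Cx t ⊓ Cx a, g ∈ zpowers a ∨ t⁻¹ * g ∈ zpowers a := by
  have e := h.act_s0.2 ⟨h.sa, h.sz⟩
  have et := h.act_t0.2 ⟨h.ta, h.tz⟩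
  obtain ⟨φ, h1, h2, h3, h4⟩ := h.toBas.exists_phi h.sA e
  have hb := h3 b h.bA h.bs _ (Bas.act_b0.2 ⟨h.ba, h.bz⟩)
  have ht := h3 t h.tA h.ts _ et
  obtain ⟨w1, w2⟩ := h.act_w0.1 (h2 w0).2
  refine ⟨φ, h1, hb, h3 s h.sA rfl _ e, ht, w1, w2, fun H ha hz hb' ht' hw g hg => ?_, fun g hg => ?_⟩
  · obtain ⟨p, hp⟩ := h4 g hg
    obtain ⟨x, y, h5⟩ := h.span hp
    have h6 : H.comap φ = ⊤ := eq_top_of_genB gen0 (by
      simp only [List.forall_mem_cons, mem_comap, hb, ht]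
      exact ⟨hb', ht', hw, by simp⟩)
    rw [← mul_inv_cancel_left (φ p) g, h5]
    exact mul_mem (h6.ge (mem_top p)) (mul_mem (pow_mem ha _) (pow_mem hz _))
  · have hw := (h2 w0).1
    have hA : g ∈ A := by
      have := h.nz (mem_normalizer_iff_cj.2 (by
        rw [cj_zpowers, mem_Cx'.1 (w1 ▸ conj_mem_Cx.2 hg.2)]) : φ w0 * g * (φ w0)⁻¹ ∈ _)
      simpa [mul_assoc] using mul_mem (mul_mem (inv_mem hw) this) hw
    have key : ∀ v ∈ V, v ∈ Cx t → v ∈ zpowers a := fun v hv hc => by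
      obtain ⟨x, y, rfl⟩ := h.span hv
      have h5 := h.act_vi et x y
      rw [mem_Cx'.1 (Cx_comm.1 hc)] at h5
      have h6 : y = 0 := (by decide +kernel : ∀ x y : ZMod 3, y = en t0 1 * x + en t0 3 * y → y = 0)
        x y (h.vi_inj h5).2
      simp [vi, h6]
    obtain ⟨p, hp⟩ := h.exists_act hA
    have h5 := h.vi_inj (hp.1.symm.trans ((mem_Cx'.1 hg.2).trans
      (show a = vi a z 1 0 by simp [vi, ZMod.val_one])))
    rcases (by decide +kernel : ∀ p : GM, en p 0 = 1 → en p 1 = 0 → p * t0 = t0 * p → p = 1 ∨ p = t0)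
      p h5.1 h5.2 (h.act_uniq (h.act_mul hp et) (mem_Cx.1 hg.1 ▸ h.act_mul et hp)) with rfl | rfl
    · exact Or.inl (key g (by simpa using h.act_rel hA (one_mem A) hp (h.act_one (one_mem V))) hg.1)
    · exact Or.inr (key _ (h.act_rel hA h.tA hp et) (mul_mem (inv_mem (mem_Cx.2 rfl)) hg.1))

omit [Finite G] in
theorem le_of_cases (h : ∀ g ∈ Cx t ⊓ Cx a, g ∈ zpowers a ∨ t⁻¹ * g ∈ zpowers a) :
    Cx t ⊓ Cx a ≤ zpowers t ⊔ zpowers a := fun g hg => (h g hg).elim (mem_sup_right ·) fun e =>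
  mul_inv_cancel_left t g ▸ mul_mem_sup (mem_zpowers t) e

theorem of_sides (h : Side A V a z b s t) (h' : Side B U b z⁻¹ a t s) (hg : A ⊔ B = ⊤) :
    Spor.IsoM12 G ∨ Nonempty (G ≃* Matrix.ProjectiveSpecialLinearGroup (Fin 3) (ZMod 3)) := by
  obtain ⟨φ, i1, b1, s1, t1, w1, w2, g1, c1⟩ := h.exists_phi
  obtain ⟨ψ, i2, b2, s2, t2, v1, v2, g2, c2⟩ := h'.exists_phi
  have o1 := mem_O i1 (by rw [s1, b1]; exact le_of_cases c2)
  have o2 := mem_O i2 (by rw [s2, b2]; exact le_of_cases c1)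
  have e0 : w0 * t0 * w0⁻¹ = s0 * t0 := by decide +kernel
  have e1 := congrArg φ e0
  have e2 := congrArg ψ e0
  have e3 := congrArg ψ (s0_comm w0)
  have tt := congrArg φ (show t0 * t0 = 1 by decide +kernel)
  have ss := congrArg φ (show s0 * s0 = 1 by decide +kernel)
  have hs : s ≠ 1 := fun e => absurd (i1 ((s1.trans e).trans φ.map_one.symm)) (by decide +kernel)
  simp only [map_mul, map_inv, map_one, s1, t1, s2, t2] at e1 e2 e3 o1 o2 tt ss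
  set w := φ w0 with hw
  set v := ψ w0 with hv
  have e4 : v * w * t * (v * w)⁻¹ = s := by
    calc _ = v * (w * t * w⁻¹) * v⁻¹ := by group
      _ = v * s * v⁻¹ * (v * t * v⁻¹) := by rw [e1]; group
      _ = _ := by rw [e2, e3, mul_inv_cancel_right, h.ts, mul_assoc, tt, mul_one]
  have o3 : v * w * v * (v * w)⁻¹ ∈ opOf 3 (Cx s) := by
    rw [← e4, ← cj_Cx, ← map_conj_opOf]; exact conj_mem_cj.2 o2
  have b3 := h'.cube b h'.aV
  have hN : Cx s ≤ normalizer (zpowers s : Set G) := fun k hk =>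
    mem_normalizer_iff_cj.2 (by rw [cj_zpowers, mem_Cx'.1 hk])
  have hO := coprime_card_opOf (p := 3) (Cx s)
  have h1 := ft3_cube (V := zpowers s) (le_opOf (zpowers_le.2 (mem_Cx.2 rfl)) hN (by
      rw [Nat.card_zpowers, ord_two ss hs]; norm_num)) ((opOf_le _).trans hN) hO b3
    (hN (mem_Cx.2 h.bs)) (le_normalizer_opOf _ (mem_Cx.2 h.bs)) (fun g hg => by
      refine mem_of_coprime_pow hO (by
        rw [show g ^ Nat.card (opOf 3 (Cx s)) = 1 from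
          congrArg Subtype.val (pow_card_eq_one' (x := (⟨g, hg.1⟩ : opOf 3 (Cx s))))]
        exact one_mem _) ?_
      have c : ∀ x ∈ zpowers b, x ^ 3 = 1 := by
        rintro _ ⟨i, rfl⟩
        rw [← zpow_natCast, ← zpow_mul, mul_comm, zpow_mul, zpow_natCast, b3, one_zpow]
      rcases c2 g ⟨opOf_le _ hg.1, hg.2⟩ with e | e
      · rw [c g e]; exact one_mem _
      · have h2 : Commute s (s⁻¹ * g) :=
          (Commute.refl s).inv_right.mul_right (mem_Cx.1 (opOf_le _ hg.1)).symm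
        rw [← mul_inv_cancel_left s g, h2.mul_pow, c _ e, mul_one]
        exact pow_mem (mem_zpowers s) _) (mul_mem o1 o3)
  have ht : gen (gv [a, b, z, s, t, w, v]) ys7 = ⊤ := by
    have m := fun i hi => mem_gen_gv (l := [a, b, z, s, t, w, v]) (ys := ys7) (i := i) hi
    exact eq_top_iff.2 (hg ▸ sup_le
      (g1 _ (m 0 (by decide)) (m 2 (by decide)) (m 1 (by decide)) (m 4 (by decide)) (m 5 (by decide)))
      (g2 _ (m 1 (by decide)) (inv_mem (m 2 (by decide))) (m 0 (by decide)) (m 3 (by decide))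
        (m 6 (by decide))))
  have hr : ∀ L : List (List ℕ), ∀ r₀, ev (gv [a, b, z, s, t, w, v]) r₀ = 1 → (∀ r ∈ L,
      ((∀ x ∈ r, x / 2 ∈ [1, 3, 4, 5]) ∧ ev (gv [1, b0, 1, s0, t0, w0]) r = 1) ∨
      ((∀ x ∈ r, x / 2 ∈ [0, 3, 4, 6]) ∧ ev (gv [b0, 1, 1, t0, s0, 1, w0]) r = 1) ∨
      r ∈ [[4, 4, 4], [0, 4, 1, 5], [2, 0, 3, 5, 1], [2, 4, 3, 5], [6, 4, 6, 4], [8, 4, 8, 4],
        [10, 0, 11, 5], [10, 4, 11, 0], [12, 2, 13, 4], [12, 5, 13, 2], r₀]) →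
      ∀ r ∈ L, ev (gv [a, b, z, s, t, w, v]) r = 1 := fun L r₀ h0 hL r hr => by
    rcases hL r hr with e | e | e
    · rw [ev_eq_map φ (f := gv [1, b0, 1, s0, t0, w0]) (by simpa only [List.forall_mem_cons] using ⟨b1, s1, t1, rfl, by simp⟩) e.1, e.2,
        map_one]
    · rw [ev_eq_map ψ (f := gv [b0, 1, 1, t0, s0, 1, w0]) (by simpa only [List.forall_mem_cons] using ⟨b2, t2, s2, rfl, by simp⟩) e.1, e.2,
        map_one]
    · clear hr
      revert r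
      have z3 := h.cube z h.zV
      have az : a * z * a⁻¹ = z := by rw [h.cm.eq, mul_inv_cancel_right]
      have sz := h.sz
      have tz := h.tz
      rw [inv_eq_of_mul_eq_one_right ss] at sz
      rw [inv_eq_of_mul_eq_one_right tt] at tz
      simp only [List.forall_mem_cons, h0]
      simp [ev, evL, gv, ← mul_assoc, h.ba, h.bz, sz, tz, w1, w2, v1, v2, az, ← pow_three', z3]
  have h2 : (w * (v * w * v * (v * w)⁻¹) * b) ^ 3 = ev (gv [a, b, z, s, t, w, v])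
      [10, 12, 10, 12, 11, 13, 2, 10, 12, 10, 12, 11, 13, 2, 10, 12, 10, 12, 11, 13, 2] := by
    simp [ev, evL, gv, pow_three, mul_assoc]
  rw [h2] at h1
  obtain ⟨i, hi⟩ := h1
  have h3 : s ^ (2 : ℤ) = 1 := by rw [zpow_two, ss]
  rcases (show s ^ i = 1 ∨ s ^ i = s by
    rcases Int.even_or_odd' i with ⟨j, rfl | rfl⟩ <;> simp [zpow_add, zpow_mul, h3]).imp
    (hi.symm.trans ·) (hi.symm.trans ·) with e | e
  · exact Or.inl (iso_M12 (hr _ _ e (by decide +kernel)) hs ht)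
  · refine Or.inr (iso_L33 (hr _ ([10, 12, 10, 12, 11, 13, 2, 10, 12, 10, 12, 11, 13, 2, 10, 12, 10, 12,
      11, 13, 2] ++ [6]) ?_ (by decide +kernel)) hs ht)
    rw [ev_append, e, W2.ev_single _ 3]; exact ss

omit [Finite G] in
theorem braid (gg : g * g = 1) (tt : t * t = 1) (h : (g * (t * g * t⁻¹)) ^ 3 = 1) :
    t * (g * (t * g * t⁻¹) * g⁻¹) = g * (t * g * t⁻¹) * g⁻¹ * t := by
  rw [inv_eq_of_mul_eq_one_right gg, inv_eq_of_mul_eq_one_right tt] at *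
  have g2 : ∀ x, g * (g * x) = x := fun x => by rw [← mul_assoc, gg, one_mul]
  have t2 : ∀ x, t * (t * x) = x := fun x => by rw [← mul_assoc, tt, one_mul]
  refine mul_right_cancel (b := g * (t * g * t) * g * t) (Eq.trans ?_ (h.symm.trans ?_))
  · simp only [mul_assoc, g2, t2, tt]
  · simp only [pow_three, mul_assoc]

theorem core (h : Aff A V) (h' : Aff B U) (hV : V ≤ B) (hU : U ≤ A) (hz : V ⊓ U = zpowers z)
    (z1 : z ≠ 1) (hN : normalizer (zpowers z : Set G) ≤ A ⊓ B) (hg : A ⊔ B = ⊤) :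
    Spor.IsoM12 G ∨ Nonempty (G ≃* Matrix.ProjectiveSpecialLinearGroup (Fin 3) (ZMod 3)) := by
  obtain ⟨zV, zU⟩ : z ∈ V ⊓ U := hz ▸ mem_zpowers z
  have c3 : ∀ x ∈ V, x ≠ 1 → Nat.card (zpowers x) = 3 := fun x hx h1 => by
    rw [Nat.card_zpowers, orderOf_eq_prime (h.cube x hx) h1]
  have n1 : ¬ V ≤ U := fun e => by
    have := c3 z zV z1
    rw [← hz, inf_eq_left.2 e, h.card] at this; omega
  have n2 : ¬ U ≤ V := fun e => by
    have := c3 z zV z1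
    rw [← hz, inf_eq_right.2 e, h'.card] at this; omega
  have iv : ∀ {C W : Subgroup G} {g : G}, z ∈ W → Iv C W g → g ∈ A ⊓ B := fun hW e =>
    hN (mem_normalizer_iff_cj.2 (by rw [cj_zpowers, e.2 z hW, zpowers_inv]))
  obtain ⟨a₀, h1, h2⟩ := SetLike.not_le_iff_exists.1 n1
  obtain ⟨b₀, h3, h4⟩ := SetLike.not_le_iff_exists.1 n2
  obtain ⟨r, hr⟩ := Bas.exists_iv ⟨h, h1, zV, z1, fun e => h2 (hz.ge e).2⟩
  obtain ⟨t, ht⟩ := Bas.exists_iv ⟨h', h3, zU, z1, fun e => h4 (hz.ge e).1⟩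
  have tA := (iv zU ht).1
  have hr' := h.iv_conj hr tA
  have hs := h.iv_conj hr' hr.1
  set s := r * (t * r * t⁻¹) * r⁻¹ with es
  have ts : t * s = s * t := braid (h.iv_sq hr) (h'.iv_sq ht) (h.cube _ (h.iv_mul hr hr'))
  obtain ⟨a, aV, aU, ta⟩ := h.exists_fixed h' hU n2 tA ht
  obtain ⟨b, bU, bV, sb⟩ := h'.exists_fixed h hV n1 (iv zV hs).2 hs
  have yV : a⁻¹ * (b * a * b⁻¹) ∈ V := mul_mem (inv_mem aV) (conj_mem_of_mem_normalizer (h.norm (hU bU)) aV)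
  have yU : a⁻¹ * (b * a * b⁻¹) ∈ U := by
    simpa only [mul_assoc] using mul_mem (conj_mem_of_mem_normalizer' (h'.norm (hV aV)) bU) (inv_mem bU)
  set y := a⁻¹ * (b * a * b⁻¹) with ey
  have y1 : y ≠ 1 := fun e => bV (h.cent b (hU bU) fun x hx => by
    obtain ⟨i, j, rfl⟩ := Bas.span ⟨h, aV, zV, z1, fun e => aU (hz.ge e).2⟩ hx
    have e1 : Commute b a := mul_inv_eq_iff_eq_mul.1 (inv_mul_eq_one.1 e).symm
    exact (e1.pow_right _).mul_right ((show Commute b z from h'.comm b bU z zU).pow_right _))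
  have hy : zpowers y = zpowers z :=
    eq_of_le_of_card_ge (zpowers_le.2 (hz.le ⟨yV, yU⟩)) (by rw [c3 y yV y1, c3 z zV z1])
  have ba : b * a * b⁻¹ = a * y := by rw [ey, mul_inv_cancel_left]
  refine of_sides (a := a) (z := y) (b := b) (s := s) (t := t)
    ⟨⟨h, aV, yV, y1, fun e => aU (zpowers_le.2 yU e)⟩, hU bU, hs.1, tA, ba,
      by rw [h'.comm b bU y yU, mul_inv_cancel_right], hs.2 a aV, hs.2 y yV, ta, ht.2 y yU,
      (mul_inv_eq_iff_eq_mul.1 sb).symm, ts, hy ▸ hN.trans inf_le_left⟩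
    ⟨⟨h', bU, inv_mem yU, inv_ne_one.2 y1, fun e => bV (zpowers_le.2 (inv_mem yV) e)⟩, hV aV, ht.1,
      (iv zV hs).2, ?_, by rw [h.comm a aV _ (inv_mem yV), mul_inv_cancel_right], ht.2 b bU,
      ht.2 _ (inv_mem yU), sb, hs.2 _ (inv_mem yV), (mul_inv_eq_iff_eq_mul.1 ta).symm, ts.symm, ?_⟩ hg
  · rw [h'.comm b bU _ (inv_mem yU), ← mul_inv_cancel_right y⁻¹ a, ← h.comm a aV _ (inv_mem yV), ey]
    group
  · rw [zpowers_inv, hy]; exact hN.trans inf_le_right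

end CfsgLib.Rec3.P1
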