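import Cfsg.Agent.Lib.Rec3.JSet
import Cfsg.Agent.Lib.Rec3.PhArith
import Cfsg.Agent.Lib.Exc.E9

/-!
There is no group with the `3`-fusion of `A₉` in which the normaliser `3³ : S₄` of `J` contains the
centralisers of all non-identity elements of `J`.
-/

set_option autoImplicit false
set_option maxRecDepth 100000
set_option linter.unusedSectionVars false

namespace CfsgLib.Rec3

open Subgroup Cfsg CfsgLib.Tech CfsgLib.W2 CfsgLib.Char CfsgLib.Exc Jx

namespace Pg

noncomputable section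

/-- the class of a `3`-element of `Rot` -/
def cl (a : W3) : ℕ := tab1 3 7 0xffffffffffffffffffffffffffffffffffffffffffffffffffffffffffffffffffffffffffffffffffffffffffffffffffffffffffffffffffffffffffffffffffffffffffffffffffffffffffffffffffffffffffffffffffffffffffffffffffffffffffffffffffffffffffffffffffffffffffffffffffffffffffffffffffffffffffffffffffffffffffffffffffffffffffffffffffffffffffffffffffffffffffffffffffffffffffffffffffffffffffffffffffffffffffffffffffffffffffffffffffffffffffffffffffffffffffffffffffffffffffffffffffffffffffffffffffffffffffffffffffffffffffffffffffffffffffd8e3aec7658e3b1d7658eb92b72cadcb5c72d7257ffffffffffffffffffffb1bb23b1db1bb1d91db1ffffffffffffffffffffffffffffffffffffffffee595d72575c72d71cb2bffffffffffffffffffffcadcb5cae4adcae5ae4ae575c72b96575cae39657ffffffffffffffffffff8ed8dd96376475d91db1ffffffffffffffffffffffffffffffffffffffffeecb1c76c71d76475d963fffffffffffffffffffffffffffffffffffffffffffffffffffffffffffffffffffffffffffffffffffffffffffffffffffffffffffffffffffffffffffffffffffffffffffffeda6d245b4da48a452248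 a.v

/-- a conjugating element -/
def wit (a : W3) : W3 := TG.o (tab1 11 2047 0x595f2bf17b2f90acbd829afc5f61617c0555eabe17daf50a4bdd7d0575ee1517a0515f4bd0552ab550a9453aa854aaac522a7152aa953aa414c28d522aa552a98540a554ca8d548a25460000000000000000000000000000000000000000000000000000000000000000000000000011cafd62ac2116b15612bf110b016308f118b1961ac0112b0d6208d57cb116088a10eb055f00000000000000000000000000000000000000000000000000000000000000000000000000000000000000000000000000000000000000000000000000000000000000000000000000000d31a3007698011a480168cd25a380869a015a534d68ed2801006696d15a434b006d20003450000000000000000000000000000000000000000000000000000000000000000000000000008d58a2344788f588b184708e58622c4588a5842284608c58222444abe5802204408757e21c2bafb0aebf02c0580b21657d0560acbdc2a2f80a8be42a8555ec148290530a6bd028af50a20000000000000000000000000000000000000000000000000000000000000000000000000014c299532a814a29453aa714eaac540a8154aa8550a9152aa4522a414828c51aa354a2885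100000000000000000000000000000000000000000000000000000000000000000000000000000000000000000000000000000000000000000000000000000000000000000000000000000015a480569400c01804008d21a680600c01c03b4b010d3004001002d1401346004d1c000000000000000000000000000000000000000000000000000000000000000000000000000000000000000000000000000000000000000000000000000000000000000000000000000000000000000000000000000000000000000000000000000000000000000000000000000000000000000000000000000000000000000000000000000000000000000000000000000000000000000000000000000000000000000000000000000000000000000000000000000000000000000000000000000000000000000000000000000000000000000000000000000000000000000000000000000000000000000000000000000000000000000000000000000000000000000000000d145117a10ebd0afa374a421c28abe252a8c000d84026c000051144804438003604a46c000 a.v)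

def rep : ℕ → W3
  | 0 => 1
  | 1 => e3
  | 2 => y0
  | 3 => z0
  | 4 => TG.o 217
  | _ => TG.o 433

/-- `⟨rep 4⟩` -/
def X0 : Subgroup W3 := bsub 0x60010000000000000000000000000000000000000000000000001004002000000000000000000000000000000000000000000000004002001 (by decide +kernel)

instance (a : W3) : Decidable (a ∈ X0) :=
  inferInstanceAs (Decidable (bit 0x60010000000000000000000000000000000000000000000000001004002000000000000000000000000000000000000000000000004002001 a.v = true))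

theorem cl_lt : ∀ s ∈ Rot, s ^ 9 = 1 → cl s < 6 := by decide +kernel

theorem cl_wit : ∀ s : W3, cl s < 6 → s ∈ Rot ∧ wit s ∈ Rot ∧
    (wit s * rep (cl s) * (wit s)⁻¹ = s ∨ s ∉ J0 ∧ cl s = 3 ∧ wit s * σ0 * (wit s)⁻¹ = s) := by
  decide +kernel

theorem cl_conj : ∀ i < 6, ∀ a ∈ Rot, cl (a * rep i * a⁻¹) = i := by decide +kernel

theorem rep_data : ∀ i < 6, rep i ∈ S0 ∧ cl (rep i) = i ∧ rep i ^ 9 = 1 ∧
    (i < 4 → rep i ∈ J0 ∧ rep i ^ 3 = 1) ∧ (4 ≤ i → rep i ^ 3 = z0) ∧
    ∀ k < 9, k % 3 ≠ 0 → cl (rep i ^ k) = i := by decide +kernel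

theorem leJ00 : J00 ≤ S0 := show ∀ a ∈ J00, a ∈ S0 by decide +kernel

theorem leB0 : B0 ≤ S0 := show ∀ a ∈ B0, a ∈ S0 by decide +kernel

theorem leX0 : X0 ≤ S0 := show ∀ a ∈ X0, a ∈ S0 by decide +kernel

theorem cl_J : ∀ x ∈ J0, x ≠ 1 → cl x = 1 ∨ cl x = 2 ∨ cl x = 3 := by decide +kernel

end

variable {G : Type*} [Group G] [Finite G] {ι : W3 → G}

theorem exists_central {a b : G} (ha : a ^ 3 = 1) (hb : b ^ 3 = 1) (hab : (a * b) ^ 3 = 1)
    (hne : ¬ IsConj a b) : ∃ u : G, u ≠ 1 ∧ u ^ 3 = 1 ∧ Commute u a ∧ Commute u b := by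
  obtain ⟨m, hm⟩ : 3 ∣ orderOf (a⁻¹ * b) := by
    by_contra h
    exact hne (isConj_of_triangle ha hb hab h)
  have hm0 : 0 < m := Nat.pos_of_ne_zero (by rintro rfl; exact (orderOf_pos _).ne' hm)
  obtain ⟨hc, hz⟩ := triangle_commute ha hb hab
  have e : b * a⁻¹ = a * (a⁻¹ * b) * a⁻¹ := by group
  have k : ∀ u, Commute u a → Commute u (a⁻¹ * b) → Commute u b := fun u h1 h2 => by
    simpa using h1.mul_right h2
  generalize a⁻¹ * b = x at hm hc hz e k
  rw [e] at hc hz
  have s3 : (x ^ m) ^ 3 = 1 := by rw [← pow_mul, mul_comm, ← hm, pow_orderOf_eq_one]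
  have s1 : x ^ m ≠ 1 := pow_ne_one_of_lt_orderOf hm0.ne' (by omega)
  have c1 : Commute (x ^ m) (a * x ^ m * a⁻¹) := by rw [← conj_pow]; exact hc.pow_pow m m
  have c2 : Commute (a * x ^ m * a⁻¹) x := by rw [← conj_pow]; exact (hc.pow_right m).symm
  have c3 : a⁻¹ * x ^ m * a = (x ^ m * (a * x ^ m * a⁻¹))⁻¹ := by
    rw [← conj_pow, ← hc.mul_pow, ← inv_pow, ← hz]
    simpa using (conj_pow (a := a⁻¹) (b := x) (i := m)).symm
  have c4 : Commute (x ^ m) x := (Commute.refl x).pow_left m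
  generalize x ^ m = s at s3 s1 c1 c2 c3 c4
  by_cases hu : a * s * a⁻¹ = s
  · have c5 : Commute s a := (mul_inv_eq_iff_eq_mul.1 hu).symm
    exact ⟨s, s1, s3, c5, k s c5 c4⟩
  · have t3 : (a * s * a⁻¹) ^ 3 = 1 := by rw [conj_pow, s3]; simp
    have c5 : Commute (s⁻¹ * (a * s * a⁻¹)) a := by
      have h1 : a * a = a⁻¹ := by rw [eq_inv_iff_mul_eq_one, ← ha, pow_three']
      have h2 : a * (a * s * a⁻¹) * a⁻¹ = a⁻¹ * s * a := by
        calc _ = a * a * s * (a * a)⁻¹ := by group
          _ = _ := by rw [h1, inv_inv]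
      have h3 : a * (s⁻¹ * (a * s * a⁻¹)) * a⁻¹ = s⁻¹ * (a * s * a⁻¹) := by
        calc _ = (a * s * a⁻¹)⁻¹ * (a * (a * s * a⁻¹) * a⁻¹) := by group
          _ = _ := by
            rw [h2, c3]
            generalize a * s * a⁻¹ = t at c1 t3
            rw [c1.eq, mul_inv_rev, ← mul_assoc, ← c1.inv_inv.eq, mul_assoc, ← mul_inv_rev,
              inv_eq_of_mul_eq_one_right (a := t * t) (pow_three' t ▸ t3)]
      exact (mul_inv_eq_iff_eq_mul.1 h3).symm
    refine ⟨_, fun e => hu (inv_mul_eq_one.1 e).symm, ?_, c5, k _ c5 (c4.inv_left.mul_left c2)⟩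
    rw [c1.inv_left.mul_pow, inv_pow, s3, t3, inv_one, one_mul]

/-- the hypotheses -/
structure Hyp (ι : W3 → G) : Prop extends JS0 Rot ι where
  hz : Cx (ι z0) ≤ img ι S0
  hc : IsConj (ι σ0) (ι z0)
  he : Cx (ι e3) ≤ normalizer (img ι J0 : Set G)
  hy : Cx (ι y0) ≤ normalizer (img ι J0 : Set G)

theorem S0_Rot : S0 ≤ Rot := S0_le.2.2.2.1

theorem rep_mem {i : ℕ} (hi : i < 6) : rep i ∈ Rot := S0_Rot (rep_data i hi).1

namespace Hyp

variable (h : Hyp ι)
include h

theorem hz' : Cx (ι z0) ≤ normalizer (img ι J0 : Set G) :=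
  h.hz.trans (h.norm ▸ im_mono S0_Rot)

theorem conj_rep {s : W3} (hs : cl s < 6) : IsConj (ι (rep (cl s))) (ι s) := by
  obtain ⟨-, h1, h2 | ⟨-, h2, h3⟩⟩ := cl_wit s hs
  · exact h.isConj h1 (rep_mem hs) h2
  · rw [h2]
    exact h.hc.symm.trans (h.isConj h1 (S0_Rot mems.2.2.2.2.2.2.1) h3)

theorem cube {i : ℕ} (hi : i < 6) : ι (rep i) ^ 3 = if i < 4 then 1 else ι z0 := by
  rw [← h.pow (rep_mem hi)]
  split_ifs with k
  · rw [((rep_data i hi).2.2.2.1 k).2, h.one]
  · rw [(rep_data i hi).2.2.2.2.1 (by omega)]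

theorem rep_inj {i j : ℕ} (hi : i < 6) (hj : j < 6) (e : IsConj (ι (rep i)) (ι (rep j))) :
    i = j := by
  obtain ⟨g, hg⟩ := isConj_iff.1 e
  have h3 : g * ι (rep i) ^ 3 * g⁻¹ = ι (rep j) ^ 3 := by rw [← conj_pow, hg]
  have z1 : ι z0 ≠ 1 := fun e => absurd ((h.eq_one_iff (rep_mem (i := 3) (by norm_num))).1 e)
    (by decide +kernel)
  rw [h.cube hi, h.cube hj] at h3
  obtain ⟨a, ha, e⟩ : ∃ a ∈ Rot, a * rep i * a⁻¹ = rep j := by
    split_ifs at h3 with k1 k2 k2
    · exact h.fusion ((rep_data i hi).2.2.2.1 k1).1 ((rep_data j hj).2.2.2.1 k2).1 hg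
    · exact absurd (by simpa using h3.symm) z1
    · exact absurd (by simpa using h3) z1
    · obtain ⟨a, ha, rfl⟩ := (h.mem_im S0_Rot).1 (h.hz (mem_Cx.2 (mul_inv_eq_iff_eq_mul.1 h3)))
      rw [h.conj (S0_Rot ha) (rep_mem hi), h.eq_iff (mul_mem (mul_mem (S0_Rot ha) (rep_mem hi))
        (inv_mem (S0_Rot ha))) (rep_mem hj)] at hg
      exact ⟨a, S0_Rot ha, hg⟩
  rw [← cl_conj i hi a ha, e, (rep_data j hj).2.1]

theorem conj_iff {i : ℕ} (hi : i < 6) {s : W3} (hs : s ∈ Rot) :
    IsConj (ι (rep i)) (ι s) ↔ cl s = i := by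
  refine ⟨fun e => ?_, fun e => e ▸ h.conj_rep (e ▸ hi)⟩
  have h9 : cl s < 6 := cl_lt s hs ((h.eq_one_iff (pow_mem hs 9)).1 (by
    obtain ⟨g, hg⟩ := isConj_iff.1 e
    rw [h.pow hs, ← hg, conj_pow, ← h.pow (rep_mem hi), (rep_data i hi).2.2.1, h.one]
    simp))
  exact h.rep_inj h9 hi ((h.conj_rep h9).trans e.symm)

theorem cent_rep {i : ℕ} (hi : i < 6) (h0 : i ≠ 0) :
    Cx (ι (rep i)) ≤ normalizer (img ι J0 : Set G) := by
  by_cases k : i < 4
  · interval_cases i
    exacts [absurd rfl h0, h.he, h.hy, h.hz']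
  · refine fun g hg => h.hz' (mem_Cx.2 ?_)
    have := h.cube hi
    rw [if_neg k] at this
    exact this ▸ (Commute.pow_right (mem_Cx.1 hg) 3).eq

theorem cent_J0 {x : W3} (hx : x ∈ J0) (h1 : x ≠ 1) :
    Cx (ι x) ≤ normalizer (img ι J0 : Set G) := fun g hg => by
  have h6 : cl x < 6 ∧ cl x ≠ 0 := by have := cl_J x hx h1; omega
  obtain ⟨-, h2, h3 | h3⟩ := cl_wit x h6.1
  · have h4 := h.mem_norm h2
    have h5 := h.cent_rep h6.1 h6.2 (show (ι (wit x))⁻¹ * g * ι (wit x) ∈ _ from mem_Cx.2 (by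
      have := mem_Cx.1 hg
      rw [← h.conj_eq h2 (rep_mem h6.1) h3] at this
      calc _ = (ι (wit x))⁻¹ * (g * (ι (wit x) * ι (rep (cl x)) * (ι (wit x))⁻¹)) * ι (wit x) := by
            group
        _ = _ := by rw [this]; group))
    simpa [mul_assoc] using mul_mem (mul_mem h4 h5) (inv_mem h4)
  · exact absurd hx h3.1

theorem card_cent {i : ℕ} (hi : i < 6) (h0 : i ≠ 0) :
    Nat.card (Cx (ι (rep i))) = TG.cnt fun a => a ∈ Rot ∧ a * rep i = rep i * a := by
  rw [← TG.card_subgroup (Rot ⊓ Cx (rep i)) (fun a => a ∈ Rot ∧ a * rep i = rep i * a)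
    fun a => and_congr_right fun _ => mem_Cx,
    ← h.card_im inf_le_left]
  congr 3
  refine le_antisymm (fun g hg => ?_) (im_le.2 fun a ha =>
    mem_Cx.2 ((h.comm_iff ha.1 (rep_mem hi)).2 (mem_Cx.1 ha.2)))
  obtain ⟨a, ha, rfl⟩ := h.exists_eq (h.cent_rep hi h0 hg)
  exact mem_im_of ⟨ha, mem_Cx.2 ((h.comm_iff ha (rep_mem hi)).1 (mem_Cx.1 hg))⟩

theorem card_pairs {i j : ℕ} (hi : i < 4) (hj : j < 4) (h2 : j ≠ 2) :
    Nat.card {p : G × G // IsConj (ι (rep i)) p.1 ∧ IsConj (ι (rep j)) p.2 ∧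
      p.1 * p.2 = ι (rep 2)} = TG.cnt fun s => cl (y0 * s⁻¹) = i ∧ cl s = j := by
  have hy : y0 ∈ Rot := rep_mem (i := 2) (by norm_num)
  have k : ∀ {s}, cl s = j → s ∈ Rot := fun e => (cl_wit _ (by omega)).1
  have k3 : ∀ {i} {p : G}, i < 4 → IsConj (ι (rep i)) p → p ^ 3 = 1 := fun hi e => by
    obtain ⟨g, rfl⟩ := isConj_iff.1 e
    rw [conj_pow, h.cube (by omega), if_pos hi]
    simp
  rw [← TG.card_subtype]
  refine (Nat.card_congr (Equiv.ofBijective (fun s => ⟨(ι (y0 * s.1⁻¹), ι s.1),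
    (h.conj_iff (by omega) (mul_mem hy (inv_mem (k s.2.2)))).2 s.2.1,
    (h.conj_iff (by omega) (k s.2.2)).2 s.2.2,
    h.mul_eq (mul_mem hy (inv_mem (k s.2.2))) (k s.2.2) (inv_mul_cancel_right _ _)⟩)
    ⟨fun s t e => Subtype.ext (h.inj (k s.2.2) (k t.2.2) (congrArg (·.1.2) e)), ?_⟩)).symm
  rintro ⟨⟨p, q⟩, h3, h4, h5⟩
  dsimp only at h3 h4 h5
  change p * q = ι y0 at h5
  obtain ⟨u, u1, u3, uq, uy⟩ := exists_central (a := q) (b := ι y0⁻¹) (k3 hj h4)
    (by rw [← h.pow (inv_mem hy), inv_pow, J0_cube _ mems.2.2.2.2.1, inv_one, h.one])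
    (by rw [h.inv hy, ← h5, mul_inv_rev, mul_inv_cancel_left, inv_pow, k3 hi h3, inv_one])
    fun e => h2 (((h.conj_iff (by omega) (inv_mem hy)).1 (h4.trans e)).symm.trans
      (by decide +kernel))
  rw [h.inv hy, Commute.inv_right_iff] at uy
  obtain ⟨a, ha, rfl⟩ := h.exists_eq (h.hy (mem_Cx.2 uy.eq))
  obtain ⟨s, hs, rfl⟩ := h.exists_eq (h.cent_J0 (gen_y0 a ha ((h.comm_iff ha hy).1 uy.eq)
    (h.nine_of (n := 1) ha u3)) (fun e => u1 (e ▸ h.one)) (mem_Cx.2 uq.symm.eq))
  obtain rfl : p = ι (y0 * s⁻¹) := by rw [h.mul hy (inv_mem hs), h.inv hs, ← h5]; simp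
  exact ⟨⟨s, (h.conj_iff (by omega) (mul_mem hy (inv_mem hs))).1 h3,
    (h.conj_iff (by omega) hs).1 h4⟩, rfl⟩

theorem exists_val (χ : IrrCharacter G) (i : ℕ) : ∃ n : ℤ, i < 6 → (χ : G → ℂ) (ι (rep i)) = n := by
  by_cases hi : i < 6
  · obtain ⟨n, hn⟩ := exists_int_of_pow_eq (isGenChar_of_isIrr χ.2) (ι (rep i)) fun k hk => by
      have h3 : k % 9 % 3 ≠ 0 := fun e => by
        have h1 : 3 ∣ Nat.card G := (show 3 ∣ _ by rw [h.card_im S0_Rot, cards.2.1]; norm_num).trans
          (img ι S0).card_subgroup_dvd_card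
        exact absurd (Nat.eq_one_of_dvd_coprimes hk (by omega) h1) (by norm_num)
      rw [← h.pow (rep_mem hi), pow_eq_pow_mod k (rep_data i hi).2.2.1]
      exact (classFun_eq_of_isConj (irr_isClassFunction χ) ((h.conj_iff hi
        (pow_mem (rep_mem hi) _)).2 ((rep_data i hi).2.2.2.2.2 _ (Nat.mod_lt _ (by norm_num)) h3))).symm
    exact ⟨n, fun _ => hn⟩
  · exact ⟨0, fun k => absurd k hi⟩

theorem dvd_sum {K : Subgroup W3} [DecidablePred (· ∈ K)] (hK : K ≤ S0) (χ : IrrCharacter G)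
    {V : ℕ → ℤ} (hV : ∀ i < 6, (χ : G → ℂ) (ι (rep i)) = V i) :
    (TG.cnt (· ∈ K) : ℤ) ∣ ∑ i ∈ Finset.range 6, (TG.cnt fun a => a ∈ K ∧ cl a = i : ℕ) * V i := by
  classical
  have hK' := hK.trans S0_Rot
  have h6 : ∀ a : K, cl a < 6 := fun a => cl_lt a (hK' a.2) (S0_nine a (hK a.2))
  obtain ⟨n, hn⟩ := exists_classInner_eq_nat
    (isCharacter_comp (h.toEmb.mono hK').hom (irr_isCharacter χ)) isCharacter_one
  have h1 := card_mul_classInner (fun a : K => (χ : G → ℂ) ((h.toEmb.mono hK').hom a)) fun _ => 1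
  rw [hn, TG.card_subgroup K _ fun _ => Iff.rfl] at h1
  refine ⟨n, Int.cast_injective (α := ℂ) ?_⟩
  push_cast
  rw [h1, ← Finset.sum_fiberwise_of_maps_to (g := fun a : K => cl a) (t := Finset.range 6)
    fun a _ => Finset.mem_range.2 (h6 a)]
  refine Finset.sum_congr rfl fun i hi => ?_
  rw [Finset.sum_congr rfl (g := fun _ => (V i : ℂ)) fun a ha => by
    rw [map_one, mul_one, Emb.hom_apply, ← hV i (Finset.mem_range.1 hi),
      ← (Finset.mem_filter.1 ha).2]
    exact (classFun_eq_of_isConj (irr_isClassFunction χ) (h.conj_rep (h6 a))).symm,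
    Finset.sum_const, nsmul_eq_mul, ← TG.card_subtype, ← Fintype.card_subtype,
    ← Nat.card_eq_fintype_card,
    Nat.card_congr (Equiv.subtypeSubtypeEquivSubtypeInter (· ∈ K) fun a => cl a = i)]

theorem false : False := by
  classical
  choose V hV using h.exists_val
  choose d d0 hd hd1 using fun χ : IrrCharacter G => exists_irr_degree χ.2
  choose t ht using hd
  have hm := h.sylow.not_dvd
  have hG := (img ι S0).card_mul_index
  rw [relIndex_top_right] at hm
  rw [h.card_im S0_Rot, cards.2.1] at hG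
  have V0 : ∀ χ, V χ 0 = d χ := fun χ => Int.cast_injective (α := ℂ) (by
    rw [← hV χ 0 (by norm_num), rep, h.one, hd1, Int.cast_natCast])
  have V1 : ∀ i < 6, V (irrOne G) i = 1 := fun i hi => Int.cast_injective (α := ℂ) (by
    rw [← hV _ i hi, irrOne_apply, Int.cast_one])
  have sf : ∀ i < 6, i ≠ 0 → ∑ χ, V χ i * V χ i =
      (TG.cnt fun a => a ∈ Rot ∧ a * rep i = rep i * a : ℕ) := fun i hi h0 => by
    rw [col_self_int _ _ fun χ => hV χ i hi, h.card_cent hi h0]
  have ne : ∀ i < 6, ∀ j < 6, i ≠ j → ∑ χ, V χ i * V χ j = 0 := fun i hi j hj e =>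
    col_ne_int (fun k => e (h.rep_inj hi hj k)) _ _ (fun χ => hV χ i hi) fun χ => hV χ j hj
  have tr : ∀ i < 4, ∀ j < 4, i ≠ 0 → j ≠ 0 → j ≠ 2 → ∑ χ, V χ i * V χ j * V χ 2 * t χ =
      ((TG.cnt fun s => cl (y0 * s⁻¹) = i ∧ cl s = j) *
        (TG.cnt fun a => a ∈ Rot ∧ a * rep i = rep i * a) *
        TG.cnt fun a => a ∈ Rot ∧ a * rep j = rep j * a : ℕ) := fun i hi j hj i0 j0 j2 => by
    have := class_const_int _ _ _ _ _ _ d (fun χ => hV χ i (by omega)) (fun χ => hV χ j (by omega))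
      (fun χ => hV χ 2 (by norm_num)) hd1
    rw [h.card_pairs hi hj j2, h.card_cent (by omega) i0, h.card_cent (by omega) j0,
      Finset.mul_sum] at this
    refine Int.cast_injective (α := ℚ) ?_
    push_cast
    refine Eq.trans (Finset.sum_congr rfl fun χ _ => ?_) this
    have := (d0 χ).ne'
    rw [ht χ]
    push_cast
    field_simp
  have ds : ∀ (K : Subgroup W3) [DecidablePred (· ∈ K)], K ≤ S0 → ∀ n n1 n2 n3 n4 n5 : ℕ,
      TG.cnt (· ∈ K) = n ∧ (List.range 6).map (fun i => TG.cnt fun a => a ∈ K ∧ cl a = i) =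
        [1, n1, n2, n3, n4, n5] → ∀ χ, (n : ℤ) ∣ d χ + n1 * V χ 1 + n2 * V χ 2 + n3 * V χ 3 +
          n4 * V χ 4 + n5 * V χ 5 := fun K _ hK n n1 n2 n3 n4 n5 e χ => by
    have := h.dvd_sum hK χ (hV χ)
    simp only [List.range_succ, List.range_zero, List.nil_append, List.cons_append, List.map_cons,
      List.map_nil, List.cons.injEq] at e
    simpa [Finset.sum_range_succ, e, V0] using this
  refine Ph.no_sol (m := (img ι S0).index) (by exact_mod_cast hm) (V · 1) (V · 2) (V · 3) (V · 4)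
    (V · 5) (d ·) (t ·) (irrOne G) ⟨V1 1 (by norm_num), V1 2 (by norm_num), V1 3 (by norm_num),
    V1 4 (by norm_num), V1 5 (by norm_num)⟩
    (fun χ => by exact_mod_cast (mul_comm _ _).trans ((ht χ).symm.trans hG.symm))
    (ds S0 le_rfl 81 6 12 26 18 18 (by decide +kernel))
    (fun χ => by simpa using ds J0 J0_le_S0 27 6 12 8 0 0 (by decide +kernel) χ)
    (fun χ => by simpa using ds R0 R0_le 9 0 0 8 0 0 (by decide +kernel) χ)
    (fun χ => by simpa using ds J00 leJ00 9 0 6 2 0 0 (by decide +kernel) χ)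
    (fun χ => by simpa using ds B0 leB0 9 4 4 0 0 0 (by decide +kernel) χ)
    (fun χ => by simpa using ds X0 leX0 9 0 0 2 6 0 (by decide +kernel) χ)
    ((sf 1 (by norm_num) (by norm_num)).trans (by decide +kernel))
    ((sf 2 (by norm_num) (by norm_num)).trans (by decide +kernel))
    ((sf 3 (by norm_num) (by norm_num)).trans (by decide +kernel))
    ((sf 4 (by norm_num) (by norm_num)).trans (by decide +kernel))
    ((sf 5 (by norm_num) (by norm_num)).trans (by decide +kernel))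
    (ne 1 (by norm_num) 2 (by norm_num) (by norm_num)) (ne 1 (by norm_num) 3 (by norm_num) (by norm_num))
    (ne 1 (by norm_num) 4 (by norm_num) (by norm_num)) (ne 1 (by norm_num) 5 (by norm_num) (by norm_num))
    (ne 2 (by norm_num) 3 (by norm_num) (by norm_num)) (ne 2 (by norm_num) 4 (by norm_num) (by norm_num))
    (ne 2 (by norm_num) 5 (by norm_num) (by norm_num)) (ne 3 (by norm_num) 4 (by norm_num) (by norm_num))
    (ne 3 (by norm_num) 5 (by norm_num) (by norm_num)) (ne 4 (by norm_num) 5 (by norm_num) (by norm_num))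
    ((tr 1 (by norm_num) 1 (by norm_num) (by norm_num) (by norm_num) (by norm_num)).trans
      (by decide +kernel))
    ((tr 2 (by norm_num) 1 (by norm_num) (by norm_num) (by norm_num) (by norm_num)).trans
      (by decide +kernel))
    ((tr 2 (by norm_num) 3 (by norm_num) (by norm_num) (by norm_num) (by norm_num)).trans
      (by decide +kernel))
    ((tr 3 (by norm_num) 3 (by norm_num) (by norm_num) (by norm_num) (by norm_num)).trans
      (by decide +kernel))

end Hyp

end Pg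

theorem phantom {G : Type*} [Group G] [Finite G] {ι : W3 → G} (h : JS Rot ι)
    (hz : Cx (ι z0) ≤ img ι S0) (hc : IsConj (ι σ0) (ι z0))
    (he : Cx (ι e3) ≤ normalizer (img ι J0 : Set G)) : False :=
  Pg.Hyp.false ⟨h.toJS0, hz, hc, he, h.cent_le mems.2.2.2.2.1 gen_y0 (by decide +kernel)⟩

end CfsgLib.Rec3
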