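import Cfsg.Agent.Lib.Rec3.S8b
import Cfsg.Agent.Lib.SylT.PC
import Cfsg.Agent.Lib.PGroup.Basic

/-!
# 3-local recognition of `S₈` (plans/REC3A.md, P3): the case `ρ ∼ s`, the subgroup `A₅ × A₅`
-/

set_option autoImplicit false
set_option Elab.async false
set_option linter.unusedSectionVars false
set_option synthInstance.maxSize 100000

namespace CfsgLib.Rec3.S8

open Subgroup Cfsg CfsgLib.Tech CfsgLib.PComp CfsgLib.W2 Function PG

/-- `⟨r, s, ρ⟩` -/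
abbrev InA (a : H0) : Prop := a * r = r * a ∧ a * s = s * a ∧ a * ρ = ρ * a
/-- `A₅` -/
abbrev InK (a : H0) : Prop := a.1 = 1 ∧ a.2 ∈ alt 5

theorem A_form : ∀ a, InA a → ∃ i < 2, ∃ j < 2, ∃ k < 2, a = r ^ i * s ^ j * ρ ^ k := by
  decide +kernel

variable {G : Type*} [Group G] [Finite G] {φ : H0 →* G} {t g n u w x : G} {a b : H0}
  {M : Subgroup G}

/-- the embedding of `A₅` -/
noncomputable def κ (φ : H0 →* G) : AG 5 →* G := φ.comp ((MonoidHom.inr _ _).comp (alt 5).subtype)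

omit [Finite G] in
theorem mem_K : g ∈ (κ φ).range ↔ ∃ a, InK a ∧ φ a = g :=
  ⟨fun ⟨b, e⟩ => ⟨(1, b.1), ⟨rfl, b.2⟩, e⟩, fun ⟨⟨_, b⟩, ⟨rfl, hb⟩, e⟩ => ⟨⟨b, hb⟩, e⟩⟩

omit [Finite G] in
theorem map_K (h : InK a := by decide +kernel) : φ a ∈ (κ φ).range := mem_K.2 ⟨a, h, rfl⟩

omit [Finite G] in
theorem K_le (h1 : φ z' ∈ M) (h2 : φ s ∈ M) (h3 : φ v ∈ M) : (κ φ).range ≤ M := by
  rintro _ ⟨b, rfl⟩
  have k : ∀ {a a'}, φ a ∈ M → a = a' → φ a' ∈ M := fun e e' => e' ▸ e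
  refine alt_le (S := M.comap (φ.comp (.inr _ _))) (a := 0) (b := 1) (by decide) (fun j h0 h1' => ?_) b.2
  fin_cases j
  exacts [absurd rfl h0, absurd rfl h1', k h1 (by decide +kernel),
    k (a := z' * v * z' * s * v * z') (by simp only [map_mul]; apply_rules [mul_mem]) (by decide +kernel),
    k (a := z' * s * v * z' * v * z') (by simp only [map_mul]; apply_rules [mul_mem]) (by decide +kernel)]

theorem nK (a : H0) : φ a ∈ normalizer ((κ φ).range : Set G) := mem_normalizer_of_forall (by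
  rintro _ ⟨b, rfl⟩
  exact ⟨⟨a.2 * b * a.2⁻¹, Normal.conj_mem inferInstance _ b.2 _⟩, by
    simp only [← map_inv, κ, MonoidHom.comp_apply, ← map_mul]; congr 1; ext <;> simp⟩)

omit [Finite G] in
theorem K_le_Cx (h : a.2 = 1 := by decide +kernel) : (κ φ).range ≤ Cx (φ a) := by
  rintro _ ⟨b, rfl⟩
  exact map_mem_Cx (Prod.ext (by simp) (by simp [h]))

omit [Finite G] in
theorem Cm.pow {T : Type*} [Group T] {φ : T →* G} {a b : T} (e : Cm φ g a b) (k : ℕ) :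
    Cm φ g (a ^ k) (b ^ k) := by rw [Cm, map_pow, map_pow, e, conj_pow]

omit [Finite G] in
theorem S6.fA {f : Cx (φ r) →* PG 6} (hf : S6 φ f) (ha : InA a) : ∃ j < 2, ∃ k < 2,
    Fv f (φ a) (pl [0, 1, 2, 4, 3, 5] ^ j * pl [1, 0, 2, 3, 4, 5] ^ k) := by
  obtain ⟨i, -, j, hj, k, hk, rfl⟩ := A_form a ha
  have e : ∀ {g p}, Fv f g p → ∀ k : ℕ, Fv f (g ^ k) (p ^ k) := fun ⟨hg, e⟩ k =>
    ⟨pow_mem hg k, by rw [← e, ← map_pow]; rfl⟩
  refine ⟨j, hj, k, hk, (((e hf.fr i).mul (e (hf.fρ'.mul hf.fr) j)).mul (e hf.fρ k)).of_eq ?_ (by simp)⟩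
  rw [map_mul, map_mul, map_pow, map_pow, map_pow, show s = ρ' * r by decide +kernel, map_mul]

namespace St

variable (h : St φ t) (h1 : Cm φ t ρ s)
include h h1

theorem not_f {f : Cx (φ r) →* PG 6} (hf : S6 φ f) : False := by
  have fs : Fv f (φ s) (pl [0, 1, 2, 4, 3, 5]) :=
    (hf.fρ'.mul hf.fr).of_eq (by rw [← map_mul]; exact congrArg φ (by decide +kernel))
  obtain ⟨g, hg⟩ := hf.surj (pl [0, 1, 3, 2, 5, 4])
  have e1 : Cm φ g ρ ρ := (h.uq hf hf.fρ ((hg.conj hf.fρ).of_eq rfl) (isConj_iff.2 ⟨_, rfl⟩)).symm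
  have e2 : Cm φ g r r := cm_fix.2 hg.mem
  obtain ⟨x, ex⟩ : ∃ x, x = g * φ s * g⁻¹ := ⟨_, rfl⟩
  have hx : Fv f x (pl [0, 1, 5, 3, 4, 2]) := (hg.conj fs).of_eq ex.symm
  have hc : ∀ {u p}, Fv f u p → p * pl [0, 1, 5, 3, 4, 2] * p⁻¹ = pl [0, 1, 5, 3, 4, 2] →
      u * x * u⁻¹ = x := fun hu e => h.uq hf hx ((hu.conj hx).of_eq rfl e) (isConj_iff.2 ⟨_, rfl⟩)
  obtain ⟨p, ht⟩ := Fv.ex f (cm_fix.1 h.tr)
  obtain rfl := (by decide +kernel : ∀ p : PG 6, p * p = 1 →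
    p * pl [1, 2, 0, 3, 4, 5] * p⁻¹ = pl [0, 1, 2, 4, 5, 3] →
    p * pl [1, 0, 2, 3, 4, 5] * p⁻¹ = pl [0, 1, 2, 4, 3, 5] → pl [3, 4, 5, 0, 1, 2] = p) p
    (ht.sq h.tt) ((ht.conj hf.fz).eq hf.fz' (Eq.symm h.tz)) ((ht.conj hf.fρ).eq fs (Eq.symm h1))
  have k1 : ∀ {n a b c}, Cm φ n a b → n * x * n⁻¹ = φ c * x → IsConj (φ a * x) (φ (b * c) * x) :=
    fun {n a b c} e e' => isConj_iff.2 ⟨n, by rw [← conj_mul, e', ← e, map_mul, mul_assoc]⟩
  have k2 : ∀ {a b}, Cm φ t a b → IsConj (φ a * x) (φ b * x) := fun e => by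
    simpa using k1 (c := 1) e (by simpa using hc ht (by decide +kernel))
  have k3 : ∀ {a}, Cm φ g a a → IsConj (φ (a * s)) (φ a * x) := fun e =>
    isConj_iff.2 ⟨g, by rw [map_mul, ← conj_mul, ← e, ex]⟩
  have c0 : IsConj (φ r) (φ (r * s)) := isConj_of_eq v (by decide +kernel)
  have c1 : IsConj (φ r) (φ r * x) := c0.trans (k3 e2)
  have c2 : IsConj (φ r) (φ (r * ρ) * x) := ((c0.trans (h.tr.mul (h.ts h1)).isConj).trans
    (isConj_of_eq v (by decide +kernel))).trans (k3 (e2.mul e1))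
  have c3 : IsConj (φ r) (φ (r * s) * x) := c2.trans (k2 (h.tr.mul h1))
  obtain ⟨k, hk⟩ := hf.surj (pl [0, 3, 2, 1, 4, 5])
  have c4 : ∀ {w}, Fv f w (pl [1, 0, 5, 4, 3, 2]) → ¬ IsConj w (φ r) ∧ ¬ IsConj w (φ s) := fun hw => by
    have e3 := (Cm.of_eq (t := r) (p := z) (q := z) (by decide +kernel)).trans h.tz
    have e4 := (Cm.of_eq (t := r) (p := z') (q := z') (by decide +kernel)).trans h.tz'
    rcases hf.ker ((hk.conj ht).of_eq rfl) hw with rfl | rfl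
    · exact ⟨fun e => h.ur h.tz h.tz' ((isConj_iff.2 ⟨k, rfl⟩).trans e),
        fun e => h.us h.tz h.tz' ((isConj_iff.2 ⟨k, rfl⟩).trans e)⟩
    · have e5 : IsConj (t * φ r) (k * t * k⁻¹ * φ r) :=
        isConj_iff.2 ⟨k, by rw [← conj_mul, mem_Cx'.1 hk.mem]⟩
      exact ⟨fun e => h.ur e3 e4 (e5.trans e), fun e => h.us e3 e4 (e5.trans e)⟩
  have c5 := c4 ((((hf.fr.mul fs).mul hf.fρ).mul hx).of_eq (n := φ (r * s * ρ) * x) (by simp))
  have c6 := c4 (((fs.mul hf.fρ).mul hx).of_eq (n := φ (s * ρ) * x) (by simp))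
  have c7 : IsConj (φ s) (φ v * x * (φ v)⁻¹) := (isConj_iff.2 ⟨g, ex.symm⟩).trans (isConj_iff.2 ⟨_, rfl⟩)
  have k4 : ∀ a, InA a → x ∈ Cx (φ a) := fun a ha => by
    obtain ⟨j, hj, k, hk, e⟩ := hf.fA ha
    exact Cx_comm.1 (mem_Cx'.2 (hc e (by clear e; revert j k; decide +kernel)))
  have k5 : ∀ a, InA (v * a * v⁻¹) → φ v * x * (φ v)⁻¹ ∈ Cx (φ a) := fun a ha => by
    rw [show φ a = _ from Cm.of_eq (t := v) (p := v * a * v⁻¹) (by
      rw [inv_eq_of_mul_eq_one_left (show v * v = 1 by decide +kernel)]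
      simp [← mul_assoc, show v * v = 1 by decide +kernel, mul_assoc _ v v])]
    exact conj_mem_Cx.2 (k4 _ ha)
  obtain ⟨p, hp⟩ := Fv.ex f (k5 r (by decide +kernel))
  obtain ⟨a, ha, e | e⟩ : ∃ a, InA a ∧ (φ v * x * (φ v)⁻¹ = φ a ∨ φ v * x * (φ v)⁻¹ = φ a * x) := by
    obtain ⟨j, hj, k, hk, e⟩ := (by decide +kernel : ∀ p : PG 6,
      p * pl [0, 1, 2, 4, 3, 5] = pl [0, 1, 2, 4, 3, 5] * p →
      p * pl [1, 0, 2, 3, 4, 5] = pl [1, 0, 2, 3, 4, 5] * p → ∃ j < 2, ∃ k < 2,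
        p = pl [0, 1, 2, 4, 3, 5] ^ j * pl [1, 0, 2, 3, 4, 5] ^ k ∨
        p = pl [0, 1, 2, 4, 3, 5] ^ j * pl [1, 0, 2, 3, 4, 5] ^ k * pl [0, 1, 5, 3, 4, 2]) p
      (hp.comm fs (mem_Cx.1 (k5 s (by decide +kernel))))
      (hp.comm hf.fρ (mem_Cx.1 (k5 ρ (by decide +kernel))))
    have h2 : InA (s ^ j * ρ ^ k) ∧ InA (s ^ j * ρ ^ k * r) := by clear e; revert j k; decide +kernel
    obtain ⟨j', hj', k', hk', e3⟩ := hf.fA h2.1
    have e4 : Fv f (φ (s ^ j * ρ ^ k)) (pl [0, 1, 2, 4, 3, 5] ^ j * pl [1, 0, 2, 3, 4, 5] ^ k) := by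
      interval_cases j <;> interval_cases k
      exacts [Fv.one.of_eq (by simp), hf.fρ.of_eq (by simp), fs.of_eq (by simp),
        (fs.mul hf.fρ).of_eq (by simp)]
    rcases e with rfl | rfl
    · exact (hf.ker e4 hp).elim (fun e => ⟨_, h2.1, .inl e⟩)
        fun e => ⟨_, h2.2, .inl (e.trans (map_mul ..).symm)⟩
    · exact (hf.ker (e4.mul hx) hp).elim (fun e => ⟨_, h2.1, .inr e⟩) fun e => ⟨_, h2.2, .inr (by
        rw [e, mul_assoc, mem_Cx.1 hx.mem, map_mul _ _ r, mul_assoc])⟩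
  · obtain ⟨j, hj, k, hk, e3⟩ := hf.fA ((by decide +kernel : ∀ a, InA a → InA (v⁻¹ * a * v)) a ha)
    exact absurd (hx.eq e3 (by rw [map_mul, map_mul, ← e]; simp [mul_assoc])) (by
      clear e3; revert j k; decide +kernel)
  rw [e] at c7
  have c8 := k1 (Cm.of_eq (t := v) (p := r * s * ρ) (q := r * ρ) (by decide +kernel)) e
  rcases (by decide +kernel : ∀ a, InA a → a = r ∨ a = r * ρ ∨ a = r * s ∨ a = r * s * ρ ∨ a = s * ρ ∨
    r * ρ * a = r * ρ ∨ r * ρ * a = r ∨ a = s) a ha with rfl | rfl | rfl | rfl | rfl | e3 | e3 | rfl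
  exacts [h.sr (c7.trans c1.symm), h.sr (c7.trans c2.symm), h.sr (c7.trans c3.symm), c5.2 c7.symm,
    c6.2 c7.symm, c5.1 ((e3 ▸ c8).trans c2.symm), c5.1 ((e3 ▸ c8).trans c1.symm),
    c6.2 ((((show s * ρ * s = ρ by decide +kernel) ▸ k1 (Cm.of_eq (t := v) (p := s * ρ) (q := s * ρ)
      (by decide +kernel)) e).trans (k2 h1)).trans c7.symm)]

theorem XN : Cx (φ r) = normalizer (D0.map φ : Set G) :=
  h.alt.resolve_right fun ⟨_, hf⟩ => h.not_f h1 hf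

theorem cA (e1 : Cm φ g r r) (e2 : Cm φ g s s) (e3 : Cm φ g ρ ρ) : ∃ a, InA a ∧ φ a = g := by
  rcases h.memN (h.XN h1 ▸ cm_fix.1 e1) with ⟨a, rfl⟩ | ⟨a, e⟩
  · exact ⟨a, ⟨h.comm (mem_Cx.1 (cm_fix.1 e1)), h.comm (mem_Cx.1 (cm_fix.1 e2)),
      h.comm (mem_Cx.1 (cm_fix.1 e3))⟩, rfl⟩
  · exact absurd ((cm_iff h.inj).1 (e ▸ e3.trans h1))
      ((by decide +kernel : ∀ a : H0, a * ρ * a⁻¹ ≠ s) a)

theorem vv : φ v * (t * φ v * t⁻¹) = t * φ v * t⁻¹ * φ v := by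
  have k : ∀ {a b a' b'}, Cm φ t a a' → v * a' * v⁻¹ = b' → Cm φ t b' b → Cm φ (t * φ v * t⁻¹) a b :=
    fun e1 e2 e3 => by simpa only [h.ti, mul_assoc] using (e1.trans (Cm.of_eq e2)).trans e3
  have hv : φ v * φ v = 1 := sq_map
  have hw : t * φ v * t⁻¹ * (t * φ v * t⁻¹) = 1 := by rw [conj_mul, hv]; simp
  have ht : t * (t * φ v * t⁻¹) * t⁻¹ = φ v := by
    rw [h.ti, ← mul_assoc, ← mul_assoc, h.tt, one_mul, mul_assoc, h.tt, mul_one]
  have e1 := k h.tr (by decide +kernel : _ = r * s) (h.tr.mul (h.ts h1))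
  have e2 := k (h.ts h1) (by decide +kernel : _ = ρ) h1
  have e3 := k h1 (by decide +kernel : _ = s) (h.ts h1)
  have e4 := k h.tz' (by decide +kernel : _ = z) h.tz
  generalize ew : t * φ v * t⁻¹ = w at hw ht e1 e2 e3 e4 ⊢
  have hvi := inv_eq_of_mul_eq_one_left hv
  have hwi := inv_eq_of_mul_eq_one_left hw
  have e5 := e2.trans (Cm.of_eq (t := v) (q := s) (by decide +kernel))
  have e6 := e3.trans (Cm.of_eq (t := v) (q := ρ) (by decide +kernel))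
  obtain ⟨a, ha, e⟩ := h.cA h1 ((e1.trans (Cm.of_eq (t := v) (q := r * s * ρ) (by decide +kernel))).trans
    (((e1.mul e2).mul e3).trans (Cm.of_eq (t := v) (q := r) (by decide +kernel)))) (e5.trans e5)
    (e6.trans e6)
  have e7 : φ a⁻¹ = w * φ v * (w * φ v) := by
    simp only [map_inv, e, mul_inv_rev, hvi, hwi, mul_assoc]
  have e8 : Cm φ t a a⁻¹ := by rw [Cm, e7, e, ← conj_mul, ← conj_mul, ew, ht]
  rcases (by decide +kernel : ∀ a, InA a → v * a * v⁻¹ = a⁻¹ → a = 1 ∨ a = s ∨ a = ρ ∨ a = ρ * s) a ha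
    ((cm_iff h.inj).1 (by simp only [Cm, e7, e, hvi, ← mul_assoc, hv, one_mul])) with rfl | rfl | rfl | rfl
  · rw [← inv_eq_of_mul_eq_one_left (e.symm.trans (map_one φ)), mul_inv_rev, hvi, hwi]
  · exact absurd ((e8.eq_iff h.inj (h.ts h1)).2 rfl) (by decide +kernel)
  · exact absurd ((e8.eq_iff h.inj h1).2 rfl) (by decide +kernel)
  have e9 : Cm φ w v (v * (ρ * s)) := by
    rw [Cm, map_mul, e]
    simp only [hwi, ← mul_assoc, hv, one_mul]
  exact absurd (((Cm.pow (e9.mul e4) 5).ne_one h.inj).2 (by decide +kernel)) (by decide +kernel)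

theorem commK (hu : u ∈ (κ φ).range) (hw : w ∈ cj t (κ φ).range) : u * w = w * u := by
  have k : ∀ {x}, (κ φ).range ≤ Cx x → x ∈ centralizer ((κ φ).range : Set G) :=
    fun e u hu => mem_Cx.1 (e hu)
  have k' : ∀ {a b}, Cm φ t a b → a.2 = 1 → φ b ∈ cj t (centralizer ((κ φ).range : Set G)) :=
    fun e e' => e ▸ conj_mem_cj.2 (k (K_le_Cx e'))
  have e : ∀ {a b}, Cm φ t a b → a * v = v * a → φ b ∈ Cx (t * φ v * t⁻¹) :=
    fun e e' => e ▸ conj_mem_Cx.2 (map_mem_Cx e')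
  have h2 := cj_mono t (K_le (k' h.tz (by decide +kernel)) (k' h1 (by decide +kernel))
    (mem_cj.2 (by
      rw [h.ti]; nth_rewrite 2 [← h.ti]
      exact k (K_le (e h.tz (by decide +kernel)) (e h1 (by decide +kernel)) (mem_Cx.2 (h.vv h1)))))) hw
  rw [← cj_mul, h.tt, cj_one] at h2
  exact h2 u hu

end St

/-- the Sylow 2-subgroup -/
structure Tw (φ : H0 →* G) (t : G) (τ : T8 →* G) : Prop extends St φ t where
  h1 : Cm φ t ρ s
  e0 : τ T8.e0 = φ v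
  e1 : τ T8.e1 = φ (v * s)
  v1 : τ T8.v1 = φ r
  v2 : τ T8.v2 = t

theorem St.exists_tau (h : St φ t) (h1 : Cm φ t ρ s) : ∃ τ, Tw φ t τ := by
  have m : ∀ {a b c d : H0}, a * b = c * d → φ a * φ b = φ c * φ d :=
    fun e => by simpa only [map_mul] using congrArg φ e
  have m' : ∀ {a b : H0}, r * a = b * r → φ r * (t * φ a * t⁻¹) = t * φ b * t⁻¹ * φ r := fun e => by
    rw [show φ r = _ from h.tr, conj_mul, conj_mul, m e]
  have c : ∀ a b, InK a → InK b → φ a * (t * φ b * t⁻¹) = t * φ b * t⁻¹ * φ a := fun a b ha hb =>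
    h.commK h1 (map_K ha) (conj_mem_cj.2 (map_K hb))
  have q : ∀ {a : H0}, a * a = 1 → t * φ a * t⁻¹ * (t * φ a * t⁻¹) = 1 := fun e => by
    rw [conj_mul, sq_map e]; simp
  have tt : ∀ x, t * (t * x * t⁻¹) = x * t := fun x => by
    rw [h.ti, ← mul_assoc, ← mul_assoc, h.tt, one_mul]
  obtain ⟨τ, e⟩ := SylT.exists_hom_pc (n := 6) (sq := fun _ => [])
    (cj := fun i j => ([[0, 1, 4, 5, 2, 3], [0, 0, 3, 2, 5, 4]].getD i []).getD j j :: [])
    (x := fun i => [t, φ r, φ v, φ (v * s), t * φ v * t⁻¹, t * φ (v * s) * t⁻¹].getD i 1)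
    (g := fun i => [T8.v2, T8.v1, T8.e0, T8.e1, T8.e2, T8.e3].getD i 1) (by decide) (fun i hi => by
      constructor
      · interval_cases i
        exacts [h.tt, sq_map, sq_map, sq_map, q (by decide +kernel), q (by decide +kernel)]
      · intro j hj hij
        simp only [SylT.ew, List.map_cons, List.map_nil, List.prod_cons, List.prod_nil, mul_one]
        interval_cases i <;> interval_cases j
        exacts [mem_Cx.1 (cm_fix.1 h.tr), (inv_mul_cancel_right ..).symm, (inv_mul_cancel_right ..).symm,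
          tt _, tt _, m (by decide +kernel), m (by decide +kernel), m' (by decide +kernel),
          m' (by decide +kernel), m (by decide +kernel), c _ _ (by decide +kernel) (by decide +kernel),
          c _ _ (by decide +kernel) (by decide +kernel), c _ _ (by decide +kernel) (by decide +kernel),
          c _ _ (by decide +kernel) (by decide +kernel), by
            change t * _ * t⁻¹ * (t * _ * t⁻¹) = t * _ * t⁻¹ * (t * _ * t⁻¹)
            rw [conj_mul, conj_mul, m (by decide +kernel : v * (v * s) = v * s * v)]])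
    (by decide +kernel) T8.card_T.ge fun S hS => TG.eq_top_of_genB (gs := [T8.e0, T8.v1, T8.v2])
      (D := 4) (by decide +kernel) (by
        simp only [List.forall_mem_cons]
        exact ⟨hS 2 (by norm_num), hS 1 (by norm_num), hS 0 (by norm_num), by simp⟩)
  exact ⟨τ, h, h1, e 2 (by norm_num), e 3 (by norm_num), e 1 (by norm_num), e 0 (by norm_num)⟩

end CfsgLib.Rec3.S8
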