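import Cfsg.Agent.Lib.Rec3.S8d
import Cfsg.Agent.Lib.Class2.GoldApp

/-!
# 3-local recognition of `S₈` (plans/REC3A.md, P3): the case `ρ ∼ s`, `A₅ × A₅` is normal
-/

set_option autoImplicit false
set_option Elab.async false
set_option linter.unusedSectionVars false
set_option synthInstance.maxSize 100000

namespace CfsgLib.Rec3.S8

open Subgroup Cfsg CfsgLib.Tech CfsgLib.PComp CfsgLib.W2 Function PG

abbrev InV (p : T8) : Prop := p.v < 4
abbrev InW (p : T8) : Prop := Nat.land p.v 51 = 0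
/-- the four-group in the second factor -/
noncomputable def W0 : Subgroup T8 := TG.sub InW (by decide +kernel)
noncomputable def s2 : T8 := TG.o 12
/-- the four-group of `A₅` which fixes the point `i` -/
abbrev InU (i : ℕ) (a : H0) : Prop := InK a ∧ a * a = 1 ∧ Mathieu.app a.2.1 i = i

variable {G : Type*} [Group G] [Finite G] {φ : H0 →* G} {t g n u w x : G} {a b : H0}
  {M : Subgroup G} {τ : T8 →* G} {p : T8}

/-- `A₅ × A₅` -/
noncomputable abbrev NN (φ : H0 →* G) (t : G) : Subgroup G := (κ φ).range ⊔ cj t (κ φ).range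

namespace Tw

variable (h : Tw φ t τ)
include h

theorem ts' : τ T8.f1 = φ s := by
  rw [show T8.f1 = T8.e0 * T8.e1 by decide +kernel, map_mul, h.e0, h.e1, ← map_mul]
  exact congrArg φ (by decide +kernel)

theorem cj2 (p : T8) : τ (T8.v2 * p * T8.v2⁻¹) = t * τ p * t⁻¹ := by
  rw [map_mul, map_mul, map_inv, h.v2]

theorem tρ' : τ s2 = φ ρ := by
  rw [show s2 = T8.v2 * T8.f1 * T8.v2⁻¹ by decide +kernel, h.cj2, h.ts', ← h.ts h.h1]

theorem tc : τ T8.z = φ (ρ * s) := by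
  rw [show T8.z = s2 * T8.f1 by decide +kernel, map_mul, h.tρ', h.ts', map_mul]

theorem tinj : Injective τ := by
  rw [← MonoidHom.ker_eq_bot_iff]
  by_contra hn
  have := (IsPGroup.of_card (p := 2) (n := 6) T8.card_T).isNilpotent
  obtain ⟨c, h1, h2, h3⟩ := PGroup.exists_mem_center_of_normal τ.ker hn
  have h4 := fun s => (mem_center_iff.1 h2 s).symm
  rcases (by decide +kernel : ∀ p : T8, p * T8.e0 = T8.e0 * p → p * T8.v1 = T8.v1 * p →
    p * T8.v2 = T8.v2 * p → p = 1 ∨ p = T8.z) c (h4 _) (h4 _) (h4 _) with e | rfl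
  exacts [h3 e, ne_one_of_ord (h.ord2 (a := ρ * s)) (h.tc.symm.trans h1)]

theorem card_T : Nat.card τ.range = 64 := by
  rw [← Nat.card_congr (MonoidHom.ofInjective h.tinj).toEquiv, T8.card_T]

theorem card_TC (p : T8) : Nat.card (τ.range ⊓ Cx (τ p) : Subgroup G) = TG.cnt fun x => x * p = p * x := by
  rw [τ.range_eq_map, map_inf_Cx h.tinj, card_map_of_injective h.tinj]
  exact TG.card_subgroup _ _ fun x => by simp [mem_Cx]

theorem two : IsPGroup 2 τ.range := IsPGroup.of_card (n := 6) h.card_T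

theorem tV (hp : InV p) : τ p ∈ (κ φ).range ∧ (p ≠ 1 → ∃ k ∈ (κ φ).range, k * τ p * k⁻¹ = φ s) := by
  have k : ∀ {a}, τ p = φ a → InK a → (∃ b, InK b ∧ b * a * b⁻¹ = s) →
      τ p ∈ (κ φ).range ∧ (p ≠ 1 → ∃ k ∈ (κ φ).range, k * τ p * k⁻¹ = φ s) :=
    fun e ha ⟨b, hb, e1⟩ => e ▸ ⟨map_K ha, fun _ => ⟨_, map_K hb, Eq.symm (Cm.of_eq e1)⟩⟩
  rcases (by decide +kernel : ∀ p, InV p → p = 1 ∨ p = T8.e0 ∨ p = T8.e1 ∨ p = T8.f1) p hp with
    rfl | rfl | rfl | rfl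
  exacts [⟨map_one τ ▸ one_mem _, fun e => absurd rfl e⟩, k h.e0 (by decide +kernel) (by decide +kernel),
    k h.e1 (by decide +kernel) (by decide +kernel), k h.ts' (by decide +kernel) (by decide +kernel)]

theorem tW (hp : InW p) : τ p ∈ cj t (κ φ).range ∧
    (p ≠ 1 → ∃ k ∈ cj t (κ φ).range, k * τ p * k⁻¹ = φ ρ) := by
  obtain ⟨q, hq, rfl⟩ := (by decide +kernel : ∀ p, InW p → ∃ q, InV q ∧ T8.v2 * q * T8.v2⁻¹ = p) p hp
  rw [h.cj2]
  refine ⟨conj_mem_cj.2 (h.tV hq).1, fun h1 => ?_⟩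
  obtain ⟨k, hk, e⟩ := (h.tV hq).2 (by rintro rfl; simp at h1)
  exact ⟨_, conj_mem_cj.2 hk, by
    rw [show (t * k * t⁻¹)⁻¹ = t * k⁻¹ * t⁻¹ by group, conj_mul, conj_mul, e, ← h.ts h.h1]⟩

theorem fuse (hp : T8.InA p) (h1 : p ≠ 1) : ∃ n ∈ NN φ t, InV p ∧ n * τ p * n⁻¹ = φ s ∨
    InW p ∧ n * τ p * n⁻¹ = φ ρ ∨ n * τ p * n⁻¹ = φ (ρ * s) := by
  obtain ⟨a, ha, b, hb, rfl⟩ := (by decide +kernel : ∀ p, T8.InA p → ∃ a, InV a ∧ ∃ b, InW b ∧ p = b * a)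
    p hp
  by_cases ea : a = 1
  · subst ea
    rw [mul_one] at h1 ⊢
    obtain ⟨k, hk, e⟩ := (h.tW hb).2 h1
    exact ⟨k, mem_sup_right hk, .inr (.inl ⟨hb, e⟩)⟩
  obtain ⟨k, hk, e⟩ := (h.tV ha).2 ea
  by_cases eb : b = 1
  · subst eb
    rw [one_mul]
    exact ⟨k, mem_sup_left hk, .inl ⟨ha, e⟩⟩
  obtain ⟨l, hl, e'⟩ := (h.tW hb).2 eb
  refine ⟨l * k, mul_mem (mem_sup_right hl) (mem_sup_left hk), .inr (.inr ?_)⟩
  rw [map_mul, map_mul, show l * k * (τ b * τ a) * (l * k)⁻¹ =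
    l * (k * τ b * k⁻¹) * l⁻¹ * (l * (k * τ a * k⁻¹) * l⁻¹) by group, e, h.commK h.h1 hk (h.tW hb).1,
    mul_inv_cancel_right, e', ← h.commK h.h1 map_K hl, mul_inv_cancel_right]

theorem cls (e : IsConj (τ p) (φ r) ∨ IsConj (τ p) (φ s)) :
    p ≠ 1 ∧ ((∃ a, a * p * a⁻¹ = T8.v1) ∨ T8.InA p) := by
  have h1 : orderOf (τ p) = 2 := by
    rcases e with e | e <;> obtain ⟨g, e⟩ := isConj_iff.1 e.symm <;> rw [← e, ord_conj, h.ord2]
  refine ⟨fun e => ne_one_of_ord h1 (e ▸ map_one τ), ?_⟩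
  have e3 := (Cm.of_eq (t := r) (p := z) (q := z) (by decide +kernel)).trans h.tz
  have e4 := (Cm.of_eq (t := r) (p := z') (q := z') (by decide +kernel)).trans h.tz'
  rcases (by decide +kernel : ∀ p : T8, p * p = 1 → T8.InA p ∨ ∃ a, a * p * a⁻¹ = T8.v1 ∨
    a * p * a⁻¹ = T8.v2 ∨ a * p * a⁻¹ = T8.v2 * T8.v1) p (h.tinj (by simpa using sq_of_ord h1))
    with h2 | ⟨a, h2 | h2 | h2⟩
  exacts [.inr h2, .inl ⟨a, h2⟩, by
    have := (h.v2 ▸ isConj_of_eq (φ := τ) a h2).symm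
    exact (e.elim (fun e => h.ur h.tz h.tz' (this.trans e)) fun e => h.us h.tz h.tz' (this.trans e)).elim, by
    have := (isConj_of_eq (φ := τ) a h2).symm
    rw [map_mul, h.v1, h.v2] at this
    exact (e.elim (fun e => h.ur e3 e4 (this.trans e)) fun e => h.us e3 e4 (this.trans e)).elim]

theorem card_X : Nat.card (Cx (φ r)) = 144 := h.XN h.h1 ▸ h.cN

theorem cl_r (e : IsConj (τ p) (φ r)) : ∃ a, a * p * a⁻¹ = T8.v1 := by
  obtain ⟨h1, h2 | h2⟩ := h.cls (.inl e)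
  · exact h2
  obtain ⟨n, -, ⟨-, e1⟩ | ⟨-, e1⟩ | e1⟩ := h.fuse h2 h1 <;>
    replace e1 := (isConj_iff.2 ⟨n, e1⟩).symm.trans e
  exacts [absurd e1 h.sr, absurd (h.h1.isConj.symm.trans e1) h.sr, absurd (card_dvd_of_le
    (grange_le fun p => map_mem_Cx (φ := τ) (T8.zc p))) (by
      rw [h.card_T, h.tc, card_Cx_eq e1, h.card_X]; norm_num)]

theorem sylT : IsSylowIn 2 τ.range ⊤ := by
  have h1 : IsSylowIn 2 (τ.range ⊓ Cx (φ r)) (Cx (φ r)) := ⟨inf_le_right, h.two.to_inf_left, by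
    have := card_mul_relIndex' (inf_le_right : τ.range ⊓ Cx (φ r) ≤ _)
    rw [h.card_X, ← h.v1, h.card_TC, show TG.cnt (fun x => x * T8.v1 = T8.v1 * x) = 16 by
      decide +kernel, h.v1] at this
    omega⟩
  refine sylow_of h.two le_top fun x _ hx ⟨_, e⟩ => ?_
  obtain ⟨p, e1⟩ := conj_mem_of_mem_normalizer hx ⟨_, h.v1⟩
  obtain ⟨a, e2⟩ := h.cl_r (e1 ▸ (isConj_iff.2 ⟨x, rfl⟩).symm)
  have h2 := h1.eq_of_le (Q := (τ.range ⊔ zpowers x) ⊓ Cx (φ r)) (h.two.to_sup_of_normal_left'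
    (isPGroup_zpowers_of_pow e) (zpowers_le.2 hx)).to_inf_left (inf_le_inf_right _ le_sup_left) inf_le_right
  have ha : τ a ∈ τ.range := ⟨a, rfl⟩
  have e3 : Cm τ x T8.v1 p := by rw [Cm, h.v1]; exact e1
  exact (mul_mem_cancel_left ha).1 (h2.le ⟨mul_mem_sup ha (mem_zpowers x), h.v1 ▸ cm_fix.1
    (e3.trans (Cm.of_eq e2))⟩).1

theorem cs : ¬ IsConj (φ ρ) (φ (ρ * s)) := fun e => by
  obtain ⟨g, e1, h1⟩ := ext_T h.sylT T8.zc (u := s2) (by rwa [h.tρ', h.tc])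
  obtain ⟨q, e2⟩ := h1 T8.v1 (by decide +kernel)
  obtain ⟨a, e3⟩ := h.cl_r (h.v1 ▸ e2.isConj.symm)
  have e4 := e1.trans (cm_fix.2 (T8.mem_H a))
  obtain ⟨d, hd, e5⟩ := gimg (h.XN h.h1 ▸ h.v1 ▸ cm_fix.1 (e2.trans (Cm.of_eq e3))) z'_D
  rw [Cm, h.tρ', h.tc] at e4
  exact absurd ((e5.ne_one h.inj).1 ((by decide +kernel : ∀ d, InD d → ρ * s * d = d * (ρ * s) → d = 1)
    d hd (((Cm.comm h.inj e4 e5)).2 (by decide +kernel)))) (by decide +kernel)

theorem cl_s (e : IsConj (τ p) (φ s)) : p ≠ 1 ∧ (InV p ∨ InW p) := by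
  obtain ⟨h1, ⟨a, h2⟩ | h2⟩ := h.cls (.inr e)
  · exact absurd (e.symm.trans (h.v1 ▸ isConj_of_eq (φ := τ) a h2)) h.sr
  obtain ⟨n, -, e1 | e1 | e1⟩ := h.fuse h2 h1
  exacts [⟨h1, .inl e1.1⟩, ⟨h1, .inr e1.1⟩,
    absurd (h.h1.isConj.trans (e.symm.trans (isConj_iff.2 ⟨n, e1⟩))) h.cs]

theorem sylY : IsSylowIn 2 (τ.range ⊓ Cx (φ ρ)) (Cx (φ ρ)) := by
  have := isSylowIn_cent_of_index h.sylT (b := φ ρ) ⟨_, h.tρ'⟩ (by
    rw [h.card_T, ← h.tρ', h.card_TC]; decide +kernel) (by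
      rintro k - ⟨p, e⟩ h1
      have h2 : ∀ s, p * s = s * p := fun s =>
        h.tinj (by simpa [e] using (mem_Cx.1 (h1 ⟨s, rfl⟩)).symm)
      rcases (by decide +kernel : ∀ p : T8, p * T8.e0 = T8.e0 * p → p * T8.v1 = T8.v1 * p →
        p * T8.v2 = T8.v2 * p → p = 1 ∨ p = T8.z) p (h2 _) (h2 _) (h2 _) with rfl | rfl
      · exact ne_one_of_ord ((ord_conj k _).trans h.ord2) (e.symm.trans (map_one τ))
      · exact h.cs (isConj_iff.2 ⟨k, e.symm.trans h.tc⟩))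
  rwa [top_inf_eq] at this

theorem HN (a : H0) : φ a ∈ NN φ t ∨ φ r * φ a ∈ NN φ t := by
  obtain ⟨i, -, j, -, e⟩ := (by decide +kernel : ∀ a : H0, ∃ i < 3, ∃ j < 2,
    InK (z ^ i * ρ ^ j * a) ∨ InK (z ^ i * ρ ^ j * (r * a))) a
  have h1 : φ (z ^ i * ρ ^ j) ∈ NN φ t := by
    rw [map_mul, map_pow, map_pow, h.tz', h.ts h.h1]
    exact mem_sup_right (mul_mem (pow_mem (conj_mem_cj.2 map_K) i) (pow_mem (conj_mem_cj.2 map_K) j))
  rw [← map_mul]
  exact e.imp (fun e => (mul_mem_cancel_left h1).1 (map_mul φ _ _ ▸ mem_sup_left (map_K e)))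
    fun e => (mul_mem_cancel_left h1).1 (map_mul φ _ _ ▸ mem_sup_left (map_K e))

theorem tM : t ∈ normalizer (NN φ t : Set G) := by
  rw [mem_normalizer_iff_cj, cj_sup, ← cj_mul, h.tt, cj_one, sup_comm]

theorem HM (a : H0) : φ a ∈ normalizer (NN φ t : Set G) := by
  have h1 : φ r ∈ normalizer (NN φ t : Set G) := by
    rw [mem_normalizer_iff_cj, cj_sup, ← cj_mul, ← mem_Cx.1 (cm_fix.1 h.tr), cj_mul,
      mem_normalizer_iff_cj.1 (nK r)]
  exact (h.HN a).elim (le_normalizer ·) fun e => (mul_mem_cancel_left h1).1 (le_normalizer e)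

theorem TM : τ.range ≤ normalizer (NN φ t : Set G) := grange_le fun p =>
  (TG.eq_top_of_genB (gs := [T8.e0, T8.v1, T8.v2]) (D := 4) (by decide +kernel)
    (S := (normalizer (NN φ t : Set G)).comap τ) (by
      simp only [List.forall_mem_cons, mem_comap, h.e0, h.v1, h.v2]
      exact ⟨h.HM _, h.HM _, h.tM, by simp⟩)).ge (mem_top p)

theorem XM : Cx (φ r) ≤ normalizer (NN φ t : Set G) := fun g hg => by
  rcases h.memN (h.XN h.h1 ▸ hg) with ⟨a, rfl⟩ | ⟨a, e⟩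
  exacts [h.HM a, (mul_mem_cancel_left h.tM).1 (e ▸ h.HM a)]

theorem uqM : Uq (normalizer (NN φ t : Set G)) (φ r) := uq_of h.XM fun g hg => by
  obtain ⟨m, hm, p, e⟩ := (h.sylT.of_le h.TM le_top).exists_conj_mem hg
    (isPGroup_zpowers_of_pow (k := 1) (by rw [conj_pow, pow_one, sq, sq_map]; simp))
  obtain ⟨a, e1⟩ := h.cl_r (e ▸ ((isConj_iff.2 ⟨g, rfl⟩).trans (isConj_iff.2 ⟨m, rfl⟩)).symm)
  refine ⟨m⁻¹ * (τ a)⁻¹, mul_mem (inv_mem hm) (inv_mem (h.TM ⟨a, rfl⟩)), ?_⟩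
  conv_lhs => rw [← h.v1, ← e1, map_mul, map_mul, map_inv, e]
  group

theorem card_K : Nat.card (κ φ).range = 60 := by
  have := AG.two_mul_card (n := 5)
  rw [← Nat.card_congr (MonoidHom.ofInjective (f := κ φ) fun a b e =>
    Subtype.ext (congrArg Prod.snd (h.inj e))).toEquiv]
  simp only [Nat.factorial] at this
  omega

theorem LM : centralizer (W0.map τ : Set G) ≤ normalizer (NN φ t : Set G) := by
  set L := centralizer (W0.map τ : Set G)
  have hK : (κ φ).range ≤ L := fun k hk => by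
    rintro _ ⟨p, hp, rfl⟩
    exact (h.commK h.h1 hk (h.tW hp).1).symm
  have hL : L ≤ Cx (φ ρ) := fun g hg => mem_Cx.2 (hg _ ⟨s2, show InW s2 by decide +kernel, h.tρ'⟩).symm
  have h4 : Nat.card (W0.map τ) = 4 := by
    rw [card_map_of_injective h.tinj]; exact (TG.card_sub _ _).trans (by decide +kernel)
  rcases ft3 (K := L) (V := W0.map τ) (gmap_le fun p hp => by
      rintro _ ⟨q, hq, rfl⟩
      exact mem_Cx.1 (map_mem_Cx ((by decide +kernel : ∀ p, InW p → ∀ q, InW q → q * p = p * q) p hp q hq)))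
    (centralizer_le_normalizer _) (by rw [h4]; norm_num) (h.ord3 (a := z')) (hK map_K) (fun g hg => by
      have k : ∀ {p q}, InW p → T8.v2 * p * T8.v2⁻¹ = q → t * g * t⁻¹ ∈ Cx (τ q) := fun hp e => by
        rw [← e, h.cj2]; exact conj_mem_Cx.2 (mem_Cx.2 (hg.1 _ ⟨_, hp, rfl⟩).symm)
      obtain ⟨a, e⟩ := h.cz (h.tz' ▸ conj_mem_Cx.2 hg.2 : t * g * t⁻¹ ∈ _)
      rw [← e] at k
      obtain ⟨i, -, e1⟩ := (by decide +kernel : ∀ a : H0, a * z = z * a → a * s = s * a → a * v = v * a →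
        ∃ i < 3, a = z ^ i ∨ a = v * z ^ i ∨ a = v * s * z ^ i ∨ a = s * z ^ i) a
        (h.comm (mem_Cx.1 (e ▸ h.tz' ▸ conj_mem_Cx.2 hg.2)))
        (h.comm (mem_Cx.1 (h.ts' ▸ k (p := s2) (by decide +kernel) (by decide +kernel))))
        (h.comm (mem_Cx.1 (h.e0 ▸ k (p := T8.e2) (by decide +kernel) (by decide +kernel))))
      obtain ⟨p, hp, e2⟩ : ∃ p, InW (T8.v2 * p * T8.v2⁻¹) ∧ φ a = τ p * φ z ^ i := by
        rcases e1 with rfl | rfl | rfl | rfl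
        exacts [⟨1, by decide +kernel, by simp⟩, ⟨T8.e0, by decide +kernel, by simp [h.e0]⟩,
          ⟨T8.e1, by decide +kernel, by simp [h.e1]⟩, ⟨T8.f1, by decide +kernel, by simp [h.ts']⟩]
      rw [show g = τ (T8.v2 * p * T8.v2⁻¹) * φ z' ^ i by
        rw [h.cj2, h.tz, conj_pow, conj_mul, ← e2, e, h.ti]; simp [← mul_assoc, h.tt, mul_assoc _ t t]]
      exact mul_mem_sup (mem_map_of_mem τ hp) (npow_mem_zpowers _ i)) with ⟨h1, -⟩ | ⟨h1, -, h2, -⟩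
  · have k : ∀ i (hP : InU i 1 ∧ ∀ a, InU i a → ∀ b, InU i b → InU i (a * b⁻¹)),
        (∀ a, InU i a → InU i (z' * a * z'⁻¹)) → ∀ a, InU i a → φ a ∈ opOf 3 L := fun i hP hz a ha =>
      h1 ((sg _ hP).map φ) (gmap_le fun a ha => hK (map_K ha.1)) (by
        obtain ⟨k, e⟩ := (isPGroup_iff_mem.2 (by
          rintro _ ⟨a, ha, rfl⟩
          exact ⟨1, by rw [pow_one, sq, sq_map ha.2.1]⟩) : IsPGroup 2 ((sg _ hP).map φ)).exists_card_eq
        rw [e]; exact Nat.Coprime.pow_left k (by norm_num)) (gnorm hz) (mem_map_of_mem φ ha)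
    have := orderOf_dvd_natCard _ (mul_mem
      (k 4 (by decide +kernel) (by decide +kernel) (a5 [1, 0, 3, 2, 4]) (by decide +kernel))
      (k 3 (by decide +kernel) (by decide +kernel) (a5 [1, 0, 4, 3, 2]) (by decide +kernel)))
    rw [← map_mul, h.ord3] at this
    exact absurd ((coprime_card_opOf (p := 3) L).symm.eq_one_of_dvd this) (by norm_num)
  have h3 : ∀ x ∈ opOf 3 L, x * x * (x * x) = 1 := fun x hx => by
    obtain ⟨p, hp, e⟩ := h2 x hx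
    rw [← e, ← map_mul, (by decide +kernel : ∀ p, InW p → p * p = 1) p hp, map_one]
  rcases h1 with h1 | ⟨h1, h5⟩
  · have h5 : opOf 3 L ≤ τ.range := le_sup_left.trans ((h.sylY.eq_of_le
      (IsPGroup.to_sup_of_normal_left' (isPGroup_iff_mem.2 fun x hx => ⟨2, by
        simpa [pow_succ, mul_assoc] using h3 x hx⟩) h.sylY.pgroup (by
          rintro _ ⟨⟨p, rfl⟩, hp⟩
          refine normalizer_le_normalizer_opOf _ (Core.normalizer_le_normalizer_centralizer _ (gnorm ?_))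
          exact (by decide +kernel : ∀ p : T8, p * s2 = s2 * p → ∀ q, InW q → InW (p * q * p⁻¹)) p
            (h.tinj (by simpa [h.tρ'] using mem_Cx.1 hp)))) le_sup_right
      (sup_le ((opOf_le L).trans hL) inf_le_right)).le.trans inf_le_left)
    have h6 : opOf 3 L ⊓ (κ φ).range = ⊥ := eq_bot_iff.2 fun x hx => by
      obtain ⟨a, ha, rfl⟩ := mem_K.1 hx.2
      rcases (by decide +kernel : ∀ a, InK a → a = 1 ∨ ∃ b, InK b ∧
        a * (b * a * b⁻¹) * (a * (b * a * b⁻¹)) * (a * (b * a * b⁻¹) * (a * (b * a * b⁻¹))) ≠ 1) a ha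
        with rfl | ⟨b, hb, e⟩
      · exact map_one φ
      · exact absurd (h.inj (by simpa using h3 _ (mul_mem hx.1 (conj_mem_of_mem_normalizer
          (le_normalizer_opOf L (hK (map_K hb))) hx.1)))) e
    intro g hg
    obtain ⟨k, hk, e⟩ := Class2.exists_mul_of_relIndex_le hK (H := opOf 3 L) (by
      rw [h1, ← inf_relIndex_right, h6, relIndex_bot_left, h.card_K]) hg
    exact (mul_mem_cancel_left (inv_mem (le_normalizer (mem_sup_left hk)))).1 (h.TM (h5 e))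
  · have := card_dvd_of_le hK
    rw [h.card_K, ← card_mul_relIndex' (opOf_le (p := 3) L), h1, h5, h4] at this
    norm_num at this

theorem YM : Cx (φ ρ) ≤ normalizer (NN φ t : Set G) := by
  have hρ : φ ρ * φ ρ = 1 := sq_map
  have hL : ∀ k ∈ Cx (φ ρ), Cm τ k T8.e2 T8.e2 → k ∈ normalizer (NN φ t : Set G) := fun k hk e => h.LM (by
    rintro _ ⟨p, hp, rfl⟩
    have e1 : Cm τ k s2 s2 := cm_fix.2 (h.tρ' ▸ hk)
    refine (mem_Cx.1 (cm_fix.1 ?_)).symm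
    rcases (by decide +kernel : ∀ p, InW p → p = 1 ∨ p = s2 ∨ p = T8.e2 ∨ p = T8.e2 * s2) p hp with
      rfl | rfl | rfl | rfl
    exacts [Cm.one, e1, e, e.mul e1])
  have hs : ∀ p, InW p → p ≠ 1 → IsConj (τ p) (φ s) := fun p hp h1 =>
    let ⟨k, _, e⟩ := (h.tW hp).2 h1; (isConj_iff.2 ⟨k, e⟩).trans h.h1.isConj
  refine le_of_weaklyClosed_mod h.sylY (Z := zpowers (φ ρ)) (zpowers_le.2 ⟨⟨_, h.tρ'⟩, mem_Cx.2 rfl⟩)
    (fun k hk u hu => ?_) (w := τ T8.e2) ⟨⟨_, rfl⟩, h.tρ' ▸ map_mem_Cx (by decide +kernel)⟩ ?_ ?_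
    fun k hk h4 => ?_
  · rcases (cases_two hρ).1 hu with rfl | rfl
    exacts [by simp, mem_Cx.1 hk]
  · rintro k hk ⟨⟨p, e⟩, -⟩
    have e1 : Cm τ k s2 s2 := cm_fix.2 (h.tρ' ▸ hk)
    obtain ⟨h1, h2⟩ := h.cl_s ((Cm.isConj e).symm.trans (hs _ (by decide +kernel) (by decide +kernel)))
    obtain ⟨h3, h4⟩ := h.cl_s ((Cm.mul e e1).isConj.symm.trans (hs _ (by decide +kernel) (by decide +kernel)))
    rw [← e, cases_two hρ, ← h.tρ', ← map_inv, ← map_mul]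
    exact ((by decide +kernel : ∀ p : T8, p ≠ 1 → InV p ∨ InW p → p * s2 ≠ 1 → InV (p * s2) ∨ InW (p * s2) →
      T8.e2⁻¹ * p = 1 ∨ T8.e2⁻¹ * p = s2) p h1 h2 h3 h4).imp (fun e => (congrArg τ e).trans (map_one τ)) (congrArg τ)
  · have ho := odd_card_opOf (Cx (φ ρ))
    have hn : ∀ a, a.1 = 1 → φ a ∈ normalizer (opOf 2 (Cx (φ ρ)) : Set G) := fun a e =>
      le_normalizer_opOf _ (map_mem_Cx (Prod.ext (by simp [e]) (by simp [ρ, a3])))
    have h3 : ¬ 3 ∣ Nat.card (opOf 2 (Cx (φ ρ))) := fun h3 => by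
      obtain ⟨⟨w, hw⟩, e⟩ := exists_prime_orderOf_dvd_card' 3 h3
      rw [orderOf_mk] at e
      have h4 := h.sylS.cj t
      rw [cj_zpowers, cj_Cx, ← h.tz, ← h.ts h.h1] at h4
      obtain ⟨k, hk, h5⟩ := h4.exists_conj_mem (opOf_le _ hw) (isPGroup_zpowers_of_pow (k := 1)
        (by rw [pow_one, ← e, pow_orderOf_eq_one]))
      have h6 := conj_mem_of_mem_normalizer (le_normalizer_opOf (p := 2) _ hk) hw
      have h7 : φ z' ∈ opOf 2 (Cx (φ ρ)) := by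
        rcases cases_three cube_map h5 with e1 | e1 | e1
        · rw [← ord_conj k, e1] at e; simp at e
        exacts [e1 ▸ h6, inv_mem_iff.1 (e1 ▸ h6)]
      obtain ⟨a, e1, e2⟩ := (by decide +kernel : ∃ a : H0, a.1 = 1 ∧
        (z' * (a * z' * a⁻¹) * (z' * (a * z' * a⁻¹)) = 1 ∧ z' * (a * z' * a⁻¹) ≠ 1))
      exact ne_one_of_ord (h.ord2 e2) (odd_one ho (by
        simpa using mul_mem h7 (conj_mem_of_mem_normalizer (hn a e1) h7)) (sq_map e2.1))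
    have h4 : ∀ a, (∃ b, b * a * b⁻¹ = r) → opOf 2 (Cx (φ ρ)) ⊓ Cx (φ a) = ⊥ := fun a ⟨b, e⟩ => by
      have h4 := card_dvd_of_le (inf_le_right : opOf 2 (Cx (φ ρ)) ⊓ Cx (φ a) ≤ _)
      have h5 := card_dvd_of_le (inf_le_left : opOf 2 (Cx (φ ρ)) ⊓ Cx (φ a) ≤ _)
      rw [card_Cx_eq (isConj_of_eq b e), h.card_X] at h4
      exact card_eq_one.1 (Nat.Coprime.eq_one_of_dvd ((show Nat.Coprime _ (2 ^ 4 * 3 ^ 2) from
        Nat.Coprime.mul_right (Nat.Coprime.pow_right 4 (Nat.coprime_two_right.2 ho))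
          (Nat.Coprime.pow_right 2 ((Nat.prime_three.coprime_iff_not_dvd.2 h3).symm))).coprime_dvd_left h5) h4)
    refine (le_Cx_mul (sq_map (a := ρ')) (sq_map (a := ρ' * z')) (hn _ rfl) (hn _ (by decide +kernel))
      (h4 _ (by decide +kernel)) (h4 _ (by decide +kernel))).trans ?_
    rw [← map_mul, show ρ' * (ρ' * z') = z' by decide +kernel]
    exact h.tz'.cx_le h.tM (h.cz.trans (grange_le h.HM))
  · rcases (cases_two hρ).1 h4 with e | e
    · exact hL k hk (inv_mul_eq_one.1 e)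
    · refine (mul_mem_cancel_left (h.HM r)).1 (hL _ (mul_mem (map_mem_Cx (by decide +kernel)) hk) ?_)
      exact Cm.trans (q := T8.e2 * s2) (by rw [Cm, map_mul, h.tρ', ← e, mul_inv_cancel_left])
        (h.v1 ▸ Cm.of_eq (by decide +kernel))

theorem sM : Cx (φ s) ≤ normalizer (NN φ t : Set G) := (h.ts h.h1).cx_le h.tM h.YM

theorem WM (hp : InW p) (h1 : p ≠ 1) : Cx (τ p) ≤ normalizer (NN φ t : Set G) := by
  obtain ⟨k, hk, e⟩ := (h.tW hp).2 h1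
  simpa [← e, mul_assoc] using cx_conj_le (inv_mem (le_normalizer (mem_sup_right hk))) h.YM

theorem cM : Cx (φ (ρ * s)) ≤ normalizer (NN φ t : Set G) := by
  have hc : φ (ρ * s) * φ (ρ * s) = 1 := sq_map
  have hT : τ.range ≤ Cx (φ (ρ * s)) := grange_le fun p => h.tc ▸ T8.mem_H p
  refine le_of_weaklyClosed_mod (h.sylT.of_le hT le_top) (Z := zpowers (φ (ρ * s)))
    (zpowers_le.2 ⟨_, h.tc⟩) (fun k hk u hu => ?_) (w := τ s2) ⟨_, rfl⟩ ?_
    (opOf_le_of_four (ord_map h.tinj (p := s2) (by decide +kernel) (by decide +kernel))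
      (ord_map h.tinj (p := T8.e2) (by decide +kernel) (by decide +kernel))
      (h.tinj.ne (by decide +kernel)) (mem_Cx.1 (map_mem_Cx (by decide +kernel))) (hT ⟨_, rfl⟩)
      (hT ⟨_, rfl⟩) (inf_le_right.trans (h.WM (by decide +kernel) (by decide +kernel)))
      (inf_le_right.trans (h.WM (by decide +kernel) (by decide +kernel)))
      (map_mul τ _ _ ▸ inf_le_right.trans (h.WM (by decide +kernel) (by decide +kernel))))
    fun k hk h4 => ?_
  · rcases (cases_two hc).1 hu with rfl | rfl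
    exacts [by simp, mem_Cx.1 hk]
  · rintro k hk ⟨p, e⟩
    obtain ⟨h1, h2⟩ := h.cl_s ((Cm.isConj e).symm.trans (h.tρ' ▸ h.h1.isConj))
    obtain ⟨h3, h4⟩ := h.cl_s ((Cm.mul e (cm_fix.2 (h.tc ▸ hk))).isConj.symm.trans (by
      rw [show s2 * T8.z = T8.f1 by decide +kernel, h.ts']))
    rw [← e, cases_two hc, ← h.tc, ← map_inv, ← map_mul]
    exact ((by decide +kernel : ∀ p : T8, p ≠ 1 → InV p ∨ InW p → p * T8.z ≠ 1 →
      InV (p * T8.z) ∨ InW (p * T8.z) → s2⁻¹ * p = 1 ∨ s2⁻¹ * p = T8.z) p h1 h2 h3 h4).imp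
      (fun e => (congrArg τ e).trans (map_one τ)) (congrArg τ)
  · rw [h.tρ'] at h4
    rcases (cases_two hc).1 h4 with e | e
    · exact h.YM (mem_Cx'.2 (inv_mul_eq_one.1 e).symm)
    · refine (mul_mem_cancel_left h.tM).1 (h.YM (cm_fix.1 (Cm.trans ?_ (h.ts h.h1))))
      rw [Cm, inv_mul_eq_iff_eq_mul.1 e, ← map_mul]
      exact congrArg φ (by decide +kernel)

theorem normal : (NN φ t).Normal := normalizer_eq_top_iff.1 (eq_top_iff.2 fun g _ => h.uqM g (by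
  obtain ⟨n, h1, h2, h3⟩ := exists_common_inv (K := ⊤) (h.ord2 (a := ρ)) ((ord_conj g _).trans (h.ord2 (a := r)))
    (mem_top _) (mem_top _) fun k _ e => h.sr ((h.h1.isConj.symm.trans (isConj_iff.2 ⟨k, e⟩)).trans
      (isConj_iff.2 ⟨g, rfl⟩).symm)
  obtain ⟨k, hk, ⟨p, e⟩, h4⟩ := h.sylY.exists_conj_mem (mem_Cx.2 h2.symm.eq)
    (isPGroup_zpowers_of_pow (k := 1) (by rw [pow_one, sq, sq_of_ord h1]))
  have h5 : orderOf (τ p) = 2 := by rw [e, ord_conj, h1]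
  have h6 : Cx (τ p) ≤ normalizer (NN φ t : Set G) := by
    rcases (by decide +kernel : ∀ p : T8, p * p = 1 → p * s2 = s2 * p →
      T8.InA p ∨ ∃ a, a * p * a⁻¹ = T8.v1) p (h.tinj (by simpa using sq_of_ord h5))
      (h.tinj (by simpa [h.tρ', e] using mem_Cx.1 h4)) with h6 | ⟨a, e1⟩
    · obtain ⟨m, hm, ⟨-, e1⟩ | ⟨-, e1⟩ | e1⟩ := h.fuse h6 fun e1 => ne_one_of_ord h5 (e1 ▸ map_one τ)
      · simpa [← e1, mul_assoc] using cx_conj_le (inv_mem (le_normalizer hm)) h.sM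
      · simpa [← e1, mul_assoc] using cx_conj_le (inv_mem (le_normalizer hm)) h.YM
      · simpa [← e1, mul_assoc] using cx_conj_le (inv_mem (le_normalizer hm)) h.cM
    · exact (Cm.of_eq e1).cx_le (h.TM ⟨a, rfl⟩) (h.v1 ▸ h.XM)
  have h7 := cx_conj_le (inv_mem (h.YM hk)) h6
  rw [e] at h7
  exact h7 (by simpa [mul_assoc] using mem_Cx.2 h3.eq)))

end Tw

end CfsgLib.Rec3.S8
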