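import Cfsg.Agent.Lib.Rec3.S8e
import Cfsg.Agent.Lib.Comp.FStar

/-!
# 3-local recognition of `S₈` (plans/REC3A.md, P3): the case `ρ ∼ s`, `F*(G) = A₅ × A₅`
-/

set_option autoImplicit false
set_option Elab.async false
set_option linter.unusedSectionVars false
set_option synthInstance.maxSize 100000

namespace CfsgLib.Rec3.S8.Tw

open Subgroup Cfsg CfsgLib.Tech CfsgLib.PComp CfsgLib.W2 Function PG

variable {G : Type*} [Group G] [Finite G] {φ : H0 →* G} {t g x : G} {M : Subgroup G} {τ : T8 →* G}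
variable (h : Tw φ t τ)
include h

theorem κinj : Injective (κ φ) := fun _ _ e => Subtype.ext (congrArg Prod.snd (h.inj e))

theorem cent (h1 : ∀ k ∈ (κ φ).range, g * k = k * g) (h2 : ∀ k ∈ cj t (κ φ).range, g * k = k * g) :
    g = 1 := by
  have e1 := h2 _ (h.tz' ▸ conj_mem_cj.2 map_K : φ z ∈ _)
  obtain ⟨a, rfl⟩ := h.cz (mem_Cx.2 e1)
  rw [(by decide +kernel : ∀ a : H0, a * z = z * a → a * ρ = ρ * a → a * z' = z' * a → a * v = v * a →
    a = 1) a (h.comm e1) (h.comm (h2 _ (h.ts h.h1 ▸ conj_mem_cj.2 map_K : φ ρ ∈ _)))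
    (h.comm (h1 _ map_K)) (h.comm (h1 _ map_K)), map_one]

theorem centN : centralizer (NN φ t : Set G) = ⊥ := eq_bot_iff.2 fun _ hg =>
  h.cent (fun _ hk => (hg _ (mem_sup_left hk)).symm) fun _ hk => (hg _ (mem_sup_right hk)).symm

theorem NK : NN φ t ≤ normalizer ((κ φ).range : Set G) :=
  sup_le le_normalizer fun _ hw => centralizer_le_normalizer _ fun _ hu => h.commK h.h1 hu hw

theorem N_le [M.Normal] (hK : (κ φ).range ≤ M) : NN φ t ≤ M :=
  sup_le hK ((cj_mono t hK).trans (cj_eq_of_normal t M).le)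

theorem iso : Nonempty (NN φ t ≃* alternatingGroup (Fin 5) × alternatingGroup (Fin 5)) := by
  have hr : ((MulAut.conj t).toMonoidHom.comp (κ φ)).range = cj t (κ φ).range :=
    MonoidHom.range_comp _ _
  have hc : ∀ m n, Commute (κ φ m) (((MulAut.conj t).toMonoidHom.comp (κ φ)) n) := fun m n =>
    h.commK h.h1 ⟨m, rfl⟩ (hr.le ⟨n, rfl⟩)
  have hi := (MonoidHom.noncommCoprod_injective _ _ hc).2 ⟨h.κinj,
    (MulAut.conj t).injective.comp h.κinj, by
      rw [hr]
      exact disjoint_def.2 fun h1 h2 => h.cent (fun _ hk => (h.commK h.h1 hk h2).symm)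
        fun _ hk => h.commK h.h1 h1 hk⟩
  exact ⟨((MulEquiv.subgroupCongr (by rw [MonoidHom.noncommCoprod_range, hr])).trans
    (MonoidHom.ofInjective hi).symm).trans ((altE 5).prodCongr (altE 5)).symm⟩

omit h in
theorem simple5 : IsSimpleGroup (AG 5) :=
  have := alternatingGroup.isSimpleGroup (α := Fin 5) (by simp)
  (altE 5).symm.isSimpleGroup

theorem minimal (hM : M.Normal) (hN : M ≤ NN φ t) : M = ⊥ ∨ M = NN φ t := by
  have := simple5
  rcases (hM.comap (κ φ)).eq_bot_or_eq_top with e | e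
  · have k : ∀ x ∈ M, ∀ k ∈ (κ φ).range, x * k = k * x := fun x hx k hk => by
      obtain ⟨a, e1⟩ := mul_mem (conj_mem_of_mem_normalizer (h.NK (hN hx)) hk) (inv_mem hk)
      have h1 : a ∈ M.comap (κ φ) := by
        rw [mem_comap, e1, mul_assoc, mul_assoc, ← mul_assoc k]
        exact mul_mem hx (hM.conj_mem _ (inv_mem hx) k)
      rw [e.le h1, map_one] at e1
      exact mul_inv_eq_iff_eq_mul.1 (mul_inv_eq_one.1 e1.symm)
    refine .inl (eq_bot_iff.2 fun x hx => h.cent (k x hx) fun u hu => ?_)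
    have := congrArg (fun a => t * a * t⁻¹) (k _ (hM.conj_mem' x hx t) _ (mem_cj.1 hu))
    simpa [mul_assoc] using this
  · exact .inr (hN.antisymm (h.N_le (grange_le fun a => e.ge (mem_top a))))

theorem fstar : generalizedFittingSubgroup G = NN φ t := by
  have := simple5
  have := h.normal
  have := Comp.layer_normal (G := G)
  have hK : IsComponent (κ φ).range := ⟨.step _ _ le_sup_left h.normal.isSubnormal
    ((normal_subgroupOf_iff_le_normalizer le_sup_left).2 h.NK), Comp.qs_of_mulEquiv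
      (Comp.qs_of_isSimpleGroup fun hc => absurd (hc.is_comm.comm (AG.al [1, 2, 0, 3, 4])
        (AG.al [0, 1, 3, 4, 2])) (by decide +kernel)) (MonoidHom.ofInjective h.κinj)⟩
  have h1 := h.N_le (Comp.comp_le_layer hK)
  rw [Comp.fstar_def, eq_bot_iff.2 ((Comp.fitting_le_centralizer_layer.trans (centralizer_le h1)).trans
    h.centN.le), sup_bot_eq]
  exact le_antisymm (Comp.layer_le_iff.2 fun L hL => (Comp.comp_le_or_commutator_of_normal hL).resolve_right
    fun hc => Comp.comp_ne_bot hL (eq_bot_iff.2 (h.centN ▸ commutator_eq_bot_iff_le_centralizer.1 hc))) h1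

theorem quot [(NN φ t).Normal] (g : G) : ∃ i j : Fin 2, (g : G ⧸ NN φ t) = φ r ^ i.1 * t ^ j.1 := by
  obtain ⟨n, hn, e⟩ := (h.syl.of_le (K := NN φ t) (gmap_le fun d hd => by
    obtain ⟨i, -, j, -, rfl⟩ := D_form d hd
    rw [map_mul, map_pow, map_pow, h.tz']
    exact mul_mem (mem_sup_right (pow_mem (conj_mem_cj.2 map_K) i)) (mem_sup_left (pow_mem map_K j)))
    le_top).frattini (g := g) (le_normalizer_of_normal (mem_top g))
  have k : ∀ a, ∃ i : Fin 2, (φ a : G ⧸ NN φ t) = φ r ^ i.1 := fun a => by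
    rcases h.HN a with e | e
    exacts [⟨0, by simpa using e⟩, ⟨1, by
      rw [← (inv_eq_of_mul_eq_one_left sq_map : (φ r)⁻¹ = φ r), ← QuotientGroup.eq] at e
      simpa using e.symm⟩]
  have e1 : ((n * g : G) : G ⧸ NN φ t) = g := by
    rw [QuotientGroup.mk_mul, (QuotientGroup.eq_one_iff _).2 hn, one_mul]
  rcases h.memN e with ⟨a, e2⟩ | ⟨a, e2⟩ <;> obtain ⟨i, e3⟩ := k a
  · exact ⟨i, 0, by simp [← e1, ← e2, e3]⟩
  · refine ⟨i, 1, ?_⟩
    rw [← e1, ← inv_mul_eq_iff_eq_mul.2 e2, h.ti, QuotientGroup.mk_mul, e3, ← QuotientGroup.mk_pow,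
      ← QuotientGroup.mk_mul, ((show Commute t _ from mem_Cx.1 (cm_fix.1 h.tr)).pow_right _).eq]
    simp

theorem final : ∃ N : Subgroup G, N.Normal ∧ generalizedFittingSubgroup G = N ∧
    Nonempty (N ≃* alternatingGroup (Fin 5) × alternatingGroup (Fin 5)) ∧
    (∀ K : Subgroup G, K.Normal → K ≤ N → K = ⊥ ∨ K = N) ∧ N.index = 4 ∧ ∀ g : G, g ^ 2 ∈ N := by
  have := h.normal
  refine ⟨_, this, h.fstar, h.iso, fun _ => h.minimal, ?_, fun g => ?_⟩
  · have h1 := Nat.card_le_card_of_surjective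
      (fun p : Fin 2 × Fin 2 => ((φ r : G ⧸ NN φ t) ^ p.1.1 * t ^ p.2.1)) fun q => by
        obtain ⟨g, rfl⟩ := QuotientGroup.mk_surjective q
        obtain ⟨i, j, e⟩ := h.quot g
        exact ⟨(i, j), e.symm⟩
    have h2 := card_subgroup_dvd_card τ.range
    obtain ⟨e⟩ := h.iso
    have h3 := two_mul_nat_card_alternatingGroup (α := Fin 5)
    rw [Nat.card_perm, Nat.card_fin, show Nat.factorial 5 = 120 from rfl] at h3
    rw [h.card_T, ← (NN φ t).card_mul_index, Nat.card_congr e.toEquiv, Nat.card_prod,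
      show Nat.card (alternatingGroup (Fin 5)) = 60 by omega] at h2
    have h4 := (NN φ t).index_ne_zero_of_finite
    rw [← index_eq_card] at h1
    simp only [Nat.card_prod, Nat.card_fin] at h1
    omega
  · obtain ⟨i, j, e⟩ := h.quot g
    rw [← QuotientGroup.eq_one_iff, QuotientGroup.mk_pow, e, ← QuotientGroup.mk_pow,
      ← QuotientGroup.mk_pow, ← QuotientGroup.mk_mul, ← QuotientGroup.mk_pow,
      ((show Commute t _ from mem_Cx.1 (cm_fix.1 h.tr)).symm.pow_pow _ _).mul_pow, pow_right_comm,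
      pow_right_comm t, sq, sq, sq_map, h.tt]
    simp

end CfsgLib.Rec3.S8.Tw
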